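import Mathlib

set_option autoImplicit false

namespace Cfsg.Agent.Lib.Helper3

open scoped commutatorElement

theorem bs_comm_pow {M : Type*} [Monoid M] (γ α ζ : M) (h1 : γ * α = ζ * α * γ)
    (h2 : Commute ζ α) (h3 : Commute ζ γ) (i j : ℕ) :
    γ ^ j * α ^ i = ζ ^ (i * j) * α ^ i * γ ^ j := by
  have hA : ∀ i : ℕ, γ * α ^ i = ζ ^ i * α ^ i * γ := by
    intro i
    induction i with
    | zero => simp
    | succ i ih =>
      have e : α ^ i * ζ = ζ * α ^ i := ((h2.pow_right i).eq).symm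
      calc γ * α ^ (i + 1) = (γ * α ^ i) * α := by rw [pow_succ, mul_assoc]
        _ = ζ ^ i * α ^ i * (γ * α) := by rw [ih]; simp only [mul_assoc]
        _ = ζ ^ i * α ^ i * (ζ * α * γ) := by rw [h1]
        _ = ζ ^ i * (α ^ i * ζ) * α * γ := by simp only [mul_assoc]
        _ = ζ ^ i * (ζ * α ^ i) * α * γ := by rw [e]
        _ = ζ ^ (i + 1) * α ^ (i + 1) * γ := by simp only [pow_succ, mul_assoc]
  induction j with
  | zero => simp
  | succ j ih =>
    have e : γ ^ j * ζ ^ i = ζ ^ i * γ ^ j := (((h3.pow_left i).pow_right j).eq).symm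
    calc γ ^ (j + 1) * α ^ i = γ ^ j * (γ * α ^ i) := by rw [pow_succ, mul_assoc]
      _ = γ ^ j * (ζ ^ i * α ^ i * γ) := by rw [hA]
      _ = (γ ^ j * ζ ^ i) * α ^ i * γ := by simp only [mul_assoc]
      _ = ζ ^ i * (γ ^ j * α ^ i) * γ := by rw [e]; simp only [mul_assoc]
      _ = ζ ^ i * (ζ ^ (i * j) * α ^ i * γ ^ j) * γ := by rw [ih]
      _ = (ζ ^ i * ζ ^ (i * j)) * α ^ i * (γ ^ j * γ) := by simp only [mul_assoc]
      _ = ζ ^ (i * (j + 1)) * α ^ i * γ ^ (j + 1) := by
        rw [← pow_add, ← pow_succ]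
        have : i + i * j = i * (j + 1) := by ring
        rw [this]

open Finset in
theorem bs_fourier {V : Type*} [CommGroup V] (γ α ζ : MulAut V) (m : ℕ)
    (h1 : γ * α = ζ * α * γ) (h2 : Commute ζ α) (h3 : Commute ζ γ)
    (hm : ζ ^ m = 1) (hfix : ∀ e : ℕ, ζ ^ e ≠ 1 → ∀ v : V, (ζ ^ e) v = v → v = 1)
    (hord : ∀ i : ℕ, 0 < i → i < m → ζ ^ i ≠ 1)
    (htor : ∀ v : V, v ^ m = 1 → v = 1)
    (u : ℕ → V) (hu : ∀ i, γ (u i) = u i)
    (hprod : ∏ i ∈ range m, (α ^ i) (u i) = 1) (k : ℕ) (hk : k < m) : u k = 1 := by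
  have hγ : ∀ j i : ℕ, (γ ^ j) (u i) = u i := by
    intro j i
    induction j with
    | zero => simp
    | succ j ih => rw [pow_succ, MulAut.mul_apply, hu, ih]
  have h4 : ∀ j : ℕ, ∏ i ∈ range m, (ζ ^ (i * j)) ((α ^ i) (u i)) = 1 := by
    intro j
    have e0 := congrArg (γ ^ j) hprod
    rw [map_prod, map_one] at e0
    refine Eq.trans (Finset.prod_congr rfl (fun i _ => ?_)) e0
    have e := bs_comm_pow γ α ζ h1 h2 h3 i j
    have e2 := congrArg (fun f : MulAut V => f (u i)) e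
    simp only [MulAut.mul_apply] at e2
    rw [e2, hγ]
  have h5 : ∏ j ∈ range m, ∏ i ∈ range m, (ζ ^ (j * (i + m - k))) ((α ^ i) (u i)) = 1 := by
    apply Finset.prod_eq_one
    intro j _
    have e0 := congrArg (ζ ^ (j * (m - k))) (h4 j)
    rw [map_prod, map_one] at e0
    refine Eq.trans (Finset.prod_congr rfl (fun i _ => ?_)) e0
    rw [← MulAut.mul_apply _ (ζ ^ (j * (m - k))) (ζ ^ (i * j)), ← pow_add]
    have hx : j * (i + m - k) = j * (m - k) + i * j := by
      have : i + m - k = i + (m - k) := by omega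
      rw [this]; ring
    rw [hx]
  rw [Finset.prod_comm] at h5
  have h6 : ∀ i ∈ range m, i ≠ k →
      ∏ j ∈ range m, (ζ ^ (j * (i + m - k))) ((α ^ i) (u i)) = 1 := by
    intro i hi hik
    have hi' := Finset.mem_range.mp hi
    obtain ⟨e, he⟩ : ∃ e : ℕ, e = i + m - k := ⟨_, rfl⟩
    obtain ⟨w, hw⟩ : ∃ w : V, w = (α ^ i) (u i) := ⟨_, rfl⟩
    rw [← he, ← hw]
    have hne : ζ ^ e ≠ 1 := by
      rcases lt_or_gt_of_ne hik with h | h
      · exact hord e (by omega) (by omega)
      · have h' : e = m + (i - k) := by omega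
        rw [h', pow_add, hm, one_mul]
        exact hord (i - k) (by omega) (by omega)
    apply hfix e hne
    rw [map_prod]
    have hshift : ∀ j : ℕ, (ζ ^ e) ((ζ ^ (j * e)) w) = (ζ ^ ((j + 1) * e)) w := by
      intro j
      rw [← MulAut.mul_apply _ (ζ ^ e) (ζ ^ (j * e)), ← pow_add]
      have : e + j * e = (j + 1) * e := by ring
      rw [this]
    rw [Finset.prod_congr rfl (fun j _ => hshift j)]
    have hf0 : (ζ ^ (m * e)) w = (ζ ^ (0 * e)) w := by
      rw [pow_mul, hm, one_pow, zero_mul, pow_zero]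
    have e1 : ∏ j ∈ range (m + 1), (ζ ^ (j * e)) w =
        (∏ j ∈ range m, (ζ ^ (j * e)) w) * (ζ ^ (m * e)) w :=
      Finset.prod_range_succ (fun j => (ζ ^ (j * e)) w) m
    have e2 : ∏ j ∈ range (m + 1), (ζ ^ (j * e)) w =
        (∏ j ∈ range m, (ζ ^ ((j + 1) * e)) w) * (ζ ^ (0 * e)) w :=
      Finset.prod_range_succ' (fun j => (ζ ^ (j * e)) w) m
    rw [e1, hf0] at e2
    exact (mul_right_cancel e2).symm
  rw [Finset.prod_eq_single k (fun i hi hik => h6 i hi hik)
    (fun hk' => absurd (Finset.mem_range.mpr hk) hk')] at h5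
  have h7 : ∀ j ∈ range m, (ζ ^ (j * (k + m - k))) ((α ^ k) (u k)) = (α ^ k) (u k) := by
    intro j _
    have : k + m - k = m := by omega
    rw [this, mul_comm j m, pow_mul, hm, one_pow, MulAut.one_apply]
  rw [Finset.prod_congr rfl h7, Finset.prod_const, Finset.card_range] at h5
  have h8 := htor _ h5
  exact (map_eq_one_iff (α ^ k) (α ^ k).injective).mp h8

open Finset in
theorem bs_card_fix_pow_le {V : Type*} [CommGroup V] [Finite V] (γ α ζ : MulAut V) (m : ℕ)
    (h1 : γ * α = ζ * α * γ) (h2 : Commute ζ α) (h3 : Commute ζ γ)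
    (hm : ζ ^ m = 1) (hfix : ∀ e : ℕ, ζ ^ e ≠ 1 → ∀ v : V, (ζ ^ e) v = v → v = 1)
    (hord : ∀ i : ℕ, 0 < i → i < m → ζ ^ i ≠ 1)
    (htor : ∀ v : V, v ^ m = 1 → v = 1) :
    Nat.card {v : V // γ v = v} ^ m ≤ Nat.card V := by
  classical
  have hinj : Function.Injective
      (fun f : Fin m → {v : V // γ v = v} => ∏ i : Fin m, (α ^ (i : ℕ)) (f i : V)) := by
    intro f g hfg
    funext k
    apply Subtype.ext
    obtain ⟨u, hu0⟩ : ∃ u : ℕ → V, u = fun i =>
        if h : i < m then (f ⟨i, h⟩ : V) / (g ⟨i, h⟩ : V) else 1 := ⟨_, rfl⟩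
    have hu : ∀ i, γ (u i) = u i := by
      intro i
      rw [hu0]
      by_cases h : i < m
      · simp only [dif_pos h, map_div, (f ⟨i, h⟩).2, (g ⟨i, h⟩).2]
      · simp only [dif_neg h, map_one]
    have hui : ∀ i : Fin m, u (i : ℕ) = (f i : V) / (g i : V) := by
      intro i
      rw [hu0]
      simp only [dif_pos i.2, Fin.eta]
    have hprod : ∏ i ∈ range m, (α ^ i) (u i) = 1 := by
      have e : ∏ i : Fin m, (α ^ (i : ℕ)) (u (i : ℕ)) = ∏ i ∈ range m, (α ^ i) (u i) :=
        Fin.prod_univ_eq_prod_range (fun i => (α ^ i) (u i)) m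
      rw [← e]
      have : ∀ i : Fin m, (α ^ (i : ℕ)) (u (i : ℕ)) =
          (α ^ (i : ℕ)) (f i : V) / (α ^ (i : ℕ)) (g i : V) := by
        intro i
        rw [hui, map_div]
      rw [Finset.prod_congr rfl (fun i _ => this i), Finset.prod_div_distrib]
      exact div_eq_one.mpr hfg
    have h := bs_fourier γ α ζ m h1 h2 h3 hm hfix hord htor u hu hprod k k.2
    rw [hui k] at h
    exact div_eq_one.mp h
  have h := Nat.card_le_card_of_injective _ hinj
  rwa [Nat.card_fun, Nat.card_fin] at h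

theorem bs_final {V : Type*} [Group V] [Finite V] (hcomm : ∀ a b : V, a * b = b * a)
    (p : ℕ) [Fact p.Prime] (hp3 : 3 ≤ p) (hV : (Nat.card V).Coprime p)
    (Q : Subgroup (MulAut V)) (hQ : IsPGroup p ↥Q)
    (hirr : ∀ W : Subgroup V, (∀ q ∈ Q, ∀ w ∈ W, q w ∈ W) → W = ⊥ ∨ W = ⊤)
    (S T : Set (MulAut V)) (hS : Subgroup.closure S = Q) (hT : Subgroup.closure T = Q)
    (hfac : ∀ γ ∈ S, ∀ δ ∈ T, ∀ x : V, ∃ y : V, δ y = y ∧ γ (y⁻¹ * x) = y⁻¹ * x) :
    Q = ⊥ := by
  classical
  letI : CommGroup V := { ‹Group V› with mul_comm := hcomm }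
  haveI : Finite (MulAut V) :=
    Finite.of_injective (fun f : MulAut V => (f : V → V)) DFunLike.coe_injective
  by_contra hQne
  have hZ : ∀ ζ ∈ Q, (∀ q ∈ Q, Commute ζ q) → ζ ≠ 1 → ∀ v : V, ζ v = v → v = 1 := by
    intro ζ hζ hc hne v hv
    let W : Subgroup V :=
      { carrier := {w | ζ w = w}
        mul_mem' := fun {a b} ha hb => by
          show ζ (a * b) = a * b
          rw [map_mul, show ζ a = a from ha, show ζ b = b from hb]
        one_mem' := map_one ζ
        inv_mem' := fun {a} ha => by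
          show ζ a⁻¹ = a⁻¹
          rw [map_inv, show ζ a = a from ha] }
    have hW : ∀ q ∈ Q, ∀ w ∈ W, q w ∈ W := by
      intro q hq w hw
      show ζ (q w) = q w
      have e := congrArg (fun f : MulAut V => f w) (hc q hq).eq
      simp only [MulAut.mul_apply] at e
      rw [e, show ζ w = w from hw]
    rcases hirr W hW with h | h
    · have hvW : v ∈ W := hv
      rw [h] at hvW
      exact Subgroup.mem_bot.mp hvW
    · exfalso
      apply hne
      ext w
      have hwW : w ∈ W := by rw [h]; exact Subgroup.mem_top w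
      exact hwW
  have hone : ∀ γ : MulAut V, 1 ≤ Nat.card {v : V // γ v = v} := by
    intro γ
    haveI : Nonempty {v : V // γ v = v} := ⟨⟨1, map_one γ⟩⟩
    exact Nat.card_pos
  have hVpos : 1 ≤ Nat.card V := Nat.card_pos
  have hEx : ∀ S' : Set (MulAut V), Subgroup.closure S' = Q →
      ∃ γ ∈ S', Nat.card {v : V // γ v = v} ^ 3 ≤ Nat.card V := by
    intro S' hS'
    have hS'Q : S' ⊆ Q := by rw [← hS']; exact Subgroup.subset_closure
    by_cases hab : ∀ a ∈ Q, ∀ b ∈ Q, a * b = b * a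
    · have h1 : ∃ γ ∈ S', γ ≠ 1 := by
        by_contra hcon
        push_neg at hcon
        apply hQne
        rw [← hS', eq_bot_iff, Subgroup.closure_le]
        intro γ hγ
        exact Subgroup.mem_bot.mpr (hcon γ hγ)
      obtain ⟨γ, hγ, hγ1⟩ := h1
      refine ⟨γ, hγ, ?_⟩
      have hfixγ := hZ γ (hS'Q hγ) (fun q hq => hab γ (hS'Q hγ) q hq) hγ1
      have hle : Nat.card {v : V // γ v = v} ≤ 1 := by
        rw [Finite.card_le_one_iff_subsingleton]
        exact ⟨fun a b => Subtype.ext (by rw [hfixγ a a.2, hfixγ b b.2])⟩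
      have h1' : Nat.card {v : V // γ v = v} = 1 := le_antisymm hle (hone γ)
      rw [h1', one_pow]
      exact hVpos
    · haveI : Group.IsNilpotent ↥Q := hQ.isNilpotent
      have hα : ∃ α : ↥Q, (∀ y : ↥Q, ⁅α, y⁆ ∈ Subgroup.center ↥Q) ∧
          α ∉ Subgroup.center ↥Q := by
        by_contra hcon
        push_neg at hcon
        have hall : ∀ n : ℕ, Subgroup.upperCentralSeries ↥Q n ≤ Subgroup.center ↥Q := by
          intro n
          induction n with
          | zero => rw [Subgroup.upperCentralSeries_zero]; exact bot_le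
          | succ n ih =>
            intro a ha
            apply hcon a
            intro y
            exact ih ((Subgroup.mem_upperCentralSeries_succ_iff).mp ha y)
        obtain ⟨n, hn⟩ := Group.IsNilpotent.nilpotent ↥Q
        have htop : Subgroup.center ↥Q = ⊤ := by
          have := hall n
          rw [hn] at this
          exact top_le_iff.mp this
        apply hab
        intro a ha b hb
        have hbc : (⟨b, hb⟩ : ↥Q) ∈ Subgroup.center ↥Q := by rw [htop]; trivial
        have e := (Subgroup.mem_center_iff.mp hbc) ⟨a, ha⟩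
        exact congrArg Subtype.val e
      obtain ⟨α, hα2, hα1⟩ := hα
      have hγ : ∃ γ ∈ S', γ * (α : MulAut V) ≠ (α : MulAut V) * γ := by
        by_contra hcon
        push_neg at hcon
        apply hα1
        rw [Subgroup.mem_center_iff]
        intro g
        have hle : Subgroup.closure S' ≤ Subgroup.centralizer {(α : MulAut V)} := by
          rw [Subgroup.closure_le]
          intro γ hγ
          rw [SetLike.mem_coe, Subgroup.mem_centralizer_iff]
          intro h hh
          rw [Set.mem_singleton_iff] at hh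
          rw [hh]
          exact (hcon γ hγ).symm
        have hg : (g : MulAut V) ∈ Subgroup.centralizer {(α : MulAut V)} :=
          hle (by rw [hS']; exact g.2)
        rw [Subgroup.mem_centralizer_iff] at hg
        have e := hg (α : MulAut V) (Set.mem_singleton _)
        apply Subtype.ext
        show (g : MulAut V) * (α : MulAut V) = (α : MulAut V) * (g : MulAut V)
        exact e.symm
      obtain ⟨γ, hγS, hγα⟩ := hγ
      refine ⟨γ, hγS, ?_⟩
      have hγQ : γ ∈ Q := hS'Q hγS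
      have hz0 := hα2 ⟨γ, hγQ⟩
      obtain ⟨a, ha⟩ : ∃ a : MulAut V, a = (α : MulAut V) := ⟨_, rfl⟩
      have haQ : a ∈ Q := by rw [ha]; exact α.2
      obtain ⟨ζ, hζ⟩ : ∃ ζ : MulAut V, ζ = (a * γ * a⁻¹ * γ⁻¹)⁻¹ := ⟨_, rfl⟩
      have hζQ : ζ ∈ Q := by
        rw [hζ]
        exact Q.inv_mem (Q.mul_mem (Q.mul_mem (Q.mul_mem haQ hγQ) (Q.inv_mem haQ))
          (Q.inv_mem hγQ))
      have hζc : ∀ q ∈ Q, Commute ζ q := by
        intro q hq
        have e := (Subgroup.mem_center_iff.mp hz0) ⟨q, hq⟩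
        have e' : q * (a * γ * a⁻¹ * γ⁻¹) = (a * γ * a⁻¹ * γ⁻¹) * q := by
          rw [ha]; exact congrArg Subtype.val e
        rw [hζ]
        exact (Commute.inv_left (show Commute (a * γ * a⁻¹ * γ⁻¹) q from e'.symm))
      have h1 : γ * a = ζ * a * γ := by
        rw [hζ]; group
      have hζ1 : ζ ≠ 1 := by
        intro h
        apply hγα
        rw [← ha]
        rw [h, one_mul] at h1
        exact h1
      have h2 : Commute ζ a := hζc a haQ
      have h3 : Commute ζ γ := hζc γ hγQ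
      obtain ⟨m, hm0⟩ : ∃ m : ℕ, m = orderOf ζ := ⟨_, rfl⟩
      have hm : ζ ^ m = 1 := by rw [hm0]; exact pow_orderOf_eq_one ζ
      obtain ⟨k, hk⟩ := hQ ⟨ζ, hζQ⟩
      have hk' : ζ ^ p ^ k = 1 := by
        have := congrArg Subtype.val hk
        simpa using this
      have hmdvd : m ∣ p ^ k := by rw [hm0]; exact orderOf_dvd_of_pow_eq_one hk'
      obtain ⟨j, hj, hmj⟩ := (Nat.dvd_prime_pow (Fact.out : p.Prime)).mp hmdvd
      have hj0 : j ≠ 0 := by
        rintro rfl
        rw [pow_zero] at hmj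
        apply hζ1
        rw [← orderOf_eq_one_iff, ← hm0, hmj]
      have hm3 : 3 ≤ m := by
        rw [hmj]
        calc 3 ≤ p := hp3
          _ = p ^ 1 := (pow_one p).symm
          _ ≤ p ^ j := Nat.pow_le_pow_right (Fact.out : p.Prime).pos
              (Nat.one_le_iff_ne_zero.mpr hj0)
      have hord : ∀ i : ℕ, 0 < i → i < m → ζ ^ i ≠ 1 := by
        intro i hi him
        rw [hm0] at him
        exact pow_ne_one_of_lt_orderOf (Nat.pos_iff_ne_zero.mp hi) him
      have hfix : ∀ e : ℕ, ζ ^ e ≠ 1 → ∀ v : V, (ζ ^ e) v = v → v = 1 := by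
        intro e he
        exact hZ (ζ ^ e) (Q.pow_mem hζQ e) (fun q hq => (hζc q hq).pow_left e) he
      have htor : ∀ v : V, v ^ m = 1 → v = 1 := by
        intro v hv
        have d1 : orderOf v ∣ m := orderOf_dvd_of_pow_eq_one hv
        have d2 : orderOf v ∣ Nat.card V := orderOf_dvd_natCard v
        have hcop : Nat.Coprime (Nat.card V) m := by
          rw [hmj]; exact Nat.Coprime.pow_right j hV
        exact orderOf_eq_one_iff.mp (Nat.eq_one_of_dvd_coprimes hcop d2 d1)
      have hb := bs_card_fix_pow_le γ a ζ m h1 h2 h3 hm hfix hord htor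
      calc Nat.card {v : V // γ v = v} ^ 3 ≤ Nat.card {v : V // γ v = v} ^ m :=
            Nat.pow_le_pow_right (hone γ) hm3
        _ ≤ Nat.card V := hb
  obtain ⟨γ, hγS, hγ3⟩ := hEx S hS
  obtain ⟨δ, hδT, hδ3⟩ := hEx T hT
  have hsurj : Function.Surjective
      (fun yw : {v : V // δ v = v} × {v : V // γ v = v} => (yw.1 : V) * (yw.2 : V)) := by
    intro x
    obtain ⟨y, hy, hw⟩ := hfac γ hγS δ hδT x
    exact ⟨(⟨y, hy⟩, ⟨y⁻¹ * x, hw⟩), by simp⟩
  have hle := Nat.card_le_card_of_surjective _ hsurj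
  rw [Nat.card_prod] at hle
  obtain ⟨A, hA⟩ : ∃ A : ℕ, A = Nat.card {v : V // δ v = v} := ⟨_, rfl⟩
  obtain ⟨B, hB⟩ : ∃ B : ℕ, B = Nat.card {v : V // γ v = v} := ⟨_, rfl⟩
  obtain ⟨n, hn⟩ : ∃ n : ℕ, n = Nat.card V := ⟨_, rfl⟩
  rw [← hA, ← hB, ← hn] at hle
  rw [← hA, ← hn] at hδ3
  rw [← hB, ← hn] at hγ3
  have hn1 : n ≤ 1 := by
    by_contra hcon
    push_neg at hcon
    have h1 : n ^ 3 ≤ (A * B) ^ 3 := Nat.pow_le_pow_left hle 3
    have h2 : (A * B) ^ 3 = A ^ 3 * B ^ 3 := by ring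
    have h3 : A ^ 3 * B ^ 3 ≤ n * n := Nat.mul_le_mul hδ3 hγ3
    have h4 : n * n < n ^ 3 := by
      have e : n ^ 3 = n * n * n := by ring
      rw [e]
      have hpos : 0 < n * n := Nat.mul_pos (by omega) (by omega)
      calc n * n = n * n * 1 := (mul_one _).symm
        _ < n * n * n := Nat.mul_lt_mul_of_pos_left hcon hpos
    exact absurd (lt_of_lt_of_le h4 ((h1.trans (le_of_eq h2)).trans h3)) (lt_irrefl _)
  rw [hn] at hn1
  haveI : Subsingleton V := Finite.card_le_one_iff_subsingleton.mp hn1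
  apply hQne
  rw [eq_bot_iff]
  intro q _
  rw [Subgroup.mem_bot]
  ext v
  exact Subsingleton.elim _ _

end Cfsg.Agent.Lib.Helper3
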