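import Mathlib
import Cfsg.Agent.Lib.Helper3.PRes
import Cfsg.Agent.Lib.Helper4.Normalizer

set_option autoImplicit false

namespace Cfsg.Agent.Lib.Helper3

/-- The conjugation action of a subgroup on a subset it leaves invariant. -/
def conjSetAction {G : Type*} [Group G] (P : Subgroup G) (S : Set G)
    (hS : ∀ x ∈ P, ∀ s ∈ S, x * s * x⁻¹ ∈ S) : MulAction ↥P ↥S where
  smul x s := ⟨x.1 * s.1 * x.1⁻¹, hS x.1 x.2 s.1 s.2⟩
  one_smul s := by
    apply Subtype.ext
    show ((1 : ↥P) : G) * s.1 * ((1 : ↥P) : G)⁻¹ = s.1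
    simp
  mul_smul x y s := by
    apply Subtype.ext
    show ((x * y : ↥P) : G) * s.1 * ((x * y : ↥P) : G)⁻¹ = x.1 * (y.1 * s.1 * y.1⁻¹) * x.1⁻¹
    rw [Subgroup.coe_mul]
    group

/-- A `p`-group acting by conjugation on an invariant set of size prime to `p` centralizes one
of its elements. -/
theorem exists_centralized_of_not_dvd {G : Type*} [Group G] [Finite G] {p : ℕ} [Fact p.Prime]
    (P : Subgroup G) (hP : IsPGroup p P) (S : Set G)
    (hS : ∀ x ∈ P, ∀ s ∈ S, x * s * x⁻¹ ∈ S)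
    (hnd : ¬ p ∣ Nat.card ↥S) : ∃ s ∈ S, ∀ x ∈ P, x * s = s * x := by
  letI : MulAction ↥P ↥S := conjSetAction P S hS
  have hsmul : ∀ (x : ↥P) (s : ↥S), ((x • s : ↥S) : G) = x.1 * s.1 * x.1⁻¹ := fun _ _ => rfl
  obtain ⟨s, hs⟩ := hP.nonempty_fixed_point_of_prime_not_dvd_card ↥S hnd
  refine ⟨s.1, s.2, ?_⟩
  intro x hx
  have h1 := congrArg Subtype.val (hs ⟨x, hx⟩)
  rw [hsmul] at h1
  have h2 : x * s.1 * x⁻¹ = s.1 := h1
  calc x * s.1 = x * s.1 * x⁻¹ * x := by group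
    _ = s.1 * x := by rw [h2]

/-- A `p`-group acting by conjugation on an invariant set of size divisible by `p`, with a
centralized element, centralizes a second one. -/
theorem exists_centralized_ne_of_dvd {G : Type*} [Group G] [Finite G] {p : ℕ} [Fact p.Prime]
    (P : Subgroup G) (hP : IsPGroup p P) (S : Set G)
    (hS : ∀ x ∈ P, ∀ s ∈ S, x * s * x⁻¹ ∈ S)
    (hd : p ∣ Nat.card ↥S) (s₀ : G) (hs₀ : s₀ ∈ S) (h0 : ∀ x ∈ P, x * s₀ = s₀ * x) :
    ∃ s ∈ S, s ≠ s₀ ∧ ∀ x ∈ P, x * s = s * x := by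
  letI : MulAction ↥P ↥S := conjSetAction P S hS
  have hsmul : ∀ (x : ↥P) (s : ↥S), ((x • s : ↥S) : G) = x.1 * s.1 * x.1⁻¹ := fun _ _ => rfl
  have h1 : (⟨s₀, hs₀⟩ : ↥S) ∈ MulAction.fixedPoints ↥P ↥S := by
    intro x
    apply Subtype.ext
    rw [hsmul]
    show x.1 * s₀ * x.1⁻¹ = s₀
    rw [h0 x.1 x.2]
    group
  obtain ⟨s, hs, hne⟩ := hP.exists_fixed_point_of_prime_dvd_card_of_fixed_point ↥S hd h1
  refine ⟨s.1, s.2, ?_, ?_⟩
  · intro h
    apply hne
    apply Subtype.ext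
    exact h.symm
  · intro x hx
    have h1 := congrArg Subtype.val (hs ⟨x, hx⟩)
    rw [hsmul] at h1
    have h2 : x * s.1 * x⁻¹ = s.1 := h1
    calc x * s.1 = x * s.1 * x⁻¹ * x := by group
      _ = s.1 * x := by rw [h2]

theorem map_conj_mul {G : Type*} [Group G] (H : Subgroup G) (a b : G) :
    H.map (MulAut.conj (a * b)).toMonoidHom =
      (H.map (MulAut.conj b).toMonoidHom).map (MulAut.conj a).toMonoidHom := by
  rw [Subgroup.map_map]
  congr 1
  ext y
  simp [mul_assoc]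

theorem map_conj_one {G : Type*} [Group G] (H : Subgroup G) :
    H.map (MulAut.conj (1 : G)).toMonoidHom = H := by
  ext y
  simp

/-- The image in `G` of `g • Q`, for a Sylow subgroup `Q` of the normal subgroup `N`. -/
theorem sylow_conjNormal_smul_map_subtype {G : Type*} [Group G] {q : ℕ} (N : Subgroup G)
    [N.Normal] (Q : Sylow q ↥N) (g : G) :
    (((MulAut.conjNormal g : MulAut ↥N) • Q : Sylow q ↥N) : Subgroup ↥N).map N.subtype =
      ((Q : Subgroup ↥N).map N.subtype).map (MulAut.conj g).toMonoidHom := by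
  ext y
  constructor
  · rintro ⟨u, hu, rfl⟩
    have hu' : ((MulAut.conjNormal g : MulAut ↥N))⁻¹ • u ∈ (Q : Subgroup ↥N) := by
      rw [SetLike.mem_coe, Sylow.pointwise_smul_def] at hu
      exact (Subgroup.mem_pointwise_smul_iff_inv_smul_mem).mp hu
    refine ⟨_, ⟨_, hu', rfl⟩, ?_⟩
    show g * (((MulAut.conjNormal g : MulAut ↥N)⁻¹ • u : ↥N) : G) * g⁻¹ = (u : G)
    rw [MulAut.smul_def, ← map_inv, MulAut.conjNormal_apply]
    group
  · rintro ⟨_, ⟨u, hu, rfl⟩, rfl⟩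
    refine ⟨(MulAut.conjNormal g : MulAut ↥N) • u, ?_, ?_⟩
    · rw [SetLike.mem_coe, Sylow.pointwise_smul_def]
      exact Subgroup.smul_mem_pointwise_smul u _ _ hu
    · show (((MulAut.conjNormal g : MulAut ↥N) • u : ↥N) : G) = g * (u : G) * g⁻¹
      rw [MulAut.smul_def, MulAut.conjNormal_apply]

theorem sylow_smul_map_subtype {G : Type*} [Group G] {q : ℕ} (N : Subgroup G)
    [N.Normal] (Q : Sylow q ↥N) (n : ↥N) :
    ((n • Q : Sylow q ↥N) : Subgroup ↥N).map N.subtype =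
      ((Q : Subgroup ↥N).map N.subtype).map (MulAut.conj (n : G)).toMonoidHom := by
  rw [← sylow_conjNormal_smul_map_subtype, Sylow.smul_def, MulAut.conjNormal_val]

/-- A `p`-group acting on a normal `p'`-subgroup `N` normalizes a Sylow `q`-subgroup of `N`. -/
theorem exists_sylow_normalized {G : Type*} [Group G] [Finite G] {p q : ℕ} [Fact p.Prime]
    [Fact q.Prime] (P N : Subgroup G) [N.Normal] (hP : IsPGroup p P)
    (hpN : ¬ p ∣ Nat.card N) :
    ∃ Q : Sylow q ↥N,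
      P ≤ Subgroup.normalizer (((Q : Subgroup ↥N).map N.subtype : Subgroup G) : Set G) := by
  letI : MulAction ↥P (Sylow q ↥N) :=
    MulAction.compHom _ ((MulAut.conjNormal : G →* MulAut ↥N).comp P.subtype)
  have hsmul : ∀ (x : ↥P) (Q : Sylow q ↥N),
      x • Q = (MulAut.conjNormal (x : G) : MulAut ↥N) • Q := fun _ _ => rfl
  have hnd : ¬ p ∣ Nat.card (Sylow q ↥N) := by
    intro h
    apply hpN
    have Q₀ : Sylow q ↥N := default
    exact dvd_trans h (dvd_trans (Sylow.card_dvd_index Q₀) (Subgroup.index_dvd_card _))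
  obtain ⟨Q, hQ⟩ := hP.nonempty_fixed_point_of_prime_not_dvd_card (Sylow q ↥N) hnd
  refine ⟨Q, ?_⟩
  intro x hx
  apply mem_normalizer_of_map_conj_eq'
  have h1 := hQ ⟨x, hx⟩
  rw [hsmul] at h1
  rw [← sylow_conjNormal_smul_map_subtype, h1]

/-- If moreover `C_N(P) = 1`, the `P`-invariant Sylow `q`-subgroup of `N` is unique. -/
theorem sylow_eq_of_normalized {G : Type*} [Group G] [Finite G] {p q : ℕ} [Fact p.Prime]
    [Fact q.Prime] (P N : Subgroup G) [hNn : N.Normal] (hP : IsPGroup p P)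
    (hpN : ¬ p ∣ Nat.card N)
    (hC : ∀ n ∈ N, (∀ x ∈ P, x * n = n * x) → n = 1)
    (Q1 Q2 : Sylow q ↥N)
    (h1 : P ≤ Subgroup.normalizer (((Q1 : Subgroup ↥N).map N.subtype : Subgroup G) : Set G))
    (h2 : P ≤ Subgroup.normalizer (((Q2 : Subgroup ↥N).map N.subtype : Subgroup G) : Set G)) :
    Q1 = Q2 := by
  obtain ⟨n₀, hn₀⟩ := MulAction.exists_smul_eq ↥N Q1 Q2
  have hn₀' : ((Q1 : Subgroup ↥N).map N.subtype).map (MulAut.conj (n₀ : G)).toMonoidHom =
      (Q2 : Subgroup ↥N).map N.subtype := by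
    rw [← hn₀, sylow_smul_map_subtype]
  generalize hA : (Q1 : Subgroup ↥N).map N.subtype = A at h1 hn₀'
  generalize hB : (Q2 : Subgroup ↥N).map N.subtype = B at h2 hn₀'
  let T : Set G := {t | t ∈ N ∧ A.map (MulAut.conj t).toMonoidHom = B}
  have hTinv : ∀ x ∈ P, ∀ t ∈ T, x * t * x⁻¹ ∈ T := by
    intro x hx t ht
    refine ⟨hNn.conj_mem t ht.1 x, ?_⟩
    rw [map_conj_mul, map_conj_mul, map_conj_eq_of_mem_normalizer A x⁻¹ (inv_mem (h1 hx)), ht.2,
      map_conj_eq_of_mem_normalizer B x (h2 hx)]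
  have hf : ∀ t ∈ T, (n₀ : G)⁻¹ * t ∈ N ⊓ Subgroup.normalizer (A : Set G) := by
    intro t ht
    refine Subgroup.mem_inf.mpr ⟨N.mul_mem (N.inv_mem n₀.2) ht.1, ?_⟩
    apply mem_normalizer_of_map_conj_eq'
    rw [map_conj_mul, ht.2, ← hn₀', ← map_conj_mul, inv_mul_cancel, map_conj_one]
  have hg : ∀ s ∈ N ⊓ Subgroup.normalizer (A : Set G), (n₀ : G) * s ∈ T := by
    intro s hs
    obtain ⟨hsN, hsA⟩ := Subgroup.mem_inf.mp hs
    refine ⟨N.mul_mem n₀.2 hsN, ?_⟩
    rw [map_conj_mul, map_conj_eq_of_mem_normalizer A s hsA, hn₀']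
  have hcard : Nat.card ↥T = Nat.card ↥(N ⊓ Subgroup.normalizer (A : Set G)) :=
    Nat.card_congr
      { toFun := fun t => ⟨(n₀ : G)⁻¹ * t.1, hf t.1 t.2⟩
        invFun := fun s => ⟨(n₀ : G) * s.1, hg s.1 s.2⟩
        left_inv := fun t => Subtype.ext (by simp)
        right_inv := fun s => Subtype.ext (by simp) }
  have hnd : ¬ p ∣ Nat.card ↥T := by
    rw [hcard]
    intro h
    exact hpN (dvd_trans h (Subgroup.card_dvd_of_le inf_le_left))
  obtain ⟨t, ht, htc⟩ := exists_centralized_of_not_dvd P hP T hTinv hnd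
  have ht1 : t = 1 := hC t ht.1 htc
  have hAB : A = B := by
    have h3 := ht.2
    rw [ht1, map_conj_one] at h3
    exact h3
  apply Sylow.ext
  apply Subgroup.map_injective N.subtype_injective
  rw [hA, hB, hAB]

end Cfsg.Agent.Lib.Helper3
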