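import Mathlib
import Cfsg.Prelude.Def_PLocal
import Cfsg.Agent.Lib.Helper3.Crit

set_option autoImplicit false

namespace Cfsg.Agent.Lib.Helper3

open Cfsg
open scoped commutatorElement

section uniserial
variable {L : Type*} [Group L] [Finite L] {p : ℕ} [Fact p.Prime]

/-- Strictness: a `p`-group cannot act on a nontrivial subgroup with full commutator. -/
theorem commutator_lt_of_isPGroup (T H A : Subgroup L) (hT : IsPGroup p ↥T) (hHT : H ≤ T)
    (hAT : A ≤ T) (hAH : A ≤ Subgroup.normalizer (H : Set L)) (hH : H ≠ ⊥) : ⁅H, A⁆ < H := by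
  have hle : ⁅H, A⁆ ≤ H := by
    rw [Subgroup.commutator_comm]
    exact (le_normalizer_iff_commutator_le A H).mp hAH
  refine lt_of_le_of_ne hle ?_
  intro heq
  obtain ⟨m, hm⟩ := exists_iterCommutator_eq_bot T H hT hHT
  have key : ∀ k, H ≤ iterCommutator H T k := by
    intro k
    induction k with
    | zero => exact le_rfl
    | succ k ih =>
      show H ≤ ⁅iterCommutator H T k, T⁆
      calc H = ⁅H, A⁆ := heq.symm
        _ ≤ ⁅iterCommutator H T k, T⁆ := Subgroup.commutator_mono ih hAT
  exact hH (eq_bot_iff.mpr (hm ▸ key m))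

theorem card_mul_relIndex_eq (A B : Subgroup L) (h : A ≤ B) :
    Nat.card A * A.relIndex B = Nat.card B := by
  have := Subgroup.relIndex_mul_relIndex (H := ⊥) (K := A) (L := B) bot_le h
  rwa [Subgroup.relIndex_bot_left, Subgroup.relIndex_bot_left] at this

theorem card_lt_card_of_lt {A B : Subgroup L} (h : A < B) : Nat.card A < Nat.card B := by
  by_contra hc
  exact h.ne (Subgroup.eq_of_le_of_card_ge h.le (not_lt.mp hc))

theorem card_le_pow_of_lt_pow {B : Subgroup L} (hB : IsPGroup p ↥B) (k : ℕ)
    (hk : Nat.card B < p ^ (k + 1)) : Nat.card B ≤ p ^ k := by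
  obtain ⟨a, ha⟩ := IsPGroup.iff_card.mp hB
  rw [ha] at hk ⊢
  have h3 : a < k + 1 := (Nat.pow_lt_pow_iff_right (Fact.out : p.Prime).one_lt).mp hk
  exact Nat.pow_le_pow_right (Fact.out : p.Prime).pos (by omega)

variable (N G : Subgroup L)

theorem uni_chain_of_uniserial (hGN : G ≤ Subgroup.normalizer (N : Set L)) (n : ℕ)
    (hn : Nat.card N = p ^ n)
    (hU : ∀ H : Subgroup L, H ≤ N → G ≤ Subgroup.normalizer (H : Set L) → H ≠ ⊥ →
      (⁅H, G⁆).relIndex H = p) :
    ∀ i ≤ n, Nat.card (iterCommutator N G i) = p ^ (n - i) := by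
  have hp := (Fact.out : p.Prime)
  intro i
  induction i with
  | zero => intro _; exact hn
  | succ i ih =>
    intro hi
    have hc := ih (by omega)
    have hne : iterCommutator N G i ≠ ⊥ := by
      intro h0
      rw [h0, Subgroup.card_bot] at hc
      have : 1 < p ^ (n - i) := Nat.one_lt_pow (by omega) hp.one_lt
      omega
    have hr := hU _ (iterCommutator_le N G hGN i) (le_normalizer_iterCommutator N G hGN i) hne
    have hle : iterCommutator N G (i + 1) ≤ iterCommutator N G i :=
      iterCommutator_succ_le N G hGN i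
    have hcm := card_mul_relIndex_eq _ _ hle
    have hr' : (iterCommutator N G (i + 1)).relIndex (iterCommutator N G i) = p := hr
    rw [hr', hc] at hcm
    have e : p ^ (n - i) = p ^ (n - (i + 1)) * p := by
      rw [← pow_succ]; congr 1; omega
    rw [e] at hcm
    exact Nat.eq_of_mul_eq_mul_right hp.pos hcm

theorem uni_chain_of_ne_bot (hN : IsPGroup p ↥N) (hG : IsPGroup p ↥G)
    (hGN : G ≤ Subgroup.normalizer (N : Set L)) (n : ℕ)
    (hn : Nat.card N = p ^ n) (hn0 : n ≠ 0) (hne : iterCommutator N G (n - 1) ≠ ⊥) :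
    ∀ i ≤ n, Nat.card (iterCommutator N G i) = p ^ (n - i) := by
  have hp := (Fact.out : p.Prime)
  have hT : IsPGroup p ↥(N ⊔ G) := IsPGroup.to_sup_of_normal_left' hN hG hGN
  have hIp : ∀ i, IsPGroup p ↥(iterCommutator N G i) :=
    fun i => hN.to_le (iterCommutator_le N G hGN i)
  have hex : ∀ i, ∃ a, Nat.card (iterCommutator N G i) = p ^ a :=
    fun i => IsPGroup.iff_card.mp (hIp i)
  choose a ha using hex
  have ha0 : a 0 = n := by
    have h := ha 0
    rw [show iterCommutator N G 0 = N from rfl, hn] at h
    exact (Nat.pow_right_injective hp.two_le h).symm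
  have hnb : ∀ i, i ≤ n - 1 → iterCommutator N G i ≠ ⊥ := by
    intro i hi h0
    exact hne (eq_bot_iff.mpr (h0 ▸ iterCommutator_antitone N G hGN hi))
  have hstrict : ∀ i, i ≤ n - 1 → a (i + 1) < a i := by
    intro i hi
    have hlt : iterCommutator N G (i + 1) < iterCommutator N G i :=
      commutator_lt_of_isPGroup (N ⊔ G) _ G hT
        ((iterCommutator_le N G hGN i).trans le_sup_left) le_sup_right
        (le_normalizer_iterCommutator N G hGN i) (hnb i hi)
    have h := card_lt_card_of_lt hlt
    rw [ha, ha] at h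
    exact (Nat.pow_lt_pow_iff_right hp.one_lt).mp h
  have hlast : 1 ≤ a (n - 1) := by
    by_contra h
    have h0 : a (n - 1) = 0 := by omega
    have h1 := ha (n - 1)
    rw [h0, pow_zero] at h1
    exact hne (Subgroup.eq_bot_of_card_eq _ h1)
  have hup : ∀ i, i ≤ n → a i + i ≤ n := by
    intro i
    induction i with
    | zero => intro _; omega
    | succ i ih =>
      intro hi
      have h1 := ih (by omega)
      have h2 := hstrict i (by omega)
      omega
  have hdown : ∀ j i, i + j = n - 1 → n ≤ a i + i := by
    intro j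
    induction j with
    | zero =>
      intro i hi
      have hi' : i = n - 1 := by omega
      rw [hi']
      omega
    | succ j ih =>
      intro i hi
      have h1 := ih (i + 1) (by omega)
      have h2 := hstrict i (by omega)
      omega
  intro i hi
  rw [ha]
  congr 1
  by_cases hin : i = n
  · have h1 := hstrict (n - 1) le_rfl
    have e : n - 1 + 1 = n := by omega
    rw [e] at h1
    have h2 := hup (n - 1) (by omega)
    have h3 := hdown 0 (n - 1) (by omega)
    rw [hin]
    omega
  · have h2 := hup i hi
    have h3 := hdown (n - 1 - i) i (by omega)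
    omega

theorem uni_bot_of_chain (n : ℕ)
    (hC : ∀ i ≤ n, Nat.card (iterCommutator N G i) = p ^ (n - i)) :
    iterCommutator N G n = ⊥ := by
  apply Subgroup.eq_bot_of_card_eq
  rw [hC n le_rfl]; simp

theorem uni_normal_of_chain (hN : IsPGroup p ↥N) (hG : IsPGroup p ↥G)
    (hGN : G ≤ Subgroup.normalizer (N : Set L)) (n : ℕ)
    (hn : Nat.card N = p ^ n)
    (hC : ∀ i ≤ n, Nat.card (iterCommutator N G i) = p ^ (n - i)) :
    ∀ i, N ≤ Subgroup.normalizer ((iterCommutator N G i : Subgroup L) : Set L) := by
  have hp := (Fact.out : p.Prime)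
  have hT : IsPGroup p ↥(N ⊔ G) := IsPGroup.to_sup_of_normal_left' hN hG hGN
  have hKN : N ⊔ G ≤ Subgroup.normalizer (N : Set L) := sup_le Subgroup.le_normalizer hGN
  have hJK : ∀ i, N ⊔ G ≤ Subgroup.normalizer ((iterCommutator N (N ⊔ G) i : Subgroup L) : Set L) :=
    le_normalizer_iterCommutator N (N ⊔ G) hKN
  have hJN : ∀ i, iterCommutator N (N ⊔ G) i ≤ N := iterCommutator_le N (N ⊔ G) hKN
  have hJc : ∀ i, i ≤ n → Nat.card (iterCommutator N (N ⊔ G) i) ≤ p ^ (n - i) := by
    intro i
    induction i with
    | zero => intro _; exact hn.le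
    | succ i ih =>
      intro hi
      have h1 := ih (by omega)
      by_cases h0 : iterCommutator N (N ⊔ G) i = ⊥
      · have h2 : iterCommutator N (N ⊔ G) (i + 1) = ⊥ :=
          eq_bot_iff.mpr (h0 ▸ iterCommutator_succ_le N (N ⊔ G) hKN i)
        rw [h2, Subgroup.card_bot]
        exact Nat.one_le_pow _ _ hp.pos
      · have hlt : iterCommutator N (N ⊔ G) (i + 1) < iterCommutator N (N ⊔ G) i :=
          commutator_lt_of_isPGroup (N ⊔ G) _ (N ⊔ G) hT ((hJN i).trans le_sup_left) le_rfl
            (hJK i) h0
        have e : n - i = (n - (i + 1)) + 1 := by omega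
        rw [e] at h1
        exact card_le_pow_of_lt_pow (hN.to_le (hJN (i + 1))) _
          (lt_of_lt_of_le (card_lt_card_of_lt hlt) h1)
  have heq : ∀ i, i ≤ n → iterCommutator N G i = iterCommutator N (N ⊔ G) i := by
    intro i hi
    apply Subgroup.eq_of_le_of_card_ge (iterCommutator_mono le_rfl le_sup_right i)
    rw [hC i hi]; exact hJc i hi
  have hbot := uni_bot_of_chain N G n hC
  intro i
  by_cases hi : i ≤ n
  · rw [heq i hi]; exact le_sup_left.trans (hJK i)
  · have h2 : iterCommutator N G i = ⊥ :=
      eq_bot_iff.mpr (hbot ▸ iterCommutator_antitone N G hGN (by omega))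
    rw [h2, Subgroup.normalizer_eq_top]
    exact le_top

theorem uni_le_of_mem (hN : IsPGroup p ↥N) (hGN : G ≤ Subgroup.normalizer (N : Set L)) (n : ℕ)
    (hC : ∀ i ≤ n, Nat.card (iterCommutator N G i) = p ^ (n - i))
    (hnorm : ∀ i, N ≤ Subgroup.normalizer ((iterCommutator N G i : Subgroup L) : Set L)) :
    ∀ d i, n ≤ i + d → ∀ H : Subgroup L, G ≤ Subgroup.normalizer (H : Set L) → ∀ x ∈ H,
      x ∈ iterCommutator N G i → x ∉ iterCommutator N G (i + 1) → iterCommutator N G i ≤ H := by
  have hp := (Fact.out : p.Prime)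
  have hbot := uni_bot_of_chain N G n hC
  have hbase : ∀ i, n ≤ i → ∀ x, x ∈ iterCommutator N G i →
      x ∉ iterCommutator N G (i + 1) → False := by
    intro i hi x hx hx'
    have h1 : iterCommutator N G i ≤ ⊥ := hbot ▸ iterCommutator_antitone N G hGN hi
    have h2 : x = 1 := (Subgroup.mem_bot).mp (h1 hx)
    exact hx' (h2 ▸ Subgroup.one_mem _)
  intro d
  induction d with
  | zero => intro i hi H _ x _ hx hx'; exact (hbase i (by omega) x hx hx').elim
  | succ d ih =>
    intro i hi H hGH x hxH hx hx'
    by_cases hin : n ≤ i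
    · exact (hbase i hin x hx hx').elim
    · have hle : Subgroup.zpowers x ⊔ iterCommutator N G (i + 1) ≤ iterCommutator N G i :=
        sup_le ((Subgroup.zpowers_le).mpr hx) (iterCommutator_succ_le N G hGN i)
      have hlt : iterCommutator N G (i + 1) < Subgroup.zpowers x ⊔ iterCommutator N G (i + 1) := by
        refine lt_of_le_of_ne le_sup_right ?_
        intro h
        exact hx' (h ▸ (le_sup_left : Subgroup.zpowers x ≤ _) (Subgroup.mem_zpowers x))
      have hgen : Subgroup.zpowers x ⊔ iterCommutator N G (i + 1) = iterCommutator N G i := by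
        apply Subgroup.eq_of_le_of_card_ge hle
        rw [hC i (by omega)]
        by_contra hc
        push_neg at hc
        have e : n - i = (n - (i + 1)) + 1 := by omega
        rw [e] at hc
        have h1 := card_le_pow_of_lt_pow
          (hN.to_le (hle.trans (iterCommutator_le N G hGN i))) _ hc
        have h2 := card_lt_card_of_lt hlt
        rw [hC (i + 1) (by omega)] at h2
        omega
      have hI1 : iterCommutator N G (i + 1) ≤ H := by
        by_cases hi1 : i + 1 = n
        · rw [hi1, hbot]; exact bot_le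
        · by_cases hex : ∃ g ∈ G, ⁅x, g⁆ ∉ iterCommutator N G (i + 2)
          · obtain ⟨g, hg, hxg⟩ := hex
            refine ih (i + 1) (by omega) H hGH ⁅x, g⁆ ?_
              (Subgroup.commutator_mem_commutator hx hg) hxg
            have h1 : g * x⁻¹ * g⁻¹ ∈ H :=
              (Subgroup.mem_normalizer_iff.mp (hGH hg) x⁻¹).mp (H.inv_mem hxH)
            have e : ⁅x, g⁆ = x * (g * x⁻¹ * g⁻¹) := by
              simp only [commutatorElement_def]; group
            rw [e]; exact H.mul_mem hxH h1
          · exfalso
            push_neg at hex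
            let S : Subgroup L :=
              { carrier := {y | y ∈ Subgroup.normalizer ((iterCommutator N G (i + 2) : Subgroup L) : Set L) ∧
                  ∀ g ∈ G, ⁅y, g⁆ ∈ iterCommutator N G (i + 2)}
                mul_mem' := by
                  rintro a b ⟨ha, ha'⟩ ⟨hb, hb'⟩
                  refine ⟨mul_mem ha hb, fun g hg => ?_⟩
                  have e : ⁅a * b, g⁆ = a * ⁅b, g⁆ * a⁻¹ * ⁅a, g⁆ := by
                    simp only [commutatorElement_def]; group
                  rw [e]
                  exact Subgroup.mul_mem _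
                    ((Subgroup.mem_normalizer_iff.mp ha _).mp (hb' g hg)) (ha' g hg)
                one_mem' := ⟨one_mem _, fun g _ => by simp⟩
                inv_mem' := by
                  rintro a ⟨ha, ha'⟩
                  refine ⟨inv_mem ha, fun g hg => ?_⟩
                  have e : ⁅a⁻¹, g⁆ = a⁻¹ * (⁅a, g⁆)⁻¹ * a⁻¹⁻¹ := by
                    simp only [commutatorElement_def]; group
                  rw [e]
                  exact (Subgroup.mem_normalizer_iff.mp (inv_mem ha) _).mp
                    (Subgroup.inv_mem _ (ha' g hg)) }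
            have hxS : x ∈ S := ⟨hnorm (i + 2) (iterCommutator_le N G hGN i hx), hex⟩
            have hIS : iterCommutator N G (i + 1) ≤ S := fun y hy =>
              ⟨hnorm (i + 2) (iterCommutator_le N G hGN (i + 1) hy),
                fun g hg => Subgroup.commutator_mem_commutator hy hg⟩
            have hJ : iterCommutator N G i ≤ S := by
              rw [← hgen]; exact sup_le ((Subgroup.zpowers_le).mpr hxS) hIS
            have hcomm : iterCommutator N G (i + 1) ≤ iterCommutator N G (i + 2) := by
              show ⁅iterCommutator N G i, G⁆ ≤ iterCommutator N G (i + 2)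
              rw [Subgroup.commutator_le]
              intro y hy g hg
              exact (hJ hy).2 g hg
            have h1 := Subgroup.card_le_of_le hcomm
            rw [hC (i + 1) (by omega), hC (i + 2) (by omega)] at h1
            have h2 : n - (i + 2) < n - (i + 1) := by omega
            have h3 := Nat.pow_lt_pow_right hp.one_lt h2
            omega
      rw [← hgen]
      exact sup_le ((Subgroup.zpowers_le).mpr hxH) hI1

theorem uni_exists_eq (hN : IsPGroup p ↥N) (hGN : G ≤ Subgroup.normalizer (N : Set L)) (n : ℕ)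
    (hC : ∀ i ≤ n, Nat.card (iterCommutator N G i) = p ^ (n - i))
    (hnorm : ∀ i, N ≤ Subgroup.normalizer ((iterCommutator N G i : Subgroup L) : Set L))
    (H : Subgroup L) (hHN : H ≤ N) (hGH : G ≤ Subgroup.normalizer (H : Set L)) :
    ∃ i ≤ n, H = iterCommutator N G i := by
  have hbot := uni_bot_of_chain N G n hC
  by_cases hH : H = ⊥
  · exact ⟨n, le_rfl, by rw [hH, hbot]⟩
  · have hex : ∃ i, i < n ∧ H ≤ iterCommutator N G i ∧ ¬ H ≤ iterCommutator N G (i + 1) := by
      by_contra hcon
      push_neg at hcon
      have h1 : ∀ i, i ≤ n → H ≤ iterCommutator N G i := by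
        intro i
        induction i with
        | zero => intro _; exact hHN
        | succ i ih => intro hi; exact hcon i (by omega) (ih (by omega))
      exact hH (eq_bot_iff.mpr (hbot ▸ h1 n le_rfl))
    obtain ⟨i, hi, hle, hnle⟩ := hex
    obtain ⟨x, hxH, hx'⟩ := SetLike.not_le_iff_exists.mp hnle
    exact ⟨i, hi.le, le_antisymm hle
      (uni_le_of_mem N G hN hGN n hC hnorm (n - i) i (by omega) H hGH x hxH (hle hxH) hx')⟩

end uniserial

end Cfsg.Agent.Lib.Helper3
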