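import Mathlib
import Cfsg.Agent.Lib.Helper3.BaerSuzA
import Cfsg.Agent.Lib.Helper3.PrimAct
import Cfsg.Agent.Lib.Helper3.Uniserial

set_option autoImplicit false

universe u

namespace Cfsg.Agent.Lib.Helper3

/-- Hypotheses of the Baer–Suzuki-type lemma for a normal `p`-complement. -/
def BSHyp (p : ℕ) {G : Type*} [Group G] (P N : Subgroup G) (C D : Set G) : Prop :=
  IsPGroup p ↥P ∧ N.Normal ∧ (Nat.card ↥N).Coprime p ∧ N ⊔ P = ⊤ ∧
    Subgroup.closure C = P ∧ Subgroup.closure D = P ∧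
    ∀ x ∈ N, ∀ c ∈ C, ∀ d ∈ D, IsPGroup p ↥(Subgroup.closure ({x * c * x⁻¹, d} : Set G))

theorem bs_eq_one_of_mem {G : Type*} [Group G] [Finite G] (p : ℕ) [Fact p.Prime]
    (P N : Subgroup G) (hP : IsPGroup p ↥P) (hN : (Nat.card ↥N).Coprime p) (g : G)
    (hgP : g ∈ P) (hgN : g ∈ N) : g = 1 := by
  obtain ⟨k, hk⟩ := IsPGroup.iff_card.mp hP
  have hcop : Nat.Coprime (Nat.card ↥P) (Nat.card ↥N) := by
    rw [hk]; exact Nat.Coprime.pow_left k hN.symm
  have h := Subgroup.inf_eq_bot_of_coprime hcop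
  have hg : g ∈ P ⊓ N := ⟨hgP, hgN⟩
  rw [h] at hg
  exact Subgroup.mem_bot.mp hg

theorem bs_comm_of_quadratic {G : Type*} [Group G] [Finite G] (p : ℕ) [Fact p.Prime]
    (P N : Subgroup G) (hP : IsPGroup p ↥P) (hN : (Nat.card ↥N).Coprime p) (u x : G)
    (hu : u ∈ P) (hn : u * x * u⁻¹ * x⁻¹ ∈ N)
    (hc : u * (u * x * u⁻¹ * x⁻¹) = (u * x * u⁻¹ * x⁻¹) * u) : u * x = x * u := by
  obtain ⟨n, hn0⟩ : ∃ n : G, n = u * x * u⁻¹ * x⁻¹ := ⟨_, rfl⟩
  rw [← hn0] at hn hc
  have hux : u * x * u⁻¹ = n * x := by rw [hn0]; group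
  have hpow : ∀ k : ℕ, u ^ k * x * (u ^ k)⁻¹ = n ^ k * x := by
    intro k
    induction k with
    | zero => simp
    | succ k ih =>
      have hc' : u * n ^ k = n ^ k * u := (Commute.pow_right (show Commute u n from hc) k).eq
      calc u ^ (k + 1) * x * (u ^ (k + 1))⁻¹ = u * (u ^ k * x * (u ^ k)⁻¹) * u⁻¹ := by
            rw [pow_succ']; group
        _ = u * (n ^ k * x) * u⁻¹ := by rw [ih]
        _ = (u * n ^ k) * (x * u⁻¹) := by group
        _ = n ^ k * u * (x * u⁻¹) := by rw [hc']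
        _ = n ^ k * (u * x * u⁻¹) := by group
        _ = n ^ k * (n * x) := by rw [hux]
        _ = n ^ (k + 1) * x := by rw [pow_succ, mul_assoc]
  have h1 := hpow (orderOf u)
  rw [pow_orderOf_eq_one, one_mul, inv_one, mul_one] at h1
  have h2 : n ^ orderOf u = 1 := by
    have h3 := congrArg (· * x⁻¹) h1
    simp only [mul_inv_cancel, mul_inv_cancel_right] at h3
    exact h3.symm
  obtain ⟨k, hk⟩ := hP ⟨u, hu⟩
  have hk' : u ^ p ^ k = 1 := by
    have h3 := congrArg Subtype.val hk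
    simpa using h3
  have d0 : orderOf u ∣ p ^ k := orderOf_dvd_of_pow_eq_one hk'
  have d1 : orderOf n ∣ p ^ k := (orderOf_dvd_of_pow_eq_one h2).trans d0
  have d2 : orderOf n ∣ Nat.card ↥N := by
    have h3 := orderOf_dvd_natCard (⟨n, hn⟩ : ↥N)
    rwa [Subgroup.orderOf_mk] at h3
  have hcop : Nat.Coprime (Nat.card ↥N) (p ^ k) := Nat.Coprime.pow_right k hN
  have hn1 : n = 1 := orderOf_eq_one_iff.mp (Nat.eq_one_of_dvd_coprimes hcop d2 d1)
  rw [hn1, one_mul] at hux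
  calc u * x = u * x * u⁻¹ * u := by group
    _ = x * u := by rw [hux]

theorem bs_factor {G : Type*} [Group G] [Finite G] (p : ℕ) [Fact p.Prime]
    (P N : Subgroup G) [hNn : N.Normal] (hP : IsPGroup p ↥P) (hN : (Nat.card ↥N).Coprime p)
    (hNP : N ⊔ P = ⊤) (x c d : G) (hx : x ∈ N) (hc : c ∈ P) (hd : d ∈ P)
    (h : IsPGroup p ↥(Subgroup.closure ({x * c * x⁻¹, d} : Set G))) :
    ∃ y ∈ N, y * d = d * y ∧ (y⁻¹ * x) * c = c * (y⁻¹ * x) := by
  have hdec : ∀ g : G, ∃ n ∈ N, ∃ u ∈ P, n * u = g := by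
    intro g
    have hg : g ∈ ((N ⊔ P : Subgroup G) : Set G) := by rw [hNP]; trivial
    rw [Subgroup.normal_mul] at hg
    exact Set.mem_mul.mp hg
  obtain ⟨S, hS⟩ := hP.exists_le_sylow
  have hSP : (S : Subgroup G) ≤ P := by
    intro s hs
    obtain ⟨n, hn, u, hu, rfl⟩ := hdec s
    have hn1 : n = 1 := by
      apply bs_eq_one_of_mem p (S : Subgroup G) N S.isPGroup' hN n _ hn
      have e : n = (n * u) * u⁻¹ := by group
      rw [e]
      exact (S : Subgroup G).mul_mem hs ((S : Subgroup G).inv_mem (hS hu))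
    rw [hn1, one_mul]; exact hu
  obtain ⟨S', hS'⟩ := h.exists_le_sylow
  obtain ⟨g, hg⟩ := MulAction.exists_smul_eq G S S'
  obtain ⟨y, hy, u, hu, rfl⟩ := hdec g
  have hconj : ∀ t ∈ Subgroup.closure ({x * c * x⁻¹, d} : Set G), y⁻¹ * t * y ∈ P := by
    intro t ht
    have h1 : t ∈ (((y * u) • S : Sylow p G) : Subgroup G) := by rw [hg]; exact hS' ht
    have h2 : (y * u)⁻¹ * t * (y * u) ∈ (S : Subgroup G) := by
      rw [Sylow.smul_def, Sylow.pointwise_smul_def] at h1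
      have h3 := (Subgroup.mem_pointwise_smul_iff_inv_smul_mem).mp h1
      rw [MulAut.smul_def, MulAut.conj_inv_apply] at h3
      exact h3
    have h3 := hSP h2
    have e : y⁻¹ * t * y = u * ((y * u)⁻¹ * t * (y * u)) * u⁻¹ := by group
    rw [e]
    exact P.mul_mem (P.mul_mem hu h3) (P.inv_mem hu)
  have hdP := hconj d (Subgroup.subset_closure (by simp))
  have hxP := hconj (x * c * x⁻¹) (Subgroup.subset_closure (by simp))
  refine ⟨y, hy, ?_, ?_⟩
  · have e : d⁻¹ * (y⁻¹ * d * y) = 1 := by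
      apply bs_eq_one_of_mem p P N hP hN _ (P.mul_mem (P.inv_mem hd) hdP)
      have e' : d⁻¹ * (y⁻¹ * d * y) = (d⁻¹ * y⁻¹ * d⁻¹⁻¹) * y := by group
      rw [e']
      exact N.mul_mem (hNn.conj_mem _ (N.inv_mem hy) _) hy
    have e2 : y⁻¹ * d * y = d := by
      have e3 := congrArg (d * ·) e
      simp only [mul_inv_cancel_left, mul_one] at e3
      exact e3
    calc y * d = y * (y⁻¹ * d * y) := by rw [e2]
      _ = d * y := by group
  · have hw : y⁻¹ * x ∈ N := N.mul_mem (N.inv_mem hy) hx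
    have e : (y⁻¹ * (x * c * x⁻¹) * y) * c⁻¹ = 1 := by
      apply bs_eq_one_of_mem p P N hP hN _ (P.mul_mem hxP (P.inv_mem hc))
      have e' : (y⁻¹ * (x * c * x⁻¹) * y) * c⁻¹ =
          (y⁻¹ * x) * (c * (y⁻¹ * x)⁻¹ * c⁻¹) := by group
      rw [e']
      exact N.mul_mem hw (hNn.conj_mem _ (N.inv_mem hw) _)
    have e2 : y⁻¹ * (x * c * x⁻¹) * y = c := by
      have e3 := congrArg (· * c) e
      simp only [inv_mul_cancel_right, one_mul] at e3
      exact e3
    calc y⁻¹ * x * c = (y⁻¹ * (x * c * x⁻¹) * y) * (y⁻¹ * x) := by group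
      _ = c * (y⁻¹ * x) := by rw [e2]

theorem bs_quot {G : Type*} [Group G] [Finite G] (p : ℕ) [Fact p.Prime]
    (P N : Subgroup G) (C D : Set G) (H : BSHyp p P N C D) (R : Subgroup G) [R.Normal] :
    BSHyp p (P.map (QuotientGroup.mk' R)) (N.map (QuotientGroup.mk' R))
      ((QuotientGroup.mk' R) '' C) ((QuotientGroup.mk' R) '' D) := by
  obtain ⟨hP, hNn, hN, hNP, hC, hD, h⟩ := H
  refine ⟨hP.map _, hNn.map _ (QuotientGroup.mk'_surjective R), ?_, ?_, ?_, ?_, ?_⟩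
  · exact Nat.Coprime.coprime_dvd_left (Subgroup.card_map_dvd N (QuotientGroup.mk' R)) hN
  · rw [← Subgroup.map_sup, hNP,
      Subgroup.map_top_of_surjective _ (QuotientGroup.mk'_surjective R)]
  · rw [← MonoidHom.map_closure, hC]
  · rw [← MonoidHom.map_closure, hD]
  · rintro _ ⟨x, hx, rfl⟩ _ ⟨c, hc, rfl⟩ _ ⟨d, hd, rfl⟩
    have e : Subgroup.closure ({(QuotientGroup.mk' R) x * (QuotientGroup.mk' R) c *
        ((QuotientGroup.mk' R) x)⁻¹, (QuotientGroup.mk' R) d} : Set (G ⧸ R)) =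
        (Subgroup.closure ({x * c * x⁻¹, d} : Set G)).map (QuotientGroup.mk' R) := by
      rw [MonoidHom.map_closure, Set.image_pair, map_mul, map_mul, map_inv]
    rw [e]
    exact (h x hx c hc d hd).map _

theorem bs_sub {G : Type*} [Group G] [Finite G] (p : ℕ) [Fact p.Prime]
    (P N : Subgroup G) (C D : Set G) (H : BSHyp p P N C D) (R : Subgroup G) (hRN : R ≤ N)
    (hPR : P ≤ Subgroup.normalizer (R : Set G)) :
    BSHyp p (P.subgroupOf (R ⊔ P)) (R.subgroupOf (R ⊔ P))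
      ((R ⊔ P).subtype ⁻¹' C) ((R ⊔ P).subtype ⁻¹' D) := by
  obtain ⟨hP, hNn, hN, hNP, hC, hD, h⟩ := H
  have hRK : R ≤ R ⊔ P := le_sup_left
  have hPK : P ≤ R ⊔ P := le_sup_right
  have hclos : ∀ E : Set G, Subgroup.closure E = P →
      Subgroup.closure ((R ⊔ P).subtype ⁻¹' E) = P.subgroupOf (R ⊔ P) := by
    intro E hE
    apply Subgroup.map_injective (R ⊔ P).subtype_injective
    rw [MonoidHom.map_closure, Subgroup.map_subgroupOf_eq_of_le hPK,
      Set.image_preimage_eq_of_subset, hE]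
    intro e he
    have heP : e ∈ P := by rw [← hE]; exact Subgroup.subset_closure he
    exact ⟨⟨e, hPK heP⟩, rfl⟩
  refine ⟨hP.comap_subtype, ?_, ?_, ?_, hclos C hC, hclos D hD, ?_⟩
  · exact (Subgroup.normal_subgroupOf_iff_le_normalizer hRK).mpr
      (sup_le Subgroup.le_normalizer hPR)
  · have e : Nat.card ↥(R.subgroupOf (R ⊔ P)) = Nat.card ↥R :=
      Nat.card_congr (Subgroup.subgroupOfEquivOfLe hRK).toEquiv
    rw [e]
    exact Nat.Coprime.coprime_dvd_left (Subgroup.card_dvd_of_le hRN) hN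
  · rw [← Subgroup.subgroupOf_sup hRK hPK, Subgroup.subgroupOf_self]
  · intro x hx c hc d hd
    have hmap : (Subgroup.closure ({x * c * x⁻¹, d} : Set ↥(R ⊔ P))).map (R ⊔ P).subtype =
        Subgroup.closure ({(x : G) * (c : G) * (x : G)⁻¹, (d : G)} : Set G) := by
      rw [MonoidHom.map_closure, Set.image_pair]
      rfl
    have hp : IsPGroup p
        ↥((Subgroup.closure ({x * c * x⁻¹, d} : Set ↥(R ⊔ P))).map (R ⊔ P).subtype) := by
      rw [hmap]
      exact h (x : G) (hRN hx) (c : G) hc (d : G) hd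
    let e := Subgroup.equivMapOfInjective
      (Subgroup.closure ({x * c * x⁻¹, d} : Set ↥(R ⊔ P))) (R ⊔ P).subtype
      (R ⊔ P).subtype_injective
    exact hp.of_injective e.toMonoidHom e.injective

end Cfsg.Agent.Lib.Helper3
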