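import Mathlib
import Cfsg.Agent.Lib.Helper3.BaerSuzB

set_option autoImplicit false

universe u

namespace Cfsg.Agent.Lib.Helper3

theorem bs_main (p : ℕ) [Fact p.Prime] (hp3 : 3 ≤ p) :
    ∀ (k : ℕ) (G : Type u) [Group G] [Finite G] (P N : Subgroup G) (C D : Set G),
      Nat.card ↥N ≤ k → BSHyp p P N C D → ∀ u ∈ P, ∀ x ∈ N, u * x = x * u := by
  intro k
  induction k with
  | zero =>
    intro G _ _ P N C D hk
    have hpos : 0 < Nat.card ↥N := Nat.card_pos
    omega
  | succ k ih =>
    intro G _ _ P N C D hk H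
    by_contra hne
    push_neg at hne
    obtain ⟨u₀, hu₀, x₀, hx₀, hne₀⟩ := hne
    obtain ⟨hP, hNn, hN, hNP, hC, hD, h⟩ := id H
    haveI := hNn
    -- Step A: proper P-invariant subgroups are centralized
    have hA : ∀ R : Subgroup G, R ≤ N → P ≤ Subgroup.normalizer (R : Set G) → R ≠ N →
        ∀ u ∈ P, ∀ x ∈ R, u * x = x * u := by
      intro R hRN hPR hRne u hu x hx
      have hlt : Nat.card ↥R < Nat.card ↥N := card_lt_card_of_lt (lt_of_le_of_ne hRN hRne)
      have hcard : Nat.card ↥(R.subgroupOf (R ⊔ P)) ≤ k := by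
        have e : Nat.card ↥(R.subgroupOf (R ⊔ P)) = Nat.card ↥R :=
          Nat.card_congr (Subgroup.subgroupOfEquivOfLe le_sup_left).toEquiv
        omega
      have hcomm := ih ↥(R ⊔ P) (P.subgroupOf (R ⊔ P)) (R.subgroupOf (R ⊔ P)) _ _ hcard
        (bs_sub p P N C D H R hRN hPR) ⟨u, (le_sup_right : P ≤ R ⊔ P) hu⟩ hu
        ⟨x, (le_sup_left : R ≤ R ⊔ P) hx⟩ hx
      exact congrArg Subtype.val hcomm
    -- Step B: commutators lie in nontrivial normal subgroups
    have hB : ∀ R : Subgroup G, R ≤ N → R.Normal → R ≠ ⊥ →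
        ∀ u ∈ P, ∀ x ∈ N, u * x * u⁻¹ * x⁻¹ ∈ R := by
      intro R hRN hRn hRne u hu x hx
      haveI := hRn
      have hlt : Nat.card ↥(N.map (QuotientGroup.mk' R)) < Nat.card ↥N := by
        obtain ⟨r, hr, hr1⟩ : ∃ r ∈ R, r ≠ 1 := by
          by_contra hcon
          push_neg at hcon
          exact hRne ((Subgroup.eq_bot_iff_forall R).mpr hcon)
        have hsurj := MonoidHom.subgroupMap_surjective (QuotientGroup.mk' R) N
        have hninj : ¬ Function.Injective ((QuotientGroup.mk' R).subgroupMap N) := by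
          intro hinj
          have e : (QuotientGroup.mk' R).subgroupMap N ⟨r, hRN hr⟩ =
              (QuotientGroup.mk' R).subgroupMap N 1 := by
            apply Subtype.ext
            show (QuotientGroup.mk' R) r = (QuotientGroup.mk' R) ((1 : ↥N) : G)
            rw [Subgroup.coe_one, map_one]
            exact (QuotientGroup.eq_one_iff r).mpr hr
          have e2 := hinj e
          exact hr1 (congrArg Subtype.val e2)
        classical
        letI := Fintype.ofFinite ↥N
        letI := Fintype.ofFinite ↥(N.map (QuotientGroup.mk' R))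
        rw [Nat.card_eq_fintype_card, Nat.card_eq_fintype_card]
        exact Fintype.card_lt_of_surjective_not_injective _ hsurj hninj
      have hcard : Nat.card ↥(N.map (QuotientGroup.mk' R)) ≤ k := by omega
      have hcomm := ih (G ⧸ R) (P.map (QuotientGroup.mk' R)) (N.map (QuotientGroup.mk' R)) _ _
        hcard (bs_quot p P N C D H R) _ (Subgroup.mem_map_of_mem _ hu) _
        (Subgroup.mem_map_of_mem _ hx)
      rw [← QuotientGroup.eq_one_iff]
      have e : ((u * x * u⁻¹ * x⁻¹ : G) : G ⧸ R) =
          (QuotientGroup.mk' R) u * (QuotientGroup.mk' R) x * ((QuotientGroup.mk' R) u)⁻¹ *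
            ((QuotientGroup.mk' R) x)⁻¹ := rfl
      rw [e, hcomm, mul_inv_cancel_right, mul_inv_cancel]
    -- Step C: N is a minimal normal subgroup
    have hIrr : ∀ R : Subgroup G, R ≤ N → R.Normal → R = ⊥ ∨ R = N := by
      intro R hRN hRn
      by_contra hcon
      push_neg at hcon
      obtain ⟨hR1, hR2⟩ := hcon
      have hPR : P ≤ Subgroup.normalizer (R : Set G) := by
        haveI := hRn
        rw [Subgroup.normalizer_eq_top]; exact le_top
      apply hne₀
      apply bs_comm_of_quadratic p P N hP hN u₀ x₀ hu₀ (hRN (hB R hRN hRn hR1 u₀ hu₀ x₀ hx₀))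
      exact hA R hRN hPR hR2 u₀ hu₀ _ (hB R hRN hRn hR1 u₀ hu₀ x₀ hx₀)
    -- Step D: N is an r-group
    have hpN : ¬ p ∣ Nat.card ↥N := ((Fact.out : p.Prime).coprime_iff_not_dvd).mp hN.symm
    have hD1 : ∃ (r : ℕ) (_ : Fact r.Prime) (Q : Sylow r ↥N),
        P ≤ Subgroup.normalizer (((Q : Subgroup ↥N).map N.subtype : Subgroup G) : Set G) ∧
        ¬ (∀ u ∈ P, ∀ x ∈ (Q : Subgroup ↥N).map N.subtype, u * x = x * u) := by
      by_contra hcon
      push_neg at hcon
      obtain ⟨Cc, hCc⟩ : ∃ Cc : Subgroup G, Cc = N ⊓ Subgroup.centralizer (P : Set G) :=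
        ⟨_, rfl⟩
      have hdvd : Nat.card ↥N ∣ Nat.card ↥Cc := by
        rw [← Nat.factorization_prime_le_iff_dvd (Nat.card_pos (α := ↥N)).ne'
          (Nat.card_pos (α := ↥Cc)).ne']
        intro r hr
        haveI : Fact r.Prime := ⟨hr⟩
        obtain ⟨Q, hQ⟩ := exists_sylow_normalized (q := r) P N hP hpN
        have hcen := hcon r ⟨hr⟩ Q hQ
        have hle : (Q : Subgroup ↥N).map N.subtype ≤ Cc := by
          rw [hCc]
          intro x hx
          refine ⟨Subgroup.map_subtype_le _ hx, Subgroup.mem_centralizer_iff.mpr ?_⟩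
          intro u hu
          exact hcen u hu x hx
        have hcardQ : Nat.card ↥((Q : Subgroup ↥N).map N.subtype) =
            r ^ (Nat.card ↥N).factorization r := by
          rw [Subgroup.card_map_of_injective N.subtype_injective, Sylow.card_eq_multiplicity]
        have hd := Subgroup.card_dvd_of_le hle
        rw [hcardQ] at hd
        exact (hr.pow_dvd_iff_le_factorization (Nat.card_pos (α := ↥Cc)).ne').mp hd
      have hCN : Cc = N := by
        have hle : Cc ≤ N := by rw [hCc]; exact inf_le_left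
        exact Subgroup.eq_of_le_of_card_ge hle (Nat.le_of_dvd Nat.card_pos hdvd)
      apply hne₀
      have hx₀' : x₀ ∈ Cc := by rw [hCN]; exact hx₀
      rw [hCc] at hx₀'
      exact (Subgroup.mem_centralizer_iff.mp hx₀'.2) u₀ hu₀
    obtain ⟨r, hr, Q, hQn, hQc⟩ := hD1
    haveI := hr
    have hQN : (Q : Subgroup ↥N).map N.subtype = N := by
      by_contra hcon
      exact hQc (hA _ (Subgroup.map_subtype_le _) hQn hcon)
    have hQtop : (Q : Subgroup ↥N) = ⊤ := by
      apply Subgroup.map_injective N.subtype_injective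
      rw [hQN, ← MonoidHom.range_eq_map, Subgroup.range_subtype]
    have hNr : IsPGroup r ↥N := by
      intro g
      obtain ⟨j, hj⟩ := Q.isPGroup' ⟨g, by rw [hQtop]; trivial⟩
      exact ⟨j, by simpa using congrArg Subtype.val hj⟩
    have hNne : Nontrivial ↥N := by
      rw [Subgroup.nontrivial_iff_ne_bot]
      intro hbot
      apply hne₀
      have hx1 : x₀ = 1 := by
        rw [hbot] at hx₀
        exact Subgroup.mem_bot.mp hx₀
      rw [hx1]; simp
    haveI := hNne
    haveI : Group.IsNilpotent ↥N := hNr.isNilpotent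
    have hcomm_lt : commutator ↥N < ⊤ := IsSolvable.commutator_lt_top_of_nontrivial (G := ↥N)
    have hNN : ⁅N, N⁆ ≠ N := by
      intro heq
      apply hcomm_lt.ne
      apply Subgroup.map_injective N.subtype_injective
      rw [Subgroup.map_subtype_commutator, heq, ← MonoidHom.range_eq_map,
        Subgroup.range_subtype]
    -- Step E: N is abelian
    have hNab : ∀ a ∈ N, ∀ b ∈ N, a * b = b * a := by
      have hbot : ⁅N, N⁆ = ⊥ := by
        rcases hIrr ⁅N, N⁆ (Subgroup.commutator_le_right N N) inferInstance with h' | h'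
        · exact h'
        · exact absurd h' hNN
      intro a ha b hb
      have hcen := (Subgroup.commutator_eq_bot_iff_le_centralizer.mp hbot) ha
      exact (Subgroup.mem_centralizer_iff.mp hcen b hb).symm
    -- Step F: P-invariant subgroups are trivial or N
    have hIrr2 : ∀ R : Subgroup G, R ≤ N → P ≤ Subgroup.normalizer (R : Set G) →
        R = ⊥ ∨ R = N := by
      intro R hRN hPR
      apply hIrr R hRN
      rw [← Subgroup.normalizer_eq_top_iff, eq_top_iff, ← hNP]
      refine sup_le ?_ hPR
      intro n hn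
      rw [Subgroup.mem_normalizer_iff]
      intro r'
      constructor
      · intro hr'
        have e : n * r' * n⁻¹ = r' := by
          rw [hNab n hn r' (hRN hr')]; group
        rw [e]; exact hr'
      · intro hr'
        have hc := hNab n hn _ (hRN hr')
        have e : n * (n * r' * n⁻¹) = n * r' := by rw [hc]; group
        have e2 := mul_left_cancel e
        rw [← e2]; exact hr'
    -- Step G: the linear final argument
    have hcommN : ∀ a b : ↥N, a * b = b * a := by
      intro a b
      exact Subtype.ext (hNab a a.2 b b.2)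
    have hirrV : ∀ W : Subgroup ↥N,
        (∀ q ∈ P.map (MulAut.conjNormal : G →* MulAut ↥N), ∀ w ∈ W, q w ∈ W) →
        W = ⊥ ∨ W = ⊤ := by
      intro W hW
      have hfw : ∀ v ∈ P, ∀ t ∈ W.map N.subtype, v * t * v⁻¹ ∈ W.map N.subtype := by
        rintro v hv _ ⟨w, hw, rfl⟩
        refine ⟨(MulAut.conjNormal v : MulAut ↥N) w,
          hW _ (Subgroup.mem_map_of_mem _ hv) w hw, ?_⟩
        exact MulAut.conjNormal_apply v w
      have hPW : P ≤ Subgroup.normalizer ((W.map N.subtype : Subgroup G) : Set G) := by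
        intro v hv
        rw [Subgroup.mem_normalizer_iff]
        intro t
        constructor
        · exact hfw v hv t
        · intro ht
          have h1 := hfw v⁻¹ (P.inv_mem hv) _ ht
          have e : v⁻¹ * (v * t * v⁻¹) * v⁻¹⁻¹ = t := by group
          rwa [e] at h1
      rcases hIrr2 _ (Subgroup.map_subtype_le W) hPW with h' | h'
      · left
        apply Subgroup.map_injective N.subtype_injective
        rw [h', Subgroup.map_bot]
      · right
        apply Subgroup.map_injective N.subtype_injective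
        rw [h', ← MonoidHom.range_eq_map, Subgroup.range_subtype]
    have hfacV : ∀ γ ∈ (MulAut.conjNormal : G →* MulAut ↥N) '' C,
        ∀ δ ∈ (MulAut.conjNormal : G →* MulAut ↥N) '' D, ∀ x : ↥N,
        ∃ y : ↥N, δ y = y ∧ γ (y⁻¹ * x) = y⁻¹ * x := by
      rintro _ ⟨c, hc, rfl⟩ _ ⟨d, hd, rfl⟩ x
      have hcP : c ∈ P := by rw [← hC]; exact Subgroup.subset_closure hc
      have hdP : d ∈ P := by rw [← hD]; exact Subgroup.subset_closure hd
      obtain ⟨y, hy, h1, h2⟩ := bs_factor p P N hP hN hNP (x : G) c d x.2 hcP hdP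
        (h (x : G) x.2 c hc d hd)
      refine ⟨⟨y, hy⟩, ?_, ?_⟩
      · apply Subtype.ext
        rw [MulAut.conjNormal_apply]
        show d * y * d⁻¹ = y
        rw [← h1]; group
      · apply Subtype.ext
        rw [MulAut.conjNormal_apply]
        show c * (y⁻¹ * (x : G)) * c⁻¹ = y⁻¹ * (x : G)
        rw [← h2]; group
    have hQbot := bs_final (V := ↥N) hcommN p hp3 hN
      (P.map (MulAut.conjNormal : G →* MulAut ↥N)) (hP.map _) hirrV
      ((MulAut.conjNormal : G →* MulAut ↥N) '' C) ((MulAut.conjNormal : G →* MulAut ↥N) '' D)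
      (by rw [← MonoidHom.map_closure, hC]) (by rw [← MonoidHom.map_closure, hD]) hfacV
    apply hne₀
    have h1 : (MulAut.conjNormal u₀ : MulAut ↥N) = 1 := by
      have hmem : (MulAut.conjNormal u₀ : MulAut ↥N) ∈
          P.map (MulAut.conjNormal : G →* MulAut ↥N) := Subgroup.mem_map_of_mem _ hu₀
      rw [hQbot] at hmem
      exact Subgroup.mem_bot.mp hmem
    have h2 := congrArg (fun f : MulAut ↥N => ((f ⟨x₀, hx₀⟩ : ↥N) : G)) h1
    simp only [MulAut.conjNormal_apply, MulAut.one_apply] at h2
    calc u₀ * x₀ = u₀ * x₀ * u₀⁻¹ * u₀ := by group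
      _ = x₀ * u₀ := by rw [h2]

end Cfsg.Agent.Lib.Helper3
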