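import Mathlib

set_option autoImplicit false

namespace Cfsg.Agent.Lib.Helper3

/-- If the "norm" `∏_{i<p} z^i` of the automorphism `z` vanishes on `M`, then `z^p = 1`. -/
theorem pow_eq_one_of_norm {M : Type*} [CommGroup M] (z : MulAut M) (p : ℕ)
    (h1 : ∀ m : M, ∏ i ∈ Finset.range p, (z ^ i) m = 1) : z ^ p = 1 := by
  ext m
  have h2 := Finset.prod_range_succ (fun i => (z ^ i) m) p
  have h3 := Finset.prod_range_succ' (fun i => (z ^ i) m) p
  have h4 : ∏ i ∈ Finset.range p, (z ^ (i + 1)) m = 1 := by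
    have h0 := h1 (z m)
    rw [← h0]
    apply Finset.prod_congr rfl
    intro i _
    rw [pow_succ, MulAut.mul_apply]
  rw [h1 m] at h2
  rw [h4] at h3
  rw [h2] at h3
  simpa using h3

/-- **Free action lemma.** Let `K` be a finite commutative group of automorphisms of the
commutative group `M` without `|K|`-torsion, normalized by the automorphism `z`, and suppose the
"norm" `∏_{i<p} y^i` of every `K`-conjugate `y` of `z` vanishes on `M`.  Then `z` centralizes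
`K`. -/
theorem free_action {M : Type*} [CommGroup M] (K : Subgroup (MulAut M)) [Finite K]
    (hKc : ∀ a ∈ K, ∀ b ∈ K, a * b = b * a) (z : MulAut M) (hz : ∀ a ∈ K, z⁻¹ * a * z ∈ K)
    {p : ℕ} (hp : p.Prime)
    (hnorm : ∀ a ∈ K, ∀ m : M, ∏ i ∈ Finset.range p, ((a⁻¹ * z * a) ^ i) m = 1)
    (htor : ∀ m : M, m ^ Nat.card K = 1 → m = 1) :
    ∀ a ∈ K, z * a = a * z := by
  classical
  have hzp : z ^ p = 1 := by
    ext m
    have h1 : ∀ m : M, ∏ i ∈ Finset.range p, (z ^ i) m = 1 := by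
      intro m
      have h0 := hnorm 1 K.one_mem m
      simpa using h0
    have h2 := Finset.prod_range_succ (fun i => (z ^ i) m) p
    have h3 := Finset.prod_range_succ' (fun i => (z ^ i) m) p
    have h4 : ∏ i ∈ Finset.range p, (z ^ (i + 1)) m = 1 := by
      have h0 := h1 (z m)
      rw [← h0]
      apply Finset.prod_congr rfl
      intro i _
      rw [pow_succ, MulAut.mul_apply]
    rw [h1 m] at h2
    rw [h4] at h3
    rw [h2] at h3
    simpa using h3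
  have hzi : ∀ i : ℕ, ∀ a ∈ K, (z ^ i)⁻¹ * a * z ^ i ∈ K := by
    intro i
    induction i with
    | zero => intro a ha; simpa using ha
    | succ i ih =>
      intro a ha
      have h1 := hz _ (ih a ha)
      have h2 : (z ^ (i + 1))⁻¹ * a * z ^ (i + 1) = z⁻¹ * ((z ^ i)⁻¹ * a * z ^ i) * z := by
        rw [pow_succ]; group
      rw [h2]; exact h1
  have hφmul : ∀ i : ℕ, ∀ a ∈ K, ∀ b ∈ K,
      (z ^ i)⁻¹ * (a * b)⁻¹ * z ^ i * (a * b) =
        ((z ^ i)⁻¹ * a⁻¹ * z ^ i * a) * ((z ^ i)⁻¹ * b⁻¹ * z ^ i * b) := by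
    intro i a ha b hb
    have ha' := hzi i _ (K.inv_mem ha)
    have hb' := hzi i _ (K.inv_mem hb)
    have e1 : (z ^ i)⁻¹ * (a * b)⁻¹ * z ^ i * (a * b) =
        ((z ^ i)⁻¹ * b⁻¹ * z ^ i) * ((z ^ i)⁻¹ * a⁻¹ * z ^ i) * a * b := by group
    have e2 : ((z ^ i)⁻¹ * a⁻¹ * z ^ i * a) * ((z ^ i)⁻¹ * b⁻¹ * z ^ i * b) =
        ((z ^ i)⁻¹ * a⁻¹ * z ^ i) * (a * ((z ^ i)⁻¹ * b⁻¹ * z ^ i)) * b := by group
    rw [e1, e2, hKc _ hb' _ ha', hKc a ha _ hb']
    group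
  have hF3 : ∀ i : ℕ, 0 < i → i < p → ∀ a₀ ∈ K, ∃ b ∈ K,
      (z ^ i)⁻¹ * b⁻¹ * z ^ i * b = z⁻¹ * a₀⁻¹ * z * a₀ := by
    intro i hi0 hip a₀ ha₀
    have hcop : Nat.Coprime i p :=
      Nat.Coprime.symm ((Nat.Prime.coprime_iff_not_dvd hp).mpr (Nat.not_dvd_of_pos_of_lt hi0 hip))
    obtain ⟨j, -, hj⟩ := Nat.exists_mul_mod_eq_one_of_coprime hcop hp.one_lt
    have hhj : (z ^ i) ^ j = z := by
      rw [← pow_mul, pow_eq_pow_mod (i * j) hzp, hj, pow_one]
    have hhmul := hφmul i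
    obtain ⟨h, hh⟩ : ∃ h, h = z ^ i := ⟨_, rfl⟩
    have hhK : ∀ j : ℕ, ∀ a ∈ K, (h ^ j)⁻¹ * a * h ^ j ∈ K := by
      intro j a ha
      rw [hh, ← pow_mul]; exact hzi _ a ha
    rw [← hh] at hhmul hhj ⊢
    have key : ∀ j : ℕ, ∀ a ∈ K, ∃ b ∈ K,
        h⁻¹ * b⁻¹ * h * b = (h ^ j)⁻¹ * a⁻¹ * h ^ j * a := by
      intro j
      induction j with
      | zero => intro a ha; exact ⟨1, K.one_mem, by simp⟩
      | succ j ih =>
        intro a ha
        obtain ⟨b₁, hb₁, hb₁e⟩ := ih a ha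
        have ha' : (h ^ j)⁻¹ * a * h ^ j ∈ K := hhK j a ha
        refine ⟨(h ^ j)⁻¹ * a * h ^ j * b₁, K.mul_mem ha' hb₁, ?_⟩
        rw [hhmul _ ha' _ hb₁, hb₁e, pow_succ]
        group
    obtain ⟨b, hb, hbe⟩ := key j a₀ ha₀
    exact ⟨b, hb, by rw [hbe, hhj]⟩
  intro a₀ ha₀
  have hc : z⁻¹ * a₀⁻¹ * z * a₀ = 1 := by
    ext m₀
    rw [MulAut.one_apply]
    obtain ⟨c₀, hc₀⟩ : ∃ c₀, c₀ = z⁻¹ * a₀⁻¹ * z * a₀ := ⟨_, rfl⟩
    rw [← hc₀]
    have hm : (c₀ m₀ / m₀) ^ Nat.card K = 1 := by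
      let _ : Fintype K := Fintype.ofFinite K
      obtain ⟨m, hmdef⟩ : ∃ m, m = c₀ m₀ / m₀ := ⟨_, rfl⟩
      rw [← hmdef]
      have h1 : ∏ a : K, ∏ i ∈ Finset.range p, (((a : MulAut M)⁻¹ * z * a) ^ i) m = 1 :=
        Finset.prod_eq_one fun a _ => hnorm a a.2 m
      rw [Finset.prod_comm] at h1
      have h2 : ∀ i : ℕ, ∏ a : K, (((a : MulAut M)⁻¹ * z * a) ^ i) m =
          (z ^ i) (∏ a : K, ((z ^ i)⁻¹ * (a : MulAut M)⁻¹ * z ^ i * a) m) := by
        intro i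
        rw [map_prod]
        apply Finset.prod_congr rfl
        intro a _
        rw [← MulAut.mul_apply]
        congr 1
        have h0 : ((a : MulAut M)⁻¹ * z * a) ^ i = (a : MulAut M)⁻¹ * z ^ i * a := by
          have h00 := conj_pow (a := (a : MulAut M)⁻¹) (b := z) (i := i)
          simpa using h00
        rw [h0]; group
      have h3 : ∀ i : ℕ, 0 < i → i < p →
          ∏ a : K, ((z ^ i)⁻¹ * (a : MulAut M)⁻¹ * z ^ i * a) m = 1 := by
        intro i hi0 hip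
        obtain ⟨b, hb, hbe⟩ := hF3 i hi0 hip a₀ ha₀
        rw [← hc₀] at hbe
        rw [hmdef]
        simp only [map_div]
        rw [Finset.prod_div_distrib, div_eq_one]
        have h4 : ∀ a : K, ((z ^ i)⁻¹ * (a : MulAut M)⁻¹ * z ^ i * a) (c₀ m₀) =
            ((z ^ i)⁻¹ * ((a * ⟨b, hb⟩ : K) : MulAut M)⁻¹ * z ^ i *
              ((a * ⟨b, hb⟩ : K) : MulAut M)) m₀ := by
          intro a
          rw [← MulAut.mul_apply, ← hbe, Subgroup.coe_mul, hφmul i a a.2 b hb]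
        rw [Finset.prod_congr rfl (fun a _ => h4 a)]
        exact Fintype.prod_equiv (Equiv.mulRight (⟨b, hb⟩ : K)) _ _ (fun a => rfl)
      obtain ⟨p', rfl⟩ : ∃ p', p = p' + 1 := ⟨p - 1, by have := hp.pos; omega⟩
      rw [Finset.prod_range_succ'] at h1
      have h5 : ∏ i ∈ Finset.range p', ∏ a : K, (((a : MulAut M)⁻¹ * z * a) ^ (i + 1)) m = 1 := by
        apply Finset.prod_eq_one
        intro i hi
        have hi' := Finset.mem_range.mp hi
        rw [h2, h3 (i + 1) (by omega) (by omega), map_one]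
      rw [h5, one_mul] at h1
      simpa [Finset.prod_const, Finset.card_univ, Nat.card_eq_fintype_card] using h1
    have h6 := htor _ hm
    exact div_eq_one.mp h6
  calc z * a₀ = a₀ * z * (z⁻¹ * a₀⁻¹ * z * a₀) := by group
    _ = a₀ * z := by rw [hc, mul_one]

end Cfsg.Agent.Lib.Helper3
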