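import Mathlib
import Cfsg.Prelude.Def_LocalEven
import Cfsg.Prelude.Def_PLocal
import Cfsg.Agent.Lib.Helper3.FreeAct
import Cfsg.Agent.Lib.Helper3.NormLemma
import Cfsg.Agent.Lib.Helper3.Crit
import Cfsg.Agent.Lib.Helper3.TransferChief
import Cfsg.Agent.Lib.Helper3.NPC

set_option autoImplicit false

namespace Cfsg.Agent.Lib.Helper3

open Cfsg
open scoped commutatorElement

universe u

section

variable {Y : Type*} [Group Y]

theorem secAct_aux (U V : Subgroup Y) [hU : U.Normal] [hV : V.Normal] (y : Y) :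
    (V.subgroupOf U).map ((MulAut.conjNormal y : MulAut ↥U) : ↥U →* ↥U) = V.subgroupOf U := by
  ext u
  constructor
  · rintro ⟨x, hx, rfl⟩
    have hx' : (x : Y) ∈ V := hx
    have h1 : ((MulAut.conjNormal y x : ↥U) : Y) = y * x * y⁻¹ := MulAut.conjNormal_apply y x
    show ((MulAut.conjNormal y x : ↥U) : Y) ∈ V
    rw [h1]
    exact hV.conj_mem _ hx' y
  · intro hu
    rw [Subgroup.mem_subgroupOf] at hu
    refine ⟨MulAut.conjNormal y⁻¹ u, ?_, ?_⟩
    · show ((MulAut.conjNormal y⁻¹ u : ↥U) : Y) ∈ V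
      rw [MulAut.conjNormal_apply]
      exact hV.conj_mem _ hu y⁻¹
    · apply Subtype.ext
      show ((MulAut.conjNormal y (MulAut.conjNormal y⁻¹ u) : ↥U) : Y) = u
      rw [MulAut.conjNormal_apply, MulAut.conjNormal_apply]
      group

/-- The conjugation action of `Y` on the section `U/V` (both normal). -/
noncomputable def secAct (U V : Subgroup Y) [hU : U.Normal] [hV : V.Normal] :
    Y →* MulAut (↥U ⧸ V.subgroupOf U) where
  toFun y := QuotientGroup.congr (V.subgroupOf U) (V.subgroupOf U) (MulAut.conjNormal y)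
    (secAct_aux U V y)
  map_one' := by
    ext x
    obtain ⟨u, rfl⟩ := QuotientGroup.mk_surjective x
    rw [QuotientGroup.congr_mk, map_one]
    rfl
  map_mul' := by
    intro a b
    ext x
    obtain ⟨u, rfl⟩ := QuotientGroup.mk_surjective x
    rw [MulAut.mul_apply, QuotientGroup.congr_mk, QuotientGroup.congr_mk, QuotientGroup.congr_mk,
      map_mul]
    rfl

theorem secAct_mk (U V : Subgroup Y) [hU : U.Normal] [hV : V.Normal] (y : Y) (u : ↥U) :
    secAct U V y (QuotientGroup.mk u) = QuotientGroup.mk (MulAut.conjNormal y u) :=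
  QuotientGroup.congr_mk _ _ _ (secAct_aux U V y) u

theorem secAct_eq_one_iff (U V : Subgroup Y) [hU : U.Normal] [hV : V.Normal] (y : Y) :
    secAct U V y = 1 ↔ ∀ u ∈ U, u⁻¹ * (y * u * y⁻¹) ∈ V := by
  constructor
  · intro h u hu
    have h1 := secAct_mk U V y ⟨u, hu⟩
    rw [h, MulAut.one_apply] at h1
    have h2 := QuotientGroup.eq.mp h1
    rw [Subgroup.mem_subgroupOf] at h2
    simpa [MulAut.conjNormal_apply] using h2
  · intro h
    ext x
    obtain ⟨u, rfl⟩ := QuotientGroup.mk_surjective x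
    rw [secAct_mk, MulAut.one_apply]
    symm
    apply QuotientGroup.eq.mpr
    rw [Subgroup.mem_subgroupOf]
    have h2 := h u u.2
    simpa [MulAut.conjNormal_apply] using h2

/-- If `y` acts trivially on `U/V` then `[U, ⟨y⟩] ≤ V`. -/
theorem commutator_zpowers_le_of_secAct_eq_one (U V : Subgroup Y) [hU : U.Normal] [hV : V.Normal]
    (y : Y) (h : secAct U V y = 1) : ⁅U, Subgroup.zpowers y⁆ ≤ V := by
  rw [Subgroup.commutator_le]
  intro u hu z hz
  obtain ⟨k, rfl⟩ := Subgroup.mem_zpowers_iff.mp hz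
  have h1 : secAct U V (y ^ k) = 1 := by rw [map_zpow, h, one_zpow]
  have h2 := (secAct_eq_one_iff U V (y ^ k)).mp h1 u⁻¹ (U.inv_mem hu)
  have h3 : ⁅u, y ^ k⁆ = u⁻¹⁻¹ * (y ^ k * u⁻¹ * (y ^ k)⁻¹) := by
    rw [commutatorElement_def]; group
  rw [h3]; exact h2

end

section

variable {G : Type*} [Group G] [Finite G] {p : ℕ} [Fact p.Prime]

/-- A normal `p`-subgroup centralizes every chief factor inside a `p`-group. -/
theorem chief_commutator_le_of_normal_pGroup {U V : Subgroup G} (h : IsChiefFactor U V)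
    (hU : IsPGroup p ↥U) (A : Subgroup G) [hAn : A.Normal] (hA : IsPGroup p ↥A) : ⁅U, A⁆ ≤ V := by
  obtain ⟨hlt, hUn, hVn, hmax⟩ := h
  have hcn : (⁅U, A⁆).Normal := Subgroup.commutator_normal U A
  have hNn : (V ⊔ ⁅U, A⁆).Normal := Subgroup.sup_normal _ _
  have hle : ⁅U, A⁆ ≤ U := Subgroup.commutator_le_left U A
  rcases hmax _ hNn le_sup_left (sup_le hlt.le hle) with h1 | h1
  · exact le_sup_right.trans (le_of_eq h1)
  · exfalso
    have hUle : U ≤ V ⊔ ⁅U, A⁆ := le_of_eq h1.symm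
    have key : ∀ n : ℕ, U ≤ V ⊔ iterCommutator U A n := by
      intro n
      induction n with
      | zero => exact le_sup_right
      | succ n ih =>
        refine hUle.trans (sup_le le_sup_left ?_)
        calc ⁅U, A⁆ ≤ ⁅V ⊔ iterCommutator U A n, A⁆ := Subgroup.commutator_mono ih le_rfl
          _ ≤ V ⊔ ⁅iterCommutator U A n, A⁆ := commutator_sup_le_of_normal V _ A
    have hTp : IsPGroup p ↥(U ⊔ A) := IsPGroup.to_sup_of_normal_right hU hA
    obtain ⟨m, hm⟩ := exists_iterCommutator_eq_bot (U ⊔ A) U hTp le_sup_left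
    have h2 : iterCommutator U A m = ⊥ := by
      rw [eq_bot_iff, ← hm]
      exact iterCommutator_mono le_rfl le_sup_right m
    have h3 := key m
    rw [h2, sup_bot_eq] at h3
    exact (not_le_of_gt hlt) h3

/-- A normal subgroup with `p`-group quotient, joined with a Sylow `p`-subgroup, is everything. -/
theorem sup_sylow_eq_top (B : Subgroup G) [hBn : B.Normal] (hYB : ∀ y : G, ∃ k : ℕ, y ^ p ^ k ∈ B)
    (T : Sylow p G) : B ⊔ (T : Subgroup G) = ⊤ := by
  have hq : IsPGroup p (G ⧸ B) := by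
    intro x
    obtain ⟨y, rfl⟩ := QuotientGroup.mk_surjective x
    obtain ⟨k, hk⟩ := hYB y
    exact ⟨k, by rw [← QuotientGroup.mk_pow]; exact (QuotientGroup.eq_one_iff _).mpr hk⟩
  obtain ⟨n, hn⟩ := IsPGroup.iff_card.mp hq
  have h1 : (B ⊔ (T : Subgroup G)).index ∣ p ^ n := by
    rw [← hn, ← Subgroup.index_eq_card]
    exact Subgroup.index_dvd_of_le le_sup_left
  obtain ⟨j, -, hj⟩ := (Nat.dvd_prime_pow Fact.out).mp h1
  have h2 : (B ⊔ (T : Subgroup G)).index ∣ (T : Subgroup G).index :=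
    Subgroup.index_dvd_of_le le_sup_right
  have hj0 : j = 0 := by
    by_contra hne
    apply T.not_dvd_index
    refine dvd_trans ?_ h2
    rw [hj]
    exact dvd_pow_self p hne
  rw [hj0, pow_zero] at hj
  exact Subgroup.index_eq_one.mp hj

end

/-- If the image of `g` in the automorphism group of the chief factor `U/V` (a `p`-group) has
order dividing `p` and centralizes the image of a normal subgroup `B` with `Y/B` a `p`-group,
then `g` acts trivially on `U/V`. -/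
theorem secAct_eq_one_of_central {Y : Type*} [Group Y] [Finite Y] {p : ℕ} [Fact p.Prime]
    {U V : Subgroup Y} [hUn : U.Normal] [hVn : V.Normal] (hlt : V < U) (hUp : IsPGroup p ↥U)
    (hmax : ∀ N : Subgroup Y, N.Normal → V ≤ N → N ≤ U → N = V ∨ N = U)
    (B : Subgroup Y) [hBn : B.Normal] (hYB : ∀ y : Y, ∃ k : ℕ, y ^ p ^ k ∈ B) (g : Y)
    (hgp : (secAct U V g) ^ p = 1)
    (hgB : ∀ b ∈ B, secAct U V g * secAct U V b = secAct U V b * secAct U V g) :
    secAct U V g = 1 := by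
  classical
  obtain ⟨ρ, hρ⟩ : ∃ ρ : Y →* MulAut (↥U ⧸ V.subgroupOf U), ρ = secAct U V := ⟨_, rfl⟩
  rw [← hρ] at hgp hgB ⊢
  obtain ⟨e, m, hm, ho⟩ := Nat.exists_eq_pow_mul_and_not_dvd (orderOf_pos g).ne' p
    (Fact.out : p.Prime).ne_one
  have hmcop : Nat.Coprime m p := ((Nat.Prime.coprime_iff_not_dvd Fact.out).mpr hm).symm
  obtain ⟨m', -, hm'⟩ := Nat.exists_mul_mod_eq_one_of_coprime hmcop (Fact.out : p.Prime).one_lt
  obtain ⟨g', hg'⟩ : ∃ g', g' = g ^ (m * m') := ⟨_, rfl⟩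
  have hg'p : g' ^ p ^ e = 1 := by
    rw [hg', ← pow_mul, show m * m' * p ^ e = (p ^ e * m) * m' by ring, ← ho, pow_mul,
      pow_orderOf_eq_one, one_pow]
  have hρg' : ρ g' = ρ g := by
    rw [hg', map_pow, pow_eq_pow_mod (m * m') hgp, hm', pow_one]
  have hZp : IsPGroup p ↥(Subgroup.zpowers g') := by
    intro x
    obtain ⟨n, hn⟩ := Subgroup.mem_zpowers_iff.mp x.2
    refine ⟨e, Subtype.ext ?_⟩
    rw [Subgroup.coe_pow, Subgroup.coe_one, ← hn, ← zpow_natCast, ← zpow_mul, mul_comm, zpow_mul,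
      zpow_natCast, hg'p, one_zpow]
  obtain ⟨T, hT⟩ := hZp.exists_le_sylow
  have hg'T : g' ∈ (T : Subgroup Y) := hT (Subgroup.mem_zpowers g')
  have hBT := sup_sylow_eq_top B hYB T
  obtain ⟨C, hC⟩ : ∃ C : Subgroup Y, C = (Subgroup.centralizer
      ((B.map ρ : Subgroup _) : Set (MulAut (↥U ⧸ V.subgroupOf U)))).comap ρ := ⟨_, rfl⟩
  have hCmem : ∀ y : Y, y ∈ C ↔ ∀ b ∈ B, ρ y * ρ b = ρ b * ρ y := by
    intro y
    rw [hC, Subgroup.mem_comap, Subgroup.mem_centralizer_iff]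
    constructor
    · intro h b hb
      exact (h (ρ b) (Subgroup.mem_map_of_mem ρ hb)).symm
    · rintro h _ ⟨b, hb, rfl⟩
      exact (h b hb).symm
  have hCconj : ∀ t : Y, ∀ r ∈ C, t⁻¹ * r * t ∈ C := by
    intro t r hr
    rw [hCmem] at hr ⊢
    intro b hb
    have h1 := hr (t * b * t⁻¹) (hBn.conj_mem b hb t)
    simp only [map_mul, map_inv] at h1 ⊢
    calc (ρ t)⁻¹ * ρ r * ρ t * ρ b = (ρ t)⁻¹ * (ρ r * (ρ t * ρ b * (ρ t)⁻¹)) * ρ t := by group
      _ = (ρ t)⁻¹ * (ρ t * ρ b * (ρ t)⁻¹ * ρ r) * ρ t := by rw [h1]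
      _ = ρ b * ((ρ t)⁻¹ * ρ r * ρ t) := by group
  obtain ⟨R, hR⟩ : ∃ R, R = (T : Subgroup Y) ⊓ C := ⟨_, rfl⟩
  have hRp : IsPGroup p ↥R := by rw [hR]; exact T.isPGroup'.to_le inf_le_left
  have hg'R : g' ∈ R := by
    rw [hR]
    refine Subgroup.mem_inf.mpr ⟨hg'T, (hCmem g').mpr ?_⟩
    intro b hb
    rw [hρg']; exact hgB b hb
  let F : Subgroup (↥U ⧸ V.subgroupOf U) :=
    { carrier := {m | ∀ r ∈ R, ρ r m = m}
      one_mem' := fun r _ => map_one _
      mul_mem' := by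
        intro a b ha hb r hr
        rw [map_mul, ha r hr, hb r hr]
      inv_mem' := by
        intro a ha r hr
        rw [map_inv, ha r hr] }
  have hFB : ∀ b ∈ B, ∀ m ∈ F, ρ b m ∈ F := by
    intro b hb m hm r hr
    have hrC : r ∈ C := by rw [hR] at hr; exact (Subgroup.mem_inf.mp hr).2
    have h1 := (hCmem r).mp hrC b hb
    have h2 : ρ r (ρ b m) = ρ b (ρ r m) := by
      rw [← MulAut.mul_apply, h1, MulAut.mul_apply]
    rw [h2, hm r hr]
  have hFT : ∀ t ∈ (T : Subgroup Y), ∀ m ∈ F, ρ t m ∈ F := by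
    intro t ht m hm r hr
    have hr' : t⁻¹ * r * t ∈ R := by
      rw [hR] at hr ⊢
      obtain ⟨hrT, hrC⟩ := Subgroup.mem_inf.mp hr
      exact Subgroup.mem_inf.mpr ⟨Subgroup.mul_mem _ (Subgroup.mul_mem _
        (Subgroup.inv_mem _ ht) hrT) ht, hCconj t r hrC⟩
    have h2 : ρ r (ρ t m) = ρ t (ρ (t⁻¹ * r * t) m) := by
      rw [← MulAut.mul_apply, ← MulAut.mul_apply, ← map_mul, ← map_mul]
      congr 2
      group
    rw [h2, hm _ hr']
  have hFY : ∀ y : Y, ∀ m ∈ F, ρ y m ∈ F := by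
    intro y m hm
    have hy : y ∈ B ⊔ (T : Subgroup Y) := by rw [hBT]; exact Subgroup.mem_top y
    obtain ⟨b, hb, t, ht, rfl⟩ := Subgroup.mem_sup_of_normal_left.mp hy
    rw [map_mul, MulAut.mul_apply]
    exact hFB b hb _ (hFT t ht m hm)
  have hMp : IsPGroup p (↥U ⧸ V.subgroupOf U) := hUp.to_quotient _
  have hMnt : Nontrivial (↥U ⧸ V.subgroupOf U) := by
    rw [← not_subsingleton_iff_nontrivial]
    intro hs
    have h2 := QuotientGroup.subgroup_eq_top_of_subsingleton _ hs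
    rw [Subgroup.subgroupOf_eq_top] at h2
    exact (not_le_of_gt hlt) h2
  have hpM : p ∣ Nat.card (↥U ⧸ V.subgroupOf U) := by
    obtain ⟨n, hn⟩ := IsPGroup.iff_card.mp hMp
    rw [hn]
    apply dvd_pow_self
    rintro rfl
    rw [pow_zero] at hn
    have h3 := Finite.one_lt_card (α := ↥U ⧸ V.subgroupOf U)
    omega
  let act : MulAction ↥R (↥U ⧸ V.subgroupOf U) := MulAction.compHom _ (ρ.comp R.subtype)
  have hfix1 : (1 : ↥U ⧸ V.subgroupOf U) ∈ MulAction.fixedPoints ↥R (↥U ⧸ V.subgroupOf U) := by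
    intro r
    show ρ r 1 = 1
    exact map_one _
  obtain ⟨b, hbfix, hb1⟩ := hRp.exists_fixed_point_of_prime_dvd_card_of_fixed_point _ hpM hfix1
  have hbF : b ∈ F := by
    intro r hr
    exact hbfix ⟨r, hr⟩
  obtain ⟨U₁, hU₁⟩ : ∃ U₁ : Subgroup Y,
      U₁ = (F.comap (QuotientGroup.mk' (V.subgroupOf U))).map U.subtype := ⟨_, rfl⟩
  have hU₁mem : ∀ y : Y, y ∈ U₁ ↔
      ∃ h : y ∈ U, (QuotientGroup.mk (⟨y, h⟩ : ↥U) : ↥U ⧸ V.subgroupOf U) ∈ F := by
    intro y
    rw [hU₁]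
    constructor
    · rintro ⟨u, hu, rfl⟩
      exact ⟨u.2, hu⟩
    · rintro ⟨h, hF⟩
      exact ⟨⟨y, h⟩, hF, rfl⟩
  have hU₁n : U₁.Normal := by
    constructor
    intro n hn y
    rw [hU₁mem] at hn ⊢
    obtain ⟨h, hF⟩ := hn
    refine ⟨hUn.conj_mem n h y, ?_⟩
    have h1 := hFY y _ hF
    rw [hρ, secAct_mk] at h1
    have h2 : (⟨y * n * y⁻¹, hUn.conj_mem n h y⟩ : ↥U) = MulAut.conjNormal y (⟨n, h⟩ : ↥U) := by
      apply Subtype.ext
      rw [MulAut.conjNormal_apply]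
    rw [h2]; exact h1
  have hVU₁ : V ≤ U₁ := by
    intro v hv
    rw [hU₁mem]
    refine ⟨hlt.le hv, ?_⟩
    have h1 : (QuotientGroup.mk (⟨v, hlt.le hv⟩ : ↥U) : ↥U ⧸ V.subgroupOf U) = 1 :=
      (QuotientGroup.eq_one_iff _).mpr hv
    rw [h1]; exact F.one_mem
  have hU₁U : U₁ ≤ U := by rw [hU₁]; exact Subgroup.map_subtype_le _
  have hFtop : ∀ m, m ∈ F := by
    rcases hmax U₁ hU₁n hVU₁ hU₁U with h1 | h1
    · exfalso
      obtain ⟨u, rfl⟩ := QuotientGroup.mk_surjective b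
      have h2 : (u : Y) ∈ U₁ := (hU₁mem _).mpr ⟨u.2, hbF⟩
      rw [h1] at h2
      apply hb1
      symm
      exact (QuotientGroup.eq_one_iff _).mpr h2
    · intro m
      obtain ⟨u, rfl⟩ := QuotientGroup.mk_surjective m
      have h2 : (u : Y) ∈ U₁ := by rw [h1]; exact u.2
      obtain ⟨h, hF⟩ := (hU₁mem _).mp h2
      exact hF
  rw [← hρg']
  ext m
  rw [MulAut.one_apply]
  exact hFtop m g' hg'R

end Cfsg.Agent.Lib.Helper3
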