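import Mathlib
import Cfsg.Prelude.Def_ConjugacyFunctors
import Cfsg.Agent.Lib.Helper3.CtrlFamily

set_option autoImplicit false

namespace Cfsg.Agent.Lib.Helper3

open Cfsg

/-- `RChain M T A g`: right conjugation of `A` by `g` is a composite of right conjugations by
elements of `M`, all intermediate images (including the first and the last) lying in `T`. -/
inductive RChain {G : Type*} [Group G] (M : Set G) (T : Set G) : Set G → G → Prop
  | nil (A : Set G) : A ⊆ T → RChain M T A 1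
  | cons (A : Set G) (x g : G) : x ∈ M → A ⊆ T → RChain M T (rcj x A) g → RChain M T A (x * g)

theorem RChain.subset_left {G : Type*} [Group G] {M T A : Set G} {g : G} (h : RChain M T A g) :
    A ⊆ T := by
  cases h with
  | nil _ h => exact h
  | cons _ _ _ _ h _ => exact h

theorem RChain.subset_right {G : Type*} [Group G] {M T A : Set G} {g : G} (h : RChain M T A g) :
    rcj g A ⊆ T := by
  induction h with
  | nil A hA => rw [rcj_one]; exact hA
  | cons A x g _ _ _ ih => rw [rcj_mul]; exact ih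

theorem RChain.mono {G : Type*} [Group G] {M T A : Set G} {g : G} (h : RChain M T A g) :
    ∀ {A' : Set G}, A' ⊆ A → RChain M T A' g := by
  induction h with
  | nil A hA => intro A' hA'; exact RChain.nil A' (hA'.trans hA)
  | cons A x g hx hA _ ih =>
    intro A' hA'
    exact RChain.cons A' x g hx (hA'.trans hA) (ih (rcj_mono hA' x))

theorem RChain.single {G : Type*} [Group G] {M T A : Set G} {x : G} (hx : x ∈ M) (hA : A ⊆ T)
    (hA' : rcj x A ⊆ T) : RChain M T A x := by
  have := RChain.cons A x 1 hx hA (RChain.nil _ hA')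
  rwa [mul_one] at this

theorem RChain.trans {G : Type*} [Group G] {M T A : Set G} {g₁ : G} (h : RChain M T A g₁) :
    ∀ {g₂ : G}, RChain M T (rcj g₁ A) g₂ → RChain M T A (g₁ * g₂) := by
  induction h with
  | nil A _ =>
    intro g₂ h₂
    rw [rcj_one] at h₂
    rwa [one_mul]
  | cons A x g hx hA _ ih =>
    intro g₂ h₂
    rw [rcj_mul] at h₂
    rw [mul_assoc]
    exact RChain.cons A x (g * g₂) hx hA (ih h₂)

theorem RChain.symm {G : Type*} [Group G] {M T A : Set G} {g : G} (hM : ∀ x ∈ M, x⁻¹ ∈ M)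
    (h : RChain M T A g) : RChain M T (rcj g A) g⁻¹ := by
  induction h with
  | nil A hA => rw [inv_one, rcj_one]; exact RChain.nil _ hA
  | cons A x g hx hA hrest ih =>
    rw [mul_inv_rev, rcj_mul]
    apply RChain.trans ih
    rw [rcj_inv_rcj]
    apply RChain.single (hM x hx) hrest.subset_left
    rw [rcj_inv_rcj]; exact hA

/-- `Good M T A g`: some chain realizes the right conjugation by `g` on `A`. -/
def Good {G : Type*} [Group G] (M T A : Set G) (g : G) : Prop :=
  ∃ g' : G, RChain M T A g' ∧ ∀ a ∈ A, g'⁻¹ * a * g' = g⁻¹ * a * g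

theorem rcj_congr {G : Type*} [Group G] {A : Set G} {g g' : G}
    (h : ∀ a ∈ A, g'⁻¹ * a * g' = g⁻¹ * a * g) : rcj g' A = rcj g A :=
  Set.image_congr h

theorem Good.mono {G : Type*} [Group G] {M T A A' : Set G} {g : G} (h : Good M T A g)
    (hA : A' ⊆ A) : Good M T A' g := by
  obtain ⟨g', hg', hag⟩ := h
  exact ⟨g', hg'.mono hA, fun a ha => hag a (hA ha)⟩

theorem Good.trans {G : Type*} [Group G] {M T A : Set G} {g₁ g₂ : G} (h₁ : Good M T A g₁)
    (h₂ : Good M T (rcj g₁ A) g₂) : Good M T A (g₁ * g₂) := by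
  obtain ⟨g₁', hg₁', hag₁⟩ := h₁
  obtain ⟨g₂', hg₂', hag₂⟩ := h₂
  refine ⟨g₁' * g₂', hg₁'.trans (by rw [rcj_congr hag₁]; exact hg₂'), fun a ha => ?_⟩
  have h1 := hag₁ a ha
  have h2 := hag₂ (g₁⁻¹ * a * g₁) ⟨a, ha, rfl⟩
  calc (g₁' * g₂')⁻¹ * a * (g₁' * g₂') = g₂'⁻¹ * (g₁'⁻¹ * a * g₁') * g₂' := by group
    _ = g₂'⁻¹ * (g₁⁻¹ * a * g₁) * g₂' := by rw [h1]
    _ = g₂⁻¹ * (g₁⁻¹ * a * g₁) * g₂ := h2
    _ = (g₁ * g₂)⁻¹ * a * (g₁ * g₂) := by group

theorem Good.symm {G : Type*} [Group G] {M T A : Set G} {g : G} (hM : ∀ x ∈ M, x⁻¹ ∈ M)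
    (h : Good M T A g) : Good M T (rcj g A) g⁻¹ := by
  obtain ⟨g', hg', hag⟩ := h
  refine ⟨g'⁻¹, by rw [← rcj_congr hag]; exact hg'.symm hM, ?_⟩
  rintro _ ⟨a, ha, rfl⟩
  have h1 := hag a ha
  calc g'⁻¹⁻¹ * (g⁻¹ * a * g) * g'⁻¹ = g' * (g'⁻¹ * a * g') * g'⁻¹ := by rw [h1, inv_inv]
    _ = a := by group
    _ = g⁻¹⁻¹ * (g⁻¹ * a * g) * g⁻¹ := by group

theorem Good.congr {G : Type*} [Group G] {M T A : Set G} {g g₀ : G} (h : Good M T A g)
    (hag : ∀ a ∈ A, g⁻¹ * a * g = g₀⁻¹ * a * g₀) : Good M T A g₀ := by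
  obtain ⟨g', hg', hag'⟩ := h
  exact ⟨g', hg', fun a ha => (hag' a ha).trans (hag a ha)⟩

/-- From the indexed form used in the prelude to `RChain`. -/
theorem RChain.of_fin {G : Type*} [Group G] {M T A : Set G} (hM : ∀ x ∈ M, x⁻¹ ∈ M) :
    ∀ (n : ℕ) (c : Fin (n + 1) → G), c 0 = 1 →
      (∀ i : Fin n, c i.succ * (c i.castSucc)⁻¹ ∈ M) →
      (∀ i : Fin (n + 1), (fun a => c i * a * (c i)⁻¹) '' A ⊆ T) →
      RChain M T A (c (Fin.last n))⁻¹ := by
  intro n
  induction n with
  | zero =>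
    intro c hc0 _ hT
    have h1 : c (Fin.last 0) = 1 := hc0
    rw [h1, inv_one]
    apply RChain.nil
    have h2 := hT 0
    rw [hc0] at h2
    intro a ha
    have := h2 ⟨a, ha, rfl⟩
    simpa using this
  | succ n ih =>
    intro c hc0 hstep hT
    have h1 := ih (fun j : Fin (n + 1) => c j.castSucc) (by simpa using hc0)
      (fun i => by
        have := hstep i.castSucc
        rwa [Fin.succ_castSucc] at this)
      (fun i => hT i.castSucc)
    have h2 := hstep (Fin.last n)
    rw [Fin.succ_last] at h2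
    have h3 : (c (Fin.last (n + 1)))⁻¹ =
        (c (Fin.last n).castSucc)⁻¹ * (c (Fin.last (n + 1)) * (c (Fin.last n).castSucc)⁻¹)⁻¹ := by
      group
    rw [h3]
    apply RChain.trans h1
    apply RChain.single (hM _ h2) h1.subset_right
    rw [← rcj_mul, ← h3]
    rintro _ ⟨a, ha, rfl⟩
    have := hT (Fin.last (n + 1)) ⟨a, ha, rfl⟩
    simpa using this

/-- From `RChain` to the indexed form used in the prelude. -/
theorem RChain.exists_fin {G : Type*} [Group G] {M T A : Set G} {g : G} (hM : ∀ x ∈ M, x⁻¹ ∈ M)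
    (h : RChain M T A g) :
    ∃ (n : ℕ) (c : Fin (n + 1) → G), c 0 = 1 ∧
      (∀ i : Fin n, c i.succ * (c i.castSucc)⁻¹ ∈ M) ∧
      (∀ i : Fin (n + 1), (fun a => c i * a * (c i)⁻¹) '' A ⊆ T) ∧
      c (Fin.last n) = g⁻¹ := by
  induction h with
  | nil A hA =>
    refine ⟨0, fun _ => 1, rfl, fun i => i.elim0, fun i => ?_, by simp⟩
    rintro _ ⟨a, ha, rfl⟩
    simpa using hA ha
  | cons A x g hx hA _ ih =>
    obtain ⟨n, c, hc0, hstep, hT, hlast⟩ := ih
    refine ⟨n + 1, Fin.cons 1 (fun j => c j * x⁻¹), rfl, ?_, ?_, ?_⟩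
    · intro i
      refine Fin.cases ?_ (fun j => ?_) i
      · have h1 : (Fin.cons 1 (fun j => c j * x⁻¹) : Fin (n + 2) → G) (Fin.succ 0) = c 0 * x⁻¹ :=
          Fin.cons_succ _ _ _
        have h2 : (Fin.cons 1 (fun j => c j * x⁻¹) : Fin (n + 2) → G) (Fin.castSucc 0) = 1 := rfl
        rw [h1, h2, hc0]
        simpa using hM x hx
      · have h1 : (Fin.cons 1 (fun j => c j * x⁻¹) : Fin (n + 2) → G) (Fin.succ j.succ) =
            c j.succ * x⁻¹ := Fin.cons_succ _ _ _
        have h2 : (Fin.cons 1 (fun j => c j * x⁻¹) : Fin (n + 2) → G) (Fin.castSucc j.succ) =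
            c j.castSucc * x⁻¹ := by
          rw [← Fin.succ_castSucc]
          exact Fin.cons_succ _ _ _
        rw [h1, h2]
        have h3 : c j.succ * x⁻¹ * (c j.castSucc * x⁻¹)⁻¹ = c j.succ * (c j.castSucc)⁻¹ := by group
        rw [h3]
        exact hstep j
    · intro i
      refine Fin.cases ?_ (fun j => ?_) i
      · rintro _ ⟨a, ha, rfl⟩
        have h2 : (Fin.cons 1 (fun j => c j * x⁻¹) : Fin (n + 2) → G) 0 = 1 := rfl
        rw [h2]
        simpa using hA ha
      · rintro _ ⟨a, ha, rfl⟩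
        have h1 : (Fin.cons 1 (fun j => c j * x⁻¹) : Fin (n + 2) → G) (Fin.succ j) = c j * x⁻¹ :=
          Fin.cons_succ _ _ _
        rw [h1]
        show c j * x⁻¹ * a * (c j * x⁻¹)⁻¹ ∈ T
        have h3 : c j * x⁻¹ * a * (c j * x⁻¹)⁻¹ = c j * (x⁻¹ * a * x) * (c j)⁻¹ := by group
        rw [h3]
        exact hT j ⟨x⁻¹ * a * x, ⟨a, ha, rfl⟩, rfl⟩
    · have h1 : (Fin.cons 1 (fun j => c j * x⁻¹) : Fin (n + 2) → G) (Fin.last (n + 1)) =
          c (Fin.last n) * x⁻¹ := by
        rw [← Fin.succ_last]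
        exact Fin.cons_succ _ _ _
      rw [h1, hlast]
      group

/-- The set of allowed steps: elements of `H` normalizing `W R` for some `W ∈ 𝓦`. -/
def stepSet {G : Type*} [Group G] (𝓦 : Set (Subgroup G → Subgroup G)) (H R : Subgroup G) : Set G :=
  {x : G | ∃ W ∈ 𝓦, x ∈ H ⊓ Subgroup.normalizer ((W R : Subgroup G) : Set G)}

theorem stepSet_inv {G : Type*} [Group G] (𝓦 : Set (Subgroup G → Subgroup G)) (H R : Subgroup G) :
    ∀ x ∈ stepSet 𝓦 H R, x⁻¹ ∈ stepSet 𝓦 H R := by
  rintro x ⟨W, hW, hx⟩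
  exact ⟨W, hW, inv_mem hx⟩

/-- Family control of strong fusion in `H` can be read off at any Sylow `p`-subgroup `R` of `H`. -/
theorem familyControlsStrongFusionIn_sylow {G : Type*} [Group G] [Finite G] {p : ℕ} [Fact p.Prime]
    (𝓦 : Set (Subgroup G → Subgroup G)) (h𝓦 : ∀ W ∈ 𝓦, Cfsg.IsConjugacyFunctor p W)
    (H R : Subgroup G) (hRH : R ≤ H) (hRp : IsPGroup p ↥R) (hRidx : ¬ p ∣ R.relIndex H)
    (hc : Cfsg.FamilyControlsStrongFusionIn p 𝓦 H) :
    ∀ (A : Set G) (h : G), h ∈ H → A ⊆ (R : Set G) → (fun a => h * a * h⁻¹) '' A ⊆ (R : Set G) →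
      Good (stepSet 𝓦 H R) (R : Set G) A h⁻¹ := by
  obtain ⟨T', hT'H, hT'p, hT'idx, hT'⟩ := hc
  obtain ⟨n, hnH, hn⟩ := exists_map_conj_eq_of_relIndex H R T' hRH hRp hRidx hT'H hT'p hT'idx
  intro A h hh hA hAh
  have h1 : (fun a => n * a * n⁻¹) '' A ⊆ (T' : Set G) := by
    rintro _ ⟨a, ha, rfl⟩
    rw [← hn]
    exact ⟨a, hA ha, rfl⟩
  have h2 : (fun a => (n * h * n⁻¹) * a * (n * h * n⁻¹)⁻¹) '' ((fun a => n * a * n⁻¹) '' A) ⊆ (T' : Set G) := by
    rintro _ ⟨_, ⟨a, ha, rfl⟩, rfl⟩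
    rw [← hn]
    refine ⟨h * a * h⁻¹, hAh ⟨a, ha, rfl⟩, ?_⟩
    show n * (h * a * h⁻¹) * n⁻¹ = (n * h * n⁻¹) * (n * a * n⁻¹) * (n * h * n⁻¹)⁻¹
    group
  obtain ⟨m, c', hc0, hstep, hT, hlast⟩ :=
    hT' _ (n * h * n⁻¹) (mul_mem (mul_mem hnH hh) (inv_mem hnH)) h1 h2
  have hch := RChain.of_fin (M := stepSet 𝓦 H R) (T := (R : Set G)) (A := A) (stepSet_inv 𝓦 H R) m
    (fun i => n⁻¹ * c' i * n) (by rw [hc0]; group) (fun i => by
      obtain ⟨W, hW, hWi⟩ := hstep i
      refine ⟨W, hW, ?_⟩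
      have h3 : n⁻¹ * c' i.succ * n * (n⁻¹ * c' i.castSucc * n)⁻¹ =
          n⁻¹ * (c' i.succ * (c' i.castSucc)⁻¹) * n := by group
      rw [h3]
      refine Subgroup.mem_inf.mpr ⟨?_, ?_⟩
      · exact mul_mem (mul_mem (inv_mem hnH) (Subgroup.mem_inf.mp hWi).1) hnH
      · apply inv_conj_mem_normalizer_of_map_conj
        rw [← (h𝓦 W hW R hRp).2.2 n, hn]
        exact (Subgroup.mem_inf.mp hWi).2) (fun i => by
      rintro _ ⟨a, ha, rfl⟩
      have h3 := hT i ⟨n * a * n⁻¹, ⟨a, ha, rfl⟩, rfl⟩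
      rw [← hn] at h3
      have h4 := (mem_map_conj_iff R n _).mp h3
      have h5 : n⁻¹ * (c' i * (n * a * n⁻¹) * (c' i)⁻¹) * n =
          n⁻¹ * c' i * n * a * (n⁻¹ * c' i * n)⁻¹ := by group
      rw [h5] at h4
      exact h4)
  refine ⟨_, hch, fun a ha => ?_⟩
  have h3 := hlast (n * a * n⁻¹) ⟨a, ha, rfl⟩
  have h4 : (n⁻¹ * c' (Fin.last m) * n)⁻¹⁻¹ * a * (n⁻¹ * c' (Fin.last m) * n)⁻¹ =
      n⁻¹ * (c' (Fin.last m) * (n * a * n⁻¹) * (c' (Fin.last m))⁻¹) * n := by group
  rw [h4, h3]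
  group

/-- Turn an Alperin chain into a `Good` chain, given that each single step is good. -/
theorem good_of_fusGood {G : Type*} [Group G] (S : Subgroup G) (𝓕 : Set (Subgroup G))
    (h𝓕 : ∀ U ∈ 𝓕, U ≤ S) (M : Set G)
    (hstep : ∀ T ∈ 𝓕, ∀ x ∈ Subgroup.normalizer (T : Set G), ∀ B : Set G, B ⊆ (T : Set G) →
      Good M (S : Set G) B x) :
    ∀ (A : Set G) (g : G), FusGood 𝓕 A g → A ⊆ (S : Set G) → Good M (S : Set G) A g := by
  intro A g hgood
  induction hgood with
  | nil A => intro hA; exact ⟨1, RChain.nil _ hA, fun a _ => rfl⟩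
  | cons A T x g hT hx hAT _ ih =>
    intro hAS
    have hrS : rcj x A ⊆ (S : Set G) := by
      have h1 := rcj_mono hAT x
      rw [rcj_eq_of_mem_normalizer T x hx] at h1
      exact h1.trans (h𝓕 T hT)
    exact Good.trans (hstep T hT x hx A hAT) (ih hrS)

/-- The double induction for local-to-global control of strong fusion by a family of functors. -/
theorem strong_family_combined {G : Type*} [Group G] [Finite G] {p : ℕ} [Fact p.Prime]
    (S : Sylow p G) (𝓦 : Set (Subgroup G → Subgroup G))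
    (h𝓦 : ∀ W ∈ 𝓦, Cfsg.IsConjugacyFunctor p W)
    (hloc : ∀ T : Subgroup G, T ≤ (S : Subgroup G) → T ≠ ⊥ →
      ¬ p ∣ ((S : Subgroup G) ⊓ Subgroup.normalizer ((T : Subgroup G) : Set G)).relIndex
        (Subgroup.normalizer ((T : Subgroup G) : Set G)) →
      Cfsg.FamilyControlsStrongFusionIn p 𝓦 (Subgroup.normalizer ((T : Subgroup G) : Set G))) :
    ∀ d : ℕ,
      (∀ T : Subgroup G, T ≤ (S : Subgroup G) → T ≠ ⊥ →
        ¬ p ∣ ((S : Subgroup G) ⊓ Subgroup.normalizer ((T : Subgroup G) : Set G)).relIndex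
          (Subgroup.normalizer ((T : Subgroup G) : Set G)) →
        Nat.card ↥(S : Subgroup G) - Nat.card ↥((S : Subgroup G) ⊓ Subgroup.normalizer (T : Set G)) < d →
        ∀ z ∈ Subgroup.normalizer (T : Set G), ∀ B : Set G,
          B ⊆ (((S : Subgroup G) ⊓ Subgroup.normalizer (T : Set G) : Subgroup G) : Set G) →
          rcj z B ⊆ (((S : Subgroup G) ⊓ Subgroup.normalizer (T : Set G) : Subgroup G) : Set G) →
          Good (stepSet 𝓦 ⊤ (S : Subgroup G)) ((S : Subgroup G) : Set G) B z) ∧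
      (∀ A : Subgroup G, A ≤ (S : Subgroup G) →
        Nat.card ↥(S : Subgroup G) - Nat.card ↥A < d →
        ∀ g : G, rcj g (A : Set G) ⊆ ((S : Subgroup G) : Set G) →
        Good (stepSet 𝓦 ⊤ (S : Subgroup G)) ((S : Subgroup G) : Set G) (A : Set G) g) := by
  intro d
  induction d with
  | zero =>
    exact ⟨fun _ _ _ _ h => absurd h (Nat.not_lt_zero _), fun _ _ h => absurd h (Nat.not_lt_zero _)⟩
  | succ d ih =>
    obtain ⟨ihI, ihO⟩ := ih
    have hMinv := stepSet_inv 𝓦 (⊤ : Subgroup G) (S : Subgroup G)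
    have hI : ∀ T : Subgroup G, T ≤ (S : Subgroup G) → T ≠ ⊥ →
        ¬ p ∣ ((S : Subgroup G) ⊓ Subgroup.normalizer ((T : Subgroup G) : Set G)).relIndex
          (Subgroup.normalizer ((T : Subgroup G) : Set G)) →
        Nat.card ↥(S : Subgroup G) - Nat.card ↥((S : Subgroup G) ⊓ Subgroup.normalizer (T : Set G)) < d + 1 →
        ∀ z ∈ Subgroup.normalizer (T : Set G), ∀ B : Set G,
          B ⊆ (((S : Subgroup G) ⊓ Subgroup.normalizer (T : Set G) : Subgroup G) : Set G) →
          rcj z B ⊆ (((S : Subgroup G) ⊓ Subgroup.normalizer (T : Set G) : Subgroup G) : Set G) →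
          Good (stepSet 𝓦 ⊤ (S : Subgroup G)) ((S : Subgroup G) : Set G) B z := by
      intro T hTS hT hfn hd z hz B hB hBz
      set R : Subgroup G := (S : Subgroup G) ⊓ Subgroup.normalizer (T : Set G) with hR
      have hRp : IsPGroup p ↥R := S.isPGroup'.to_le inf_le_left
      have hRS' : (R : Set G) ⊆ ((S : Subgroup G) : Set G) := fun a ha => (Subgroup.mem_inf.mp ha).1
      have hloc' := familyControlsStrongFusionIn_sylow 𝓦 h𝓦 (Subgroup.normalizer (T : Set G)) R
        inf_le_right hRp hfn (hloc T hTS hT hfn) B z⁻¹ (inv_mem hz) hB (by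
          rintro _ ⟨a, ha, rfl⟩
          apply hBz
          refine ⟨a, ha, ?_⟩
          show z⁻¹ * a * z = z⁻¹ * a * z⁻¹⁻¹
          rw [inv_inv])
      rw [inv_inv] at hloc'
      obtain ⟨z', hz', hz'a⟩ := hloc'
      have hstep : ∀ x ∈ stepSet 𝓦 (Subgroup.normalizer (T : Set G)) R, ∀ B' : Set G,
          B' ⊆ (R : Set G) → rcj x B' ⊆ (R : Set G) →
          Good (stepSet 𝓦 ⊤ (S : Subgroup G)) ((S : Subgroup G) : Set G) B' x := by
        rintro x ⟨W, hW, hx⟩ B' hB' hB'x
        by_cases hRS : R = S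
        · refine ⟨x, RChain.single ⟨W, hW, Subgroup.mem_inf.mpr ⟨Subgroup.mem_top _, ?_⟩⟩
            (hB'.trans hRS') (hB'x.trans hRS'), fun a _ => rfl⟩
          rw [← hRS]; exact (Subgroup.mem_inf.mp hx).2
        · have hTR : T ≤ R := le_inf hTS Subgroup.le_normalizer
          have hRne : R ≠ ⊥ := by
            intro h0
            apply hT
            rw [h0] at hTR
            exact le_bot_iff.mp hTR
          have hUne : W R ≠ ⊥ := (h𝓦 W hW R hRp).2.1 hRne
          have hUS : W R ≤ (S : Subgroup G) := (h𝓦 W hW R hRp).1.trans inf_le_left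
          have hNN := normalizer_le_normalizer_functor W (h𝓦 W hW) R hRp
          have hRNU : R ≤ (S : Subgroup G) ⊓ Subgroup.normalizer ((W R : Subgroup G) : Set G) :=
            le_inf inf_le_left (Subgroup.le_normalizer.trans hNN)
          have hc1 := card_lt_card_normalizer_inf S.isPGroup' R inf_le_left hRS
          have hc2 := Subgroup.card_le_of_le (inf_le_inf_left (S : Subgroup G) hNN)
          obtain ⟨g₀, hg₀S, hg₀fn⟩ := exists_fully_normalized_conj S (W R) hUS
          obtain ⟨k, hk1, hk2⟩ := exists_conj_normalizer_le S (W R)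
            ((W R).map (MulAut.conj g₀).toMonoidHom) hg₀fn g₀ rfl
          have hU'ne : (W R).map (MulAut.conj g₀).toMonoidHom ≠ ⊥ := by
            intro h0
            apply hUne
            exact (Subgroup.map_eq_bot_iff_of_injective _ (MulAut.conj g₀).injective).mp h0
          have hc3 := Subgroup.card_le_of_le hk2
          rw [card_map_conj] at hc3
          have hc4 := Subgroup.card_le_of_le (inf_le_left : (S : Subgroup G) ⊓
            Subgroup.normalizer (((W R).map (MulAut.conj g₀).toMonoidHom : Subgroup G) : Set G) ≤ S)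
          have hc5 := Subgroup.card_le_of_le (inf_le_left : (S : Subgroup G) ⊓
            Subgroup.normalizer ((W R : Subgroup G) : Set G) ≤ S)
          have hNUκ : rcj k⁻¹ (((S : Subgroup G) ⊓ Subgroup.normalizer ((W R : Subgroup G) : Set G)
              : Subgroup G) : Set G) ⊆ (((S : Subgroup G) ⊓ Subgroup.normalizer
                (((W R).map (MulAut.conj g₀).toMonoidHom : Subgroup G) : Set G) : Subgroup G) : Set G) := by
            rw [rcj_subgroup, inv_inv]
            exact hk2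
          have hG1 : Good (stepSet 𝓦 ⊤ (S : Subgroup G)) ((S : Subgroup G) : Set G)
              (((S : Subgroup G) ⊓ Subgroup.normalizer ((W R : Subgroup G) : Set G) : Subgroup G) : Set G)
              k⁻¹ :=
            ihO _ inf_le_left (by omega) k⁻¹ (hNUκ.trans (fun a ha => (Subgroup.mem_inf.mp ha).1))
          have hG1' := hG1.mono (hB'.trans hRNU)
          have hG3' := hG1.mono (hB'x.trans hRNU)
          have hm : k * x * k⁻¹ ∈ Subgroup.normalizer
              (((W R).map (MulAut.conj g₀).toMonoidHom : Subgroup G) : Set G) := by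
            rw [← hk1]
            exact conj_mem_normalizer_map_conj (W R) k x (Subgroup.mem_inf.mp hx).2
          have hxk : x * k⁻¹ = k⁻¹ * (k * x * k⁻¹) := by group
          have hG2 := ihI _ hg₀S hU'ne hg₀fn (by omega) (k * x * k⁻¹) hm (rcj k⁻¹ B')
            ((rcj_mono (hB'.trans hRNU) k⁻¹).trans hNUκ) (by
              rw [← rcj_mul, ← hxk, rcj_mul]
              exact (rcj_mono (hB'x.trans hRNU) k⁻¹).trans hNUκ)
          have hG3 := hG3'.symm hMinv
          rw [inv_inv, ← rcj_mul, hxk] at hG3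
          have hG12 := Good.trans hG1' hG2
          have hG123 := Good.trans hG12 hG3
          have hfin : k⁻¹ * (k * x * k⁻¹) * k = x := by group
          rw [hfin] at hG123
          exact hG123
      have hconv : ∀ (B' : Set G) (g : G),
          RChain (stepSet 𝓦 (Subgroup.normalizer (T : Set G)) R) (R : Set G) B' g →
          Good (stepSet 𝓦 ⊤ (S : Subgroup G)) ((S : Subgroup G) : Set G) B' g := by
        intro B' g hch
        induction hch with
        | nil B' hB' => exact ⟨1, RChain.nil _ (hB'.trans hRS'), fun a _ => rfl⟩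
        | cons B' x g hx hB' hrest ih =>
          exact Good.trans (hstep x hx B' hB' hrest.subset_left) ih
      exact (hconv B z' hz').congr hz'a
    refine ⟨hI, ?_⟩
    intro A hAS hd g hAg
    have hgood := fusGood_fn S (A : Set G) g hAS hAg
    have hgood' := hgood.restrict A rfl
    refine good_of_fusGood (S : Subgroup G) _ (fun U hU => hU.1.1) _ ?_ (A : Set G) g hgood' hAS
    intro T hT x hx B hBT
    by_cases hTbot : T = ⊥
    · refine ⟨1, RChain.nil _ (hBT.trans hT.1.1), fun a ha => ?_⟩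
      have h3 : a ∈ T := hBT ha
      rw [hTbot, Subgroup.mem_bot] at h3
      rw [h3]; group
    · have hTN : T ≤ (S : Subgroup G) ⊓ Subgroup.normalizer (T : Set G) :=
        le_inf hT.1.1 Subgroup.le_normalizer
      refine hI T hT.1.1 hTbot hT.1.2 ?_ x hx B (hBT.trans hTN) ?_
      · have h1 := hT.2
        have h2 := Subgroup.card_le_of_le hTN
        have h3 := Subgroup.card_le_of_le
          (inf_le_left : (S : Subgroup G) ⊓ Subgroup.normalizer (T : Set G) ≤ S)
        omega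
      · have h1 := rcj_mono hBT x
        rw [rcj_eq_of_mem_normalizer T x hx] at h1
        exact h1.trans hTN

end Cfsg.Agent.Lib.Helper3
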