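import Mathlib

set_option autoImplicit false

namespace Cfsg.Agent.Lib.Helper3

open scoped commutatorElement

theorem idxp_comm {S : Type*} [Group S] {A : Subgroup S} (hA : IsMulCommutative ↥A) {a b : S}
    (ha : a ∈ A) (hb : b ∈ A) : a * b = b * a :=
  congrArg Subtype.val (hA.is_comm.comm ⟨a, ha⟩ ⟨b, hb⟩)

theorem idxp_eq_of_le {S : Type*} [Group S] [Finite S] {H K : Subgroup S} (h : H ≤ K)
    (hi : H.index = K.index) : H = K := by
  have h1 := Subgroup.relIndex_mul_index h
  rw [hi] at h1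
  have hK : 0 < K.index := Nat.pos_of_ne_zero Subgroup.index_ne_zero_of_finite
  have h2 : H.relIndex K = 1 := Nat.eq_of_mul_eq_mul_right hK (by rw [h1, one_mul])
  exact le_antisymm h (Subgroup.relIndex_eq_one.mp h2)

theorem idxp_eq_top {S : Type*} [Group S] {p : ℕ} (hp : p.Prime) {A K : Subgroup S}
    (hAi : A.index = p) (hAK : A ≤ K) (hK : ¬ K ≤ A) : K = ⊤ := by
  have h1 := Subgroup.relIndex_mul_index hAK
  rw [hAi] at h1
  have h2 : K.index ∣ p := Dvd.intro_left _ h1
  rcases (Nat.dvd_prime hp).mp h2 with h3 | h3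
  · exact Subgroup.index_eq_one.mp h3
  · exfalso
    rw [h3] at h1
    have h4 : A.relIndex K = 1 := Nat.eq_of_mul_eq_mul_right hp.pos (by rw [h1, one_mul])
    exact hK (Subgroup.relIndex_eq_one.mp h4)

theorem idxp_commute_all {S Q : Type*} [Group S] [Group Q] {p : ℕ} (hp : p.Prime)
    {A : Subgroup S} (hAi : A.index = p) {x : S} (hx : x ∉ A) (π : S →* Q) (q : Q)
    (hA : ∀ a ∈ A, Commute q (π a)) (hxq : Commute q (π x)) (g : S) : Commute q (π g) := by
  have hC : (Subgroup.centralizer ({q} : Set Q)).comap π = ⊤ := by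
    refine idxp_eq_top hp hAi (fun a ha => ?_) (fun hle => hx (hle ?_))
    · rw [Subgroup.mem_comap, Subgroup.mem_centralizer_iff]
      intro c hc; rw [Set.mem_singleton_iff.mp hc]; exact (hA a ha).eq
    · rw [Subgroup.mem_comap, Subgroup.mem_centralizer_iff]
      intro c hc; rw [Set.mem_singleton_iff.mp hc]; exact hxq.eq
  have hg : g ∈ (Subgroup.centralizer ({q} : Set Q)).comap π := by
    rw [hC]; exact Subgroup.mem_top g
  rw [Subgroup.mem_comap, Subgroup.mem_centralizer_iff] at hg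
  exact hg _ (Set.mem_singleton _)

theorem idxp_center_le {S : Type*} [Group S] {p : ℕ} (hp : p.Prime) (hna : ¬ IsMulCommutative S)
    {A : Subgroup S} (hA : IsMulCommutative ↥A) (hAi : A.index = p) : Subgroup.center S ≤ A := by
  by_contra hZ
  obtain ⟨z, hz, hzA⟩ := SetLike.not_le_iff_exists.mp hZ
  have hzc : ∀ g : S, Commute z g := fun g => ((Subgroup.mem_center_iff.mp hz g).symm : z * g = g * z)
  have hall : ∀ a ∈ A, ∀ g : S, Commute a g := fun a ha g =>
    idxp_commute_all hp hAi hzA (MonoidHom.id S) a (fun b hb => idxp_comm hA ha hb) (hzc a).symm g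
  have hall2 : ∀ h g : S, Commute h g := fun h g =>
    (idxp_commute_all hp hAi hzA (MonoidHom.id S) g (fun b hb => (hall b hb g).symm) (hzc g).symm h).symm
  exact hna ⟨⟨fun a b => (hall2 a b).eq⟩⟩

theorem idxp_comm_sup_center {S : Type*} [Group S] (g : S) :
    IsMulCommutative ↥(Subgroup.center S ⊔ Subgroup.zpowers g) := by
  have h1 : Subgroup.center S ⊔ Subgroup.zpowers g ≤ Subgroup.centralizer ({g} : Set S) := by
    refine sup_le (Subgroup.center_le_centralizer _) (Subgroup.zpowers_le.mpr ?_)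
    exact Subgroup.mem_centralizer_iff.mpr (fun c hc => by rw [Set.mem_singleton_iff.mp hc])
  have h2 : ∀ d ∈ Subgroup.center S ⊔ Subgroup.zpowers g,
      Subgroup.center S ⊔ Subgroup.zpowers g ≤ Subgroup.centralizer ({d} : Set S) := by
    intro d hd
    refine sup_le (Subgroup.center_le_centralizer _) (Subgroup.zpowers_le.mpr ?_)
    refine Subgroup.mem_centralizer_iff.mpr (fun c hc => ?_)
    rw [Set.mem_singleton_iff.mp hc]
    exact (Subgroup.mem_centralizer_iff.mp (h1 hd) g (Set.mem_singleton g)).symm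
  exact ⟨⟨fun a b => Subtype.ext
    (Subgroup.mem_centralizer_iff.mp (h2 a.1 a.2 b.2) a.1 (Set.mem_singleton _))⟩⟩

theorem idxp_commutator_le {S : Type*} [Group S] {p : ℕ} (hp : p.Prime) {A : Subgroup S}
    (hA : IsMulCommutative ↥A) (hAi : A.index = p) {x : S} (hx : x ∉ A) (R : Subgroup S)
    [R.Normal] (hR : ∀ a ∈ A, ⁅x, a⁆ ∈ R) : commutator S ≤ R := by
  have hπ : ∀ g h : S, ⁅g, h⁆ ∈ R ↔
      Commute (QuotientGroup.mk' R g) (QuotientGroup.mk' R h) := by
    intro g h
    rw [← commutatorElement_eq_one_iff_commute, ← map_commutatorElement]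
    exact (QuotientGroup.eq_one_iff _).symm
  have hxc : ∀ g : S, Commute (QuotientGroup.mk' R x) (QuotientGroup.mk' R g) := fun g =>
    idxp_commute_all hp hAi hx (QuotientGroup.mk' R) _ (fun a ha => (hπ x a).mp (hR a ha))
      (Commute.refl _) g
  have hac : ∀ a ∈ A, ∀ g : S, Commute (QuotientGroup.mk' R a) (QuotientGroup.mk' R g) :=
    fun a ha g =>
    idxp_commute_all hp hAi hx (QuotientGroup.mk' R) _ (fun b hb => by
      show QuotientGroup.mk' R a * QuotientGroup.mk' R b
        = QuotientGroup.mk' R b * QuotientGroup.mk' R a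
      rw [← map_mul, ← map_mul, idxp_comm hA ha hb]) (hxc a).symm g
  rw [commutator_def, Subgroup.commutator_le]
  intro g _ h _
  exact (hπ g h).mpr (idxp_commute_all hp hAi hx (QuotientGroup.mk' R) _
    (fun b hb => (hac b hb h).symm) (hxc h).symm g).symm

/-- The family of subgroups of index `p` containing `N`. -/
abbrev IdxFam {S : Type*} [Group S] (N : Subgroup S) (p : ℕ) : Type _ :=
  {B : Subgroup S // N ≤ B ∧ B.index = p}

theorem idxp_arith (m c p : ℕ) (hc : 0 < c) (hp2 : 2 ≤ p)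
    (h : m * ((p - 1) * c) + c = p ^ 2 * c) : m = p + 1 := by
  obtain ⟨k, rfl⟩ : ∃ k, p = k + 2 := ⟨p - 2, by omega⟩
  have h1 : k + 2 - 1 = k + 1 := by omega
  rw [h1] at h
  have h5 : m * ((k + 1) * c) = (k + 3) * ((k + 1) * c) := by nlinarith [h]
  exact Nat.eq_of_mul_eq_mul_right (Nat.mul_pos (Nat.succ_pos k) hc) h5

/-- Counting lemma: if `N` has index `p²` and `N ⊔ ⟨g⟩` has index `p` for every `g ∉ N`, then
there are exactly `p + 1` subgroups of index `p` containing `N`. -/
theorem idxp_card_subgroups {S : Type*} [Group S] [Finite S] (p : ℕ) (hp : p.Prime)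
    (N : Subgroup S) (hN : N.index = p ^ 2)
    (H : ∀ g : S, g ∉ N → (N ⊔ Subgroup.zpowers g).index = p) :
    Nat.card {B : Subgroup S // N ≤ B ∧ B.index = p} = p + 1 := by
  classical
  have key : ∀ B : Subgroup S, N ≤ B → B.index = p → ∀ g ∈ B, g ∉ N →
      N ⊔ Subgroup.zpowers g = B := by
    intro B hNB hBi g hgB hgN
    exact idxp_eq_of_le (sup_le hNB (Subgroup.zpowers_le.mpr hgB)) (by rw [H g hgN, hBi])
  have hcardB : ∀ B : Subgroup S, N ≤ B → B.index = p → Nat.card B = p * Nat.card N := by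
    intro B hNB hBi
    have h1 := Subgroup.card_mul_index N
    have h2 := Subgroup.card_mul_index B
    rw [hN] at h1; rw [hBi] at h2
    have : Nat.card B * p = (p * Nat.card N) * p := by rw [h2, ← h1]; ring
    exact Nat.eq_of_mul_eq_mul_right hp.pos this
  haveI : Fintype (IdxFam N p) := Fintype.ofFinite _
  have hfib : ∀ B : IdxFam N p,
      Nat.card {b : ↥B.1 // (b : S) ∉ N} = (p - 1) * Nat.card N := by
    intro B
    have e := Equiv.sumCompl (fun b : ↥B.1 => (b : S) ∈ N)
    have h1 : Nat.card ({b : ↥B.1 // (b : S) ∈ N} ⊕ {b : ↥B.1 // ¬ (b : S) ∈ N})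
        = Nat.card ↥B.1 := Nat.card_congr e
    rw [Nat.card_sum] at h1
    have h2 : Nat.card ↥(N.subgroupOf B.1) = Nat.card N :=
      Nat.card_congr (Subgroup.subgroupOfEquivOfLe B.2.1).toEquiv
    have h3 : Nat.card {b : ↥B.1 // (b : S) ∈ N} = Nat.card ↥(N.subgroupOf B.1) := rfl
    rw [h3, h2, hcardB B.1 B.2.1 B.2.2] at h1
    have hp1 := hp.pos
    have h4 : (p - 1) * Nat.card N + Nat.card N = p * Nat.card N := by
      have h5 : p - 1 + 1 = p := by omega
      calc (p - 1) * Nat.card N + Nat.card N = (p - 1 + 1) * Nat.card N := by ring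
        _ = p * Nat.card N := by rw [h5]
    have h6 : Nat.card {b : ↥B.1 // ¬ (b : S) ∈ N} + Nat.card N
        = (p - 1) * Nat.card N + Nat.card N := by rw [h4, ← h1, add_comm]
    exact Nat.add_right_cancel h6
  have hbij : Function.Bijective
      (fun x : (Σ B : IdxFam N p, {b : ↥B.1 // (b : S) ∉ N}) =>
        (⟨x.2.1.1, x.2.2⟩ : {g : S // g ∉ N})) := by
    constructor
    · rintro ⟨B, b, hb⟩ ⟨B', b', hb'⟩ h
      have hbb : (b : S) = (b' : S) := congrArg Subtype.val h
      have hB : B = B' := Subtype.ext (by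
        rw [← key B.1 B.2.1 B.2.2 b b.2 hb, ← key B'.1 B'.2.1 B'.2.2 b' b'.2 hb', hbb])
      subst hB
      have hb2 : b = b' := Subtype.ext hbb
      subst hb2
      rfl
    · rintro ⟨g, hg⟩
      exact ⟨⟨⟨N ⊔ Subgroup.zpowers g, le_sup_left, H g hg⟩,
        ⟨⟨g, Subgroup.mem_sup_right (Subgroup.mem_zpowers g)⟩, hg⟩⟩, rfl⟩
  have hsum : Nat.card {g : S // g ∉ N}
      = ∑ B : IdxFam N p, Nat.card {b : ↥B.1 // (b : S) ∉ N} :=
    (Nat.card_congr (Equiv.ofBijective _ hbij)).symm.trans Nat.card_sigma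
  have htot : Nat.card {g : S // g ∉ N} + Nat.card N = p ^ 2 * Nat.card N := by
    have e := Equiv.sumCompl (fun g : S => g ∈ N)
    have h1 : Nat.card ({g : S // g ∈ N} ⊕ {g : S // ¬ g ∈ N}) = Nat.card S :=
      Nat.card_congr e
    rw [Nat.card_sum] at h1
    have h2 := Subgroup.card_mul_index N
    rw [hN] at h2
    have h3 : Nat.card {g : S // g ∈ N} = Nat.card N := rfl
    rw [h3] at h1
    rw [add_comm, h1, ← h2, mul_comm]
  rw [hsum] at htot
  simp only [hfib, Finset.sum_const, Finset.card_univ, smul_eq_mul] at htot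
  have hfin : Nat.card (IdxFam N p) = Fintype.card (IdxFam N p) := Nat.card_eq_fintype_card
  show Nat.card (IdxFam N p) = p + 1
  rw [hfin]
  exact idxp_arith _ _ p Nat.card_pos hp.two_le htot

end Cfsg.Agent.Lib.Helper3
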