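import Mathlib
import Cfsg.Prelude.Def_LocalEven
import Cfsg.Prelude.Def_PLocal
import Cfsg.Agent.Lib.Helper3.ChiefAct
import Cfsg.Agent.Lib.Helper3.Sections

set_option autoImplicit false

namespace Cfsg.Agent.Lib.Helper3

open Cfsg
open scoped commutatorElement

universe u

/-- Groups with a normal series `A ≤ B ≤ Y`, `A` a `p`-group, `B/A` an abelian `p'`-group and
`Y/B` a `p`-group. -/
def IsPAbP (p : ℕ) (Y : Type*) [Group Y] : Prop :=
  ∃ A B : Subgroup Y, A.Normal ∧ B.Normal ∧ A ≤ B ∧ IsPGroup p ↥A ∧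
    (∀ x ∈ B, ∀ y ∈ B, ⁅x, y⁆ ∈ A) ∧ (∀ x ∈ B, ∃ m : ℕ, m.Coprime p ∧ x ^ m ∈ A) ∧
    ∀ y : Y, ∃ k : ℕ, y ^ p ^ k ∈ B

theorem IsPAbP.of_surjective {p : ℕ} {Y Z : Type*} [Group Y] [Group Z] (f : Y →* Z)
    (hf : Function.Surjective f) (h : IsPAbP p Y) : IsPAbP p Z := by
  obtain ⟨A, B, hAn, hBn, hAB, hAp, hBcomm, hBcop, hYB⟩ := h
  refine ⟨A.map f, B.map f, hAn.map f hf, hBn.map f hf, Subgroup.map_mono hAB, hAp.map f, ?_, ?_, ?_⟩
  · rintro _ ⟨x, hx, rfl⟩ _ ⟨y, hy, rfl⟩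
    rw [← map_commutatorElement]
    exact Subgroup.mem_map_of_mem f (hBcomm x hx y hy)
  · rintro _ ⟨x, hx, rfl⟩
    obtain ⟨m, hm, hxm⟩ := hBcop x hx
    exact ⟨m, hm, by rw [← map_pow]; exact Subgroup.mem_map_of_mem f hxm⟩
  · intro z
    obtain ⟨y, rfl⟩ := hf z
    obtain ⟨k, hk⟩ := hYB y
    exact ⟨k, by rw [← map_pow]; exact Subgroup.mem_map_of_mem f hk⟩

theorem IsPAbP.subgroup {p : ℕ} {Y : Type*} [Group Y] (H : Subgroup Y) (h : IsPAbP p Y) :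
    IsPAbP p ↥H := by
  obtain ⟨A, B, hAn, hBn, hAB, hAp, hBcomm, hBcop, hYB⟩ := h
  refine ⟨A.subgroupOf H, B.subgroupOf H, hAn.subgroupOf H, hBn.subgroupOf H, ?_,
    IsPGroup.comap_subtype hAp, ?_, ?_, ?_⟩
  · intro x hx
    rw [Subgroup.mem_subgroupOf] at hx ⊢
    exact hAB hx
  · intro x hx y hy
    rw [Subgroup.mem_subgroupOf] at hx hy ⊢
    exact hBcomm _ hx _ hy
  · intro x hx
    rw [Subgroup.mem_subgroupOf] at hx
    obtain ⟨m, hm, hxm⟩ := hBcop _ hx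
    exact ⟨m, hm, by rw [Subgroup.mem_subgroupOf]; exact hxm⟩
  · intro y
    obtain ⟨k, hk⟩ := hYB (y : Y)
    exact ⟨k, by rw [Subgroup.mem_subgroupOf]; exact hk⟩

theorem IsPAbP.of_secOf {p : ℕ} {X : Type*} {Y : Type*} [Group X] [Group Y] (h : IsPAbP p X)
    (hs : SecOf Y X) : IsPAbP p Y := by
  obtain ⟨K, f, hf⟩ := hs
  exact (h.subgroup K).of_surjective f hf

open scoped IsMulCommutative in
/-- In a group of the class `IsPAbP`, an element `g` with `[U, g; p-1] ≤ V` on a chief factor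
`U/V` inside a `p`-group centralizes that chief factor. -/
theorem IsPAbP.chief_centralized {Y : Type u} [Group Y] [Finite Y] {p : ℕ} [Fact p.Prime]
    (hC : IsPAbP p Y) {U V : Subgroup Y} (hUV : IsChiefFactor U V) (hUp : IsPGroup p ↥U) (g : Y)
    (hg : iterCommutator U (Subgroup.zpowers g) (p - 1) ≤ V) : ⁅U, Subgroup.zpowers g⁆ ≤ V := by
  obtain ⟨A, B, hAn, hBn, hAB, hAp, hBcomm, hBcop, hYB⟩ := hC
  have hcomm := chief_commutator_le hUV hUp
  have hpow := chief_pow_mem hUV hUp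
  have hAV := chief_commutator_le_of_normal_pGroup hUV hUp A hAp
  have hUV' := hUV
  obtain ⟨hlt, hUn, hVn, hmax⟩ := hUV
  have hQc : IsMulCommutative (↥U ⧸ V.subgroupOf U) := by
    refine ⟨⟨fun a b => ?_⟩⟩
    obtain ⟨a, rfl⟩ := QuotientGroup.mk_surjective a
    obtain ⟨b, rfl⟩ := QuotientGroup.mk_surjective b
    rw [← QuotientGroup.mk_mul, ← QuotientGroup.mk_mul]
    apply QuotientGroup.eq.mpr
    rw [Subgroup.mem_subgroupOf]
    have h1 : (((a * b)⁻¹ * (b * a) : ↥U) : Y) = ⁅(b : Y)⁻¹, (a : Y)⁻¹⁆ := by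
      simp [commutatorElement_def, mul_assoc]
    rw [h1]
    exact hcomm (Subgroup.commutator_mem_commutator (U.inv_mem b.2) (U.inv_mem a.2))
  apply commutator_zpowers_le_of_secAct_eq_one
  obtain ⟨ρ, hρ⟩ : ∃ ρ : Y →* MulAut (↥U ⧸ V.subgroupOf U), ρ = secAct U V := ⟨_, rfl⟩
  have hA1 : ∀ a ∈ A, ρ a = 1 := by
    intro a ha
    rw [hρ, secAct_eq_one_iff]
    intro u hu
    have h1 : u⁻¹ * (a * u * a⁻¹) = ⁅u⁻¹, a⁆ := by rw [commutatorElement_def]; group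
    rw [h1]
    exact hAV (Subgroup.commutator_mem_commutator (U.inv_mem hu) ha)
  obtain ⟨K, hK⟩ : ∃ K, K = B.map ρ := ⟨_, rfl⟩
  have hKmem : ∀ b ∈ B, ρ b ∈ K := by
    intro b hb
    rw [hK]; exact Subgroup.mem_map_of_mem ρ hb
  have hKex : ∀ x ∈ K, ∃ b ∈ B, ρ b = x := by
    intro x hx
    rw [hK] at hx
    exact hx
  have hKc : ∀ a ∈ K, ∀ b ∈ K, a * b = b * a := by
    intro a' ha' b' hb'
    obtain ⟨a, ha, rfl⟩ := hKex a' ha'
    obtain ⟨b, hb, rfl⟩ := hKex b' hb'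
    have h1 := hA1 _ (hBcomm a ha b hb)
    rw [commutatorElement_def, map_mul, map_mul, map_mul, map_inv, map_inv] at h1
    calc ρ a * ρ b = (ρ a * ρ b * (ρ a)⁻¹ * (ρ b)⁻¹) * (ρ b * ρ a) := by group
      _ = ρ b * ρ a := by rw [h1, one_mul]
  have hzK : ∀ a ∈ K, (ρ g)⁻¹ * a * ρ g ∈ K := by
    intro a' ha'
    obtain ⟨b, hb, rfl⟩ := hKex a' ha'
    have hc : g⁻¹ * b * g ∈ B := by
      have h0 := hBn.conj_mem b hb g⁻¹
      rwa [inv_inv] at h0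
    have h1 := hKmem _ hc
    rw [map_mul, map_mul, map_inv] at h1
    exact h1
  have hMp : ∀ m : ↥U ⧸ V.subgroupOf U, m ^ p = 1 := by
    intro m
    obtain ⟨u, rfl⟩ := QuotientGroup.mk_surjective m
    rw [← QuotientGroup.mk_pow, QuotientGroup.eq_one_iff, Subgroup.mem_subgroupOf]
    exact hpow u u.2
  have hKfin : Finite ↥K := by
    rw [hK]; exact Finite.of_surjective (ρ.subgroupMap B) (ρ.subgroupMap_surjective B)
  have hKcop : (Nat.card ↥K).Coprime p := by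
    apply coprime_card_of_forall_pow
    intro x hx
    obtain ⟨b, hb, hbx⟩ := hKex _ x.2
    obtain ⟨m, hm, hbm⟩ := hBcop b hb
    have h1 : (x : MulAut (↥U ⧸ V.subgroupOf U)) ^ m = 1 := by
      rw [← hbx, ← map_pow]; exact hA1 _ hbm
    have h2 : (x : MulAut (↥U ⧸ V.subgroupOf U)) ^ p = 1 := by
      rw [← Subgroup.coe_pow, hx, Subgroup.coe_one]
    have h3 : orderOf (x : MulAut (↥U ⧸ V.subgroupOf U)) ∣ m := orderOf_dvd_of_pow_eq_one h1
    have h4 : orderOf (x : MulAut (↥U ⧸ V.subgroupOf U)) ∣ p := orderOf_dvd_of_pow_eq_one h2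
    have h5 : orderOf (x : MulAut (↥U ⧸ V.subgroupOf U)) = 1 := Nat.eq_one_of_dvd_coprimes hm h3 h4
    exact Subtype.ext (orderOf_eq_one_iff.mp h5)
  have htor : ∀ m : ↥U ⧸ V.subgroupOf U, m ^ Nat.card ↥K = 1 → m = 1 := by
    intro m hm
    have h3 : orderOf m ∣ Nat.card ↥K := orderOf_dvd_of_pow_eq_one hm
    have h4 : orderOf m ∣ p := orderOf_dvd_of_pow_eq_one (hMp m)
    exact orderOf_eq_one_iff.mp (Nat.eq_one_of_dvd_coprimes hKcop h3 h4)
  have hnormY : ∀ b ∈ B, ∀ m : ↥U ⧸ V.subgroupOf U,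
      ∏ i ∈ Finset.range p, (((ρ b)⁻¹ * ρ g * ρ b) ^ i) m = 1 := by
    intro b hb m
    obtain ⟨u, rfl⟩ := QuotientGroup.mk_surjective m
    obtain ⟨v, hv⟩ : ∃ v, v = b⁻¹ * g⁻¹ * b := ⟨_, rfl⟩
    have hv1 : iterCommutator U (Subgroup.zpowers v) (p - 1) ≤ V := by
      have h1 : iterCommutator U (Subgroup.zpowers g⁻¹) (p - 1) ≤ V := by
        rw [Subgroup.zpowers_inv]; exact hg
      have h2 := iterCommutator_conj_le hUn hVn g⁻¹ b⁻¹ (p - 1) h1
      rw [inv_inv] at h2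
      rw [hv]; exact h2
    have h3 := norm_mem_of_iterCommutator_le hUV' hUp v hv1 u u.2 1 one_ne_zero
    rw [pow_one] at h3
    have h4 : ∀ i : ℕ, ((ρ b)⁻¹ * ρ g * ρ b) ^ i = ρ ((v ^ i)⁻¹) := by
      intro i
      rw [hv, ← map_inv, ← map_mul, ← map_mul, ← map_pow]
      congr 1
      rw [← inv_pow]
      congr 1
      group
    obtain ⟨f, hf⟩ : ∃ f : ℕ → ↥U, f = fun i => MulAut.conjNormal ((v ^ i)⁻¹) u := ⟨_, rfl⟩
    have h5 : ∀ i : ℕ, (((ρ b)⁻¹ * ρ g * ρ b) ^ i) (QuotientGroup.mk u) =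
        QuotientGroup.mk' (V.subgroupOf U) (f i) := by
      intro i
      rw [h4, hρ, secAct_mk, hf]
      rfl
    rw [Finset.prod_congr rfl (fun i _ => h5 i), ← ncprod_eq_prod, ← map_ncprod]
    apply (QuotientGroup.eq_one_iff _).mpr
    rw [Subgroup.mem_subgroupOf]
    have h6 := map_ncprod U.subtype f p
    rw [Subgroup.coe_subtype] at h6
    rw [h6]
    have h7 : (fun i => ((f i : ↥U) : Y)) = fun i => (v ^ i)⁻¹ * (u : Y) * v ^ i := by
      funext i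
      rw [hf]
      show ((MulAut.conjNormal ((v ^ i)⁻¹) u : ↥U) : Y) = _
      rw [MulAut.conjNormal_apply, inv_inv]
    rw [h7]
    exact h3
  have hnorm : ∀ a ∈ K, ∀ m : ↥U ⧸ V.subgroupOf U,
      ∏ i ∈ Finset.range p, ((a⁻¹ * ρ g * a) ^ i) m = 1 := by
    intro a' ha' m
    obtain ⟨b, hb, rfl⟩ := hKex a' ha'
    exact hnormY b hb m
  have hfa := free_action K hKc (ρ g) hzK (Fact.out : p.Prime) hnorm htor
  have hgp : (ρ g) ^ p = 1 := by
    apply pow_eq_one_of_norm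
    intro m
    have h1 := hnormY 1 B.one_mem m
    simpa using h1
  rw [hρ] at hgp hfa
  refine secAct_eq_one_of_central hlt hUp hmax B hYB g hgp ?_
  intro b hb
  have h1 := hfa _ (hKmem b hb)
  rw [hρ] at h1
  exact h1

end Cfsg.Agent.Lib.Helper3
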