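import Mathlib
import Cfsg.Prelude.Def_LocalEven
import Cfsg.Prelude.Def_PLocal
import Cfsg.Prelude.Def_CaseTheorems
import Cfsg.Agent.Lib.Helper3.PAbP
import Cfsg.Agent.Lib.Helper3.WeakCl

set_option autoImplicit false

namespace Cfsg.Agent.Lib.Helper3

open Cfsg
open scoped commutatorElement

universe u

/-- Every nontrivial normal subgroup `U` is the top of a chief factor. -/
theorem exists_chief_below {X : Type*} [Group X] [Finite X] (U : Subgroup X) [hUn : U.Normal]
    (hU : U ≠ ⊥) : ∃ V : Subgroup X, IsChiefFactor U V := by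
  classical
  obtain ⟨s, hs⟩ : ∃ s : Set (Subgroup X), s = {V | V.Normal ∧ V < U} := ⟨_, rfl⟩
  have hne : s.Nonempty := ⟨⊥, by rw [hs]; exact ⟨Subgroup.normal_bot, bot_lt_iff_ne_bot.mpr hU⟩⟩
  obtain ⟨V, hVmem⟩ := (Set.toFinite s).exists_maximalFor (fun V : Subgroup X => Nat.card ↥V) s hne
  have hVs : V ∈ s := hVmem.1
  rw [hs] at hVs
  obtain ⟨hVn, hVU⟩ := hVs
  refine ⟨V, hVU, hUn, hVn, ?_⟩
  intro N hNn hVN hNU
  by_cases hNeq : N = U
  · exact Or.inr hNeq
  · left
    have hNs : N ∈ s := by rw [hs]; exact ⟨hNn, lt_of_le_of_ne hNU hNeq⟩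
    have h1 := hVmem.2 hNs (Subgroup.card_le_of_le hVN)
    exact (Subgroup.eq_of_le_of_card_ge hVN h1).symm

/-- An element acting trivially on every chief factor inside the normal `p`-subgroup `P` lies
in `O_p` modulo the centralizer of `P`. -/
theorem mem_pCore_quotient_of_chief_trivial {X : Type*} [Group X] [Finite X] {p : ℕ}
    [Fact p.Prime] (P C : Subgroup X) [hPn : P.Normal] [hCn : C.Normal] (hPp : IsPGroup p ↥P)
    (hC : ∀ x : X, (∀ u ∈ P, x * u = u * x) → x ∈ C) (g : X)
    (hg : ∀ U V : Subgroup X, IsChiefFactor U V → U ≤ P → ⁅U, Subgroup.zpowers g⁆ ≤ V) :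
    (QuotientGroup.mk g : X ⧸ C) ∈ Cfsg.pCore p (X ⧸ C) := by
  classical
  let D : Subgroup X :=
    { carrier := {x | ∀ (U V : Subgroup X) (h : IsChiefFactor U V), U ≤ P →
        @secAct X _ U V h.2.1 h.2.2.1 x = 1}
      one_mem' := fun U V h _ => map_one _
      mul_mem' := by
        intro a b ha hb U V h hUP
        rw [map_mul, ha U V h hUP, hb U V h hUP, one_mul]
      inv_mem' := by
        intro a ha U V h hUP
        rw [map_inv, ha U V h hUP, inv_one] }
  have hDmem : ∀ x : X, x ∈ D ↔ ∀ (U V : Subgroup X) (h : IsChiefFactor U V), U ≤ P →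
      @secAct X _ U V h.2.1 h.2.2.1 x = 1 := fun x => Iff.rfl
  have hDn : D.Normal := by
    constructor
    intro x hx y U V h hUP
    rw [map_mul, map_mul, hx U V h hUP, mul_one, ← map_mul, mul_inv_cancel, map_one]
  have hgD : g ∈ D := by
    intro U V h hUP
    have hUn := h.2.1
    have hVn := h.2.2.1
    rw [secAct_eq_one_iff]
    intro u hu
    have h1 : u⁻¹ * (g * u * g⁻¹) = ⁅u⁻¹, g⁆ := by rw [commutatorElement_def]; group
    rw [h1]
    exact hg U V h hUP (Subgroup.commutator_mem_commutator (U.inv_mem hu) (Subgroup.mem_zpowers g))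
  -- elements of `D` act as `p`-elements on `P`
  have key : ∀ n : ℕ, ∀ U : Subgroup X, U.Normal → U ≤ P → Nat.card ↥U ≤ n → ∀ x ∈ D,
      ∃ k : ℕ, ∀ u ∈ U, x ^ p ^ k * u = u * x ^ p ^ k := by
    intro n
    induction n with
    | zero =>
      intro U _ _ hcard
      have := Nat.card_pos (α := ↥U)
      omega
    | succ n ih =>
      intro U hUn hUP hcard x hx
      by_cases hUbot : U = ⊥
      · refine ⟨0, ?_⟩
        intro u hu
        rw [hUbot, Subgroup.mem_bot] at hu
        rw [hu, mul_one, one_mul]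
      obtain ⟨V, hUV⟩ := exists_chief_below U hUbot
      have hVn := hUV.2.2.1
      have hVU : V < U := hUV.1
      have hVcard : Nat.card ↥V ≤ n := by
        have := card_lt_of_le_of_ne hVU.le hVU.ne
        omega
      obtain ⟨k₁, hk₁⟩ := ih V hVn (hVU.le.trans hUP) hVcard x hx
      obtain ⟨y, hy⟩ : ∃ y, y = x ^ p ^ k₁ := ⟨_, rfl⟩
      rw [← hy] at hk₁
      have hyD : y ∈ D := by rw [hy]; exact D.pow_mem hx _
      have hyU : ∀ u ∈ U, u⁻¹ * (y * u * y⁻¹) ∈ V :=
        (secAct_eq_one_iff U V y).mp (hyD U V hUV hUP)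
      obtain ⟨j, hj⟩ := IsPGroup.iff_card.mp (hPp.to_le (hVU.le.trans hUP))
      refine ⟨k₁ + j, ?_⟩
      intro u hu
      obtain ⟨w, hw⟩ : ∃ w, w = u⁻¹ * (y * u * y⁻¹) := ⟨_, rfl⟩
      have hwV : w ∈ V := by rw [hw]; exact hyU u hu
      have huw : y * u * y⁻¹ = u * w := by rw [hw]; group
      have hpow : ∀ i : ℕ, y ^ i * u * (y ^ i)⁻¹ = u * w ^ i := by
        intro i
        induction i with
        | zero => simp
        | succ i ih2 =>
          have hc := hk₁ _ hwV
          have hc2 : y * w ^ i = w ^ i * y :=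
            (Commute.pow_right (show Commute y w from hc) i).eq
          calc y ^ (i + 1) * u * (y ^ (i + 1))⁻¹ = y * (y ^ i * u * (y ^ i)⁻¹) * y⁻¹ := by
                rw [pow_succ']; group
            _ = y * (u * w ^ i) * y⁻¹ := by rw [ih2]
            _ = (y * u * y⁻¹) * (y * w ^ i) * y⁻¹ := by group
            _ = (u * w) * (w ^ i * y) * y⁻¹ := by rw [huw, hc2]
            _ = u * w ^ (i + 1) := by rw [pow_succ']; group
      have h1 := hpow (p ^ j)
      have h2 : w ^ p ^ j = 1 := by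
        have h3 : (⟨w, hwV⟩ : ↥V) ^ Nat.card ↥V = 1 := pow_card_eq_one'
        rw [hj] at h3
        exact congrArg Subtype.val h3
      rw [h2, mul_one] at h1
      have h4 : x ^ p ^ (k₁ + j) = y ^ p ^ j := by rw [hy, ← pow_mul, ← pow_add]
      rw [h4]
      calc y ^ p ^ j * u = (y ^ p ^ j * u * (y ^ p ^ j)⁻¹) * y ^ p ^ j := by group
        _ = u * y ^ p ^ j := by rw [h1]
  have hDp : IsPGroup p ↥(D.map (QuotientGroup.mk' C)) := by
    rintro ⟨_, ⟨d, hd, rfl⟩⟩
    obtain ⟨k, hk⟩ := key _ P hPn le_rfl le_rfl d hd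
    refine ⟨k, Subtype.ext ?_⟩
    rw [Subgroup.coe_pow, Subgroup.coe_one]
    show (QuotientGroup.mk' C d) ^ p ^ k = 1
    rw [← map_pow]
    exact (QuotientGroup.eq_one_iff _).mpr (hC _ hk)
  have hDmn : (D.map (QuotientGroup.mk' C)).Normal :=
    hDn.map _ (QuotientGroup.mk'_surjective C)
  exact Cfsg.Agent.Lib.Helper4.le_pCore hDmn hDp ⟨g, hgD, rfl⟩

/-- Groups of the class `IsPAbP` are `p`-stable in the normalizer form, for odd `p`. -/
theorem IsPAbP.isNormalizerPStable {Y : Type u} [Group Y] [Finite Y] {p : ℕ} [Fact p.Prime]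
    (hp : p ≠ 2) (h : IsPAbP p Y) : Cfsg.IsNormalizerPStable p Y := by
  intro P hPp g hg hquad
  have hN : IsPAbP p ↥(Subgroup.normalizer (P : Set Y)) := h.subgroup _
  have hP'n : (P.subgroupOf (Subgroup.normalizer (P : Set Y))).Normal :=
    Subgroup.normal_in_normalizer
  have hP'p : IsPGroup p ↥(P.subgroupOf (Subgroup.normalizer (P : Set Y))) :=
    IsPGroup.comap_subtype hPp
  have hp3 : 2 ≤ p - 1 := by
    have h2 := (Fact.out : p.Prime).two_le
    omega
  apply mem_pCore_quotient_of_chief_trivial (P.subgroupOf (Subgroup.normalizer (P : Set Y)))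
    ((Subgroup.centralizer (P : Set Y)).subgroupOf (Subgroup.normalizer (P : Set Y))) hP'p ?_
    ⟨g, hg⟩ ?_
  · intro x hx
    rw [Subgroup.mem_subgroupOf, Subgroup.mem_centralizer_iff]
    intro u hu
    have h1 := hx ⟨u, Subgroup.le_normalizer hu⟩ (by rw [Subgroup.mem_subgroupOf]; exact hu)
    exact (congrArg Subtype.val h1).symm
  · intro U V hUV hUP
    apply hN.chief_centralized hUV (hP'p.to_le hUP) ⟨g, hg⟩
    have hUn := hUV.2.1
    have h2 : iterCommutator U (Subgroup.zpowers (⟨g, hg⟩ : ↥(Subgroup.normalizer (P : Set Y)))) 2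
        = ⊥ := by
      rw [eq_bot_iff]
      have h3 : ⁅⁅P.subgroupOf (Subgroup.normalizer (P : Set Y)),
          Subgroup.zpowers (⟨g, hg⟩ : ↥(Subgroup.normalizer (P : Set Y)))⁆,
          Subgroup.zpowers (⟨g, hg⟩ : ↥(Subgroup.normalizer (P : Set Y)))⁆ = ⊥ := by
        apply (Subgroup.map_eq_bot_iff_of_injective _
          (Subgroup.normalizer (P : Set Y)).subtype_injective).mp
        rw [Subgroup.map_commutator, Subgroup.map_commutator,
          Subgroup.map_subgroupOf_eq_of_le Subgroup.le_normalizer, MonoidHom.map_zpowers]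
        exact hquad
      rw [← h3]
      exact Subgroup.commutator_mono (Subgroup.commutator_mono hUP le_rfl) le_rfl
    have h4 := iterCommutator_antitone U
      (Subgroup.zpowers (⟨g, hg⟩ : ↥(Subgroup.normalizer (P : Set Y))))
      (by rw [Subgroup.normalizer_eq_top U]; exact le_top) hp3
    rw [h2] at h4
    exact h4.trans bot_le

end Cfsg.Agent.Lib.Helper3
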