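import Mathlib
import Cfsg.Prelude.Def_Transfer
import Cfsg.Prelude.Def_CaseTheorems
import Cfsg.Agent.Lib.Helper3.PAbP
import Cfsg.Agent.Lib.Helper3.Frat
import Cfsg.Agent.Lib.Helper3.PiCore
import Cfsg.Agent.Lib.Helper3.NPC

set_option autoImplicit false

namespace Cfsg.Agent.Lib.Helper3

open Cfsg
open scoped commutatorElement Pointwise

universe u

/-- A normal `p'`-subgroup `N` complemented by a `p`-subgroup `T` which is a maximal subgroup is
abelian. -/
theorem abelian_of_coatom {G : Type*} [Group G] [Finite G] {p : ℕ} [Fact p.Prime]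
    (N T : Subgroup G) [hN : N.Normal] (hNc : (Nat.card ↥N).Coprime p) (hT : IsPGroup p ↥T)
    (hTco : IsCoatom T) :
    ∀ a ∈ N, ∀ b ∈ N, a * b = b * a := by
  classical
  have hNT : N ⊓ T = ⊥ := by
    rw [inf_comm]; exact disjoint_of_isPGroup_of_coprime T N hT hNc
  have hA : ∀ A : Subgroup G, A ≤ N → T ≤ Subgroup.normalizer (A : Set G) → A ≠ ⊥ → A = N := by
    intro A hAN hTA hAne
    have h1 : A ⊔ T = ⊤ := by
      apply hTco.2
      refine lt_of_le_of_ne le_sup_right ?_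
      intro h
      apply hAne
      have h2 : A ≤ T := by rw [h]; exact le_sup_left
      rw [eq_bot_iff, ← hNT]
      exact le_inf hAN h2
    apply le_antisymm hAN
    intro n hn
    have h2 : n ∈ T ⊔ A := by rw [sup_comm, h1]; exact Subgroup.mem_top n
    obtain ⟨t, ht, a, ha, rfl⟩ := exists_mul_of_mem_sup_of_le_normalizer T A hTA h2
    have h3 : t ∈ N ⊓ T := by
      refine Subgroup.mem_inf.mpr ⟨?_, ht⟩
      have h4 : t = (t * a) * a⁻¹ := by group
      rw [h4]; exact N.mul_mem hn (N.inv_mem (hAN ha))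
    rw [hNT, Subgroup.mem_bot] at h3
    rw [h3, one_mul]; exact ha
  by_cases hNbot : N = ⊥
  · intro a ha b hb
    rw [hNbot, Subgroup.mem_bot] at ha hb
    rw [ha, hb]
  have hcard : Nat.card ↥N ≠ 1 := fun h => hNbot (Subgroup.card_eq_one.mp h)
  obtain ⟨q, hq, hqdvd⟩ := Nat.exists_prime_and_dvd hcard
  have hqf : Fact q.Prime := ⟨hq⟩
  let φ : ↥T →* MulAut ↥N := (MulAut.conjNormal (H := N)).comp T.subtype
  let _ : MulDistribMulAction ↥T ↥N := MulDistribMulAction.compHom ↥N φ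
  have hndvd : ¬ p ∣ Nat.card (Sylow q ↥N) := by
    obtain ⟨P₀⟩ : Nonempty (Sylow q ↥N) := inferInstance
    intro hdvd
    have h1 := dvd_trans hdvd (Sylow.card_dvd_index P₀)
    have h2 : (P₀ : Subgroup ↥N).index ∣ Nat.card ↥N := Subgroup.index_dvd_card _
    exact (Nat.Prime.coprime_iff_not_dvd Fact.out).mp hNc.symm (dvd_trans h1 h2)
  obtain ⟨P, hP⟩ := hT.nonempty_fixed_point_of_prime_not_dvd_card (Sylow q ↥N) hndvd
  obtain ⟨A, hAdef⟩ : ∃ A, A = (P : Subgroup ↥N).map N.subtype := ⟨_, rfl⟩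
  have hAN : A ≤ N := by rw [hAdef]; exact Subgroup.map_subtype_le _
  have hTA : T ≤ Subgroup.normalizer (A : Set G) := by
    intro t ht
    apply mem_normalizer_of_map_conj_le
    rintro _ ⟨a, ha, rfl⟩
    rw [hAdef] at ha ⊢
    obtain ⟨n, hn, rfl⟩ := ha
    have h1 : (⟨t, ht⟩ : ↥T) • n ∈ (⟨t, ht⟩ : ↥T) • (P : Subgroup ↥N) :=
      Subgroup.smul_mem_pointwise_smul n _ _ hn
    rw [← Sylow.pointwise_smul_def, MulAction.mem_fixedPoints.mp hP ⟨t, ht⟩] at h1
    refine ⟨(⟨t, ht⟩ : ↥T) • n, h1, ?_⟩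
    show ((MulAut.conjNormal t n : ↥N) : G) = _
    rw [MulAut.conjNormal_apply]
    rfl
  have hAne : A ≠ ⊥ := by
    rw [hAdef]
    intro h
    rw [Subgroup.map_eq_bot_iff_of_injective _ N.subtype_injective] at h
    exact P.ne_bot_of_dvd_card hqdvd h
  have hAeq := hA A hAN hTA hAne
  have hPtop : (P : Subgroup ↥N) = ⊤ := by
    apply Subgroup.map_injective N.subtype_injective
    rw [← hAdef, hAeq, ← MonoidHom.range_eq_map, Subgroup.range_subtype]
  have hNq : IsPGroup q ↥N := by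
    intro n
    have hn : n ∈ (P : Subgroup ↥N) := by rw [hPtop]; exact Subgroup.mem_top n
    obtain ⟨k, hk⟩ := P.isPGroup' ⟨n, hn⟩
    exact ⟨k, congrArg Subtype.val hk⟩
  have hnil : Group.IsNilpotent ↥N := hNq.isNilpotent
  have hnt : Nontrivial ↥N := (Subgroup.nontrivial_iff_ne_bot N).mpr hNbot
  have hlt := Group.IsSolvable.commutator_lt_top_of_nontrivial ↥N
  have hDn : (⁅N, N⁆).Normal := Subgroup.commutator_normal N N
  have hD : ⁅N, N⁆ = ⊥ := by
    by_contra hDne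
    have h1 := hA ⁅N, N⁆ (Subgroup.commutator_le_left N N)
      (by rw [Subgroup.normalizer_eq_top]; exact le_top) hDne
    apply hlt.ne
    apply Subgroup.map_injective N.subtype_injective
    rw [Subgroup.map_subtype_commutator, h1, ← MonoidHom.range_eq_map, Subgroup.range_subtype]
  intro a ha b hb
  have h1 : ⁅a, b⁆ ∈ ⁅N, N⁆ := Subgroup.commutator_mem_commutator ha hb
  rw [hD, Subgroup.mem_bot] at h1
  exact commutatorElement_eq_one_iff_commute.mp h1

/-- A group `Y` with `Y/O_p(Y)` `p`-nilpotent and a Sylow `p`-subgroup which is a maximal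
subgroup lies in the class `IsPAbP`. -/
theorem isPAbP_of_special {Y : Type*} [Group Y] [Finite Y] {p : ℕ} [Fact p.Prime]
    (hq : Cfsg.HasNormalPComplement p (Y ⧸ Cfsg.pCore p Y)) (T : Subgroup Y)
    (hTp : IsPGroup p ↥T) (hTidx : ¬ p ∣ T.index) (hTco : IsCoatom T) : IsPAbP p Y := by
  obtain ⟨Q, hQdef⟩ : ∃ Q, Q = Cfsg.pCore p Y := ⟨_, rfl⟩
  have hQn : Q.Normal := by rw [hQdef]; infer_instance
  have hQp : IsPGroup p ↥Q := by rw [hQdef]; exact Cfsg.Agent.Lib.Helper4.pCore_isPGroup p Y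
  have hQT : Q ≤ T := by
    have h1 := Cfsg.Agent.Lib.Helper4.pCore_le_sylow (hTp.toSylow hTidx)
    rw [IsPGroup.toSylow_coe] at h1
    rw [hQdef]; exact h1
  have hq' : Cfsg.HasNormalPComplement p (Y ⧸ Q) := by subst hQdef; exact hq
  obtain ⟨Nb, hNbn, hNbc, hNbpow, -⟩ := npc_exists hq'
  have hπ : Function.Surjective (QuotientGroup.mk' Q) := QuotientGroup.mk'_surjective Q
  obtain ⟨Tb, hTb⟩ : ∃ Tb, Tb = T.map (QuotientGroup.mk' Q) := ⟨_, rfl⟩
  have hTbp : IsPGroup p ↥Tb := by rw [hTb]; exact hTp.map _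
  have hTbco : IsCoatom Tb := by
    refine ⟨?_, ?_⟩
    · intro htop
      apply hTco.1
      have h1 : (Tb.comap (QuotientGroup.mk' Q)) = ⊤ := by rw [htop]; rfl
      rw [hTb, Subgroup.comap_map_eq, QuotientGroup.ker_mk', sup_eq_left.mpr hQT] at h1
      exact h1
    · intro Mb hMb
      have h1 : T ≤ Mb.comap (QuotientGroup.mk' Q) := by
        intro t ht
        rw [Subgroup.mem_comap]
        exact hMb.le (by rw [hTb]; exact Subgroup.mem_map_of_mem _ ht)
      have h2 : T ≠ Mb.comap (QuotientGroup.mk' Q) := by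
        intro h
        apply hMb.ne
        rw [hTb, h, Subgroup.map_comap_eq_self_of_surjective hπ]
      have h3 := hTco.2 _ (lt_of_le_of_ne h1 h2)
      rw [← Subgroup.map_comap_eq_self_of_surjective hπ Mb, h3]
      exact Subgroup.map_top_of_surjective _ hπ
  have hab := abelian_of_coatom Nb Tb hNbc hTbp hTbco
  refine ⟨Q, Nb.comap (QuotientGroup.mk' Q), hQn, hNbn.comap _, ?_, hQp, ?_, ?_, ?_⟩
  · intro x hx
    rw [Subgroup.mem_comap]
    have h1 : (QuotientGroup.mk' Q) x = 1 := (QuotientGroup.eq_one_iff x).mpr hx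
    rw [h1]; exact Subgroup.one_mem _
  · intro x hx y hy
    rw [Subgroup.mem_comap] at hx hy
    rw [← QuotientGroup.eq_one_iff]
    have h1 := hab _ hx _ hy
    show (QuotientGroup.mk' Q) ⁅x, y⁆ = 1
    rw [map_commutatorElement]
    exact commutatorElement_eq_one_iff_commute.mpr h1
  · intro x hx
    rw [Subgroup.mem_comap] at hx
    refine ⟨Nat.card ↥Nb, hNbc, ?_⟩
    rw [← QuotientGroup.eq_one_iff]
    show (QuotientGroup.mk' Q) (x ^ Nat.card ↥Nb) = 1
    rw [map_pow]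
    have h1 : (⟨_, hx⟩ : ↥Nb) ^ Nat.card ↥Nb = 1 := pow_card_eq_one'
    exact congrArg Subtype.val h1
  · intro y
    obtain ⟨k, hk⟩ := hNbpow (QuotientGroup.mk' Q y)
    exact ⟨k, by rw [Subgroup.mem_comap, map_pow]; exact hk⟩

end Cfsg.Agent.Lib.Helper3
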