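import Mathlib
import Cfsg.Agent.Lib.Helper3.ThompsonOrder
import Cfsg.Agent.Lib.Helper3.PRes
import Cfsg.Agent.Lib.Helper3.TIFamily

set_option maxHeartbeats 1000000

namespace Cfsg.Agent.Lib.Helper3

theorem sq_one_of_orderOf_two {G : Type*} [Group G] {a : G} (h : orderOf a = 2) : a * a = 1 := by
  rw [← pow_two, ← h]; exact pow_orderOf_eq_one a

theorem inv_eq_self_of_orderOf_two {G : Type*} [Group G] {a : G} (h : orderOf a = 2) : a⁻¹ = a :=
  inv_eq_of_mul_eq_one_left (sq_one_of_orderOf_two h)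

theorem orderOf_conj_eq' {G : Type*} [Group G] (c a : G) : orderOf (c * a * c⁻¹) = orderOf a :=
  orderOf_injective (MulAut.conj c).toMonoidHom (MulAut.conj c).injective a

/-- Two involutions whose product has even order commute with a common involution. -/
theorem exists_involution_commute_of_even {G : Type*} [Group G] [Finite G] (a b : G)
    (ha : a * a = 1) (hb : b * b = 1) (heven : Even (orderOf (a * b))) :
    ∃ w : G, orderOf w = 2 ∧ a * w = w * a ∧ b * w = w * b := by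
  obtain ⟨w, hw2, hwm, hwu⟩ := exists_unique_involution_zpowers (a * b) heven
  have hainv : a⁻¹ = a := inv_eq_of_mul_eq_one_left ha
  have hbinv : b⁻¹ = b := inv_eq_of_mul_eq_one_left hb
  have key : ∀ c : G, c * (a * b) * c⁻¹ = (a * b)⁻¹ → c * w = w * c := by
    intro c hc
    have h1 : c * w * c⁻¹ ∈ Subgroup.zpowers (a * b) := by
      obtain ⟨k, rfl⟩ := Subgroup.mem_zpowers_iff.mp hwm
      have e : c * (a * b) ^ k * c⁻¹ = ((a * b)⁻¹) ^ k := by
        have := map_zpow (MulAut.conj c) (a * b) k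
        simp only [MulAut.conj_apply] at this
        rw [this, hc]
      rw [e]
      exact Subgroup.zpow_mem _ (Subgroup.inv_mem _ (Subgroup.mem_zpowers _)) k
    have h2 : orderOf (c * w * c⁻¹) = 2 := by
      rw [orderOf_conj_eq']; exact hw2
    have h3 := hwu _ h2 h1
    calc c * w = c * w * c⁻¹ * c := by group
      _ = w * c := by rw [h3]
  refine ⟨w, hw2, key a ?_, key b ?_⟩
  · rw [hainv, mul_inv_rev, hainv, hbinv, ← mul_assoc, ha, one_mul]
  · rw [mul_inv_rev, hainv, hbinv, mul_assoc, mul_assoc, hb, mul_one]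

/-- If `x` of odd order inverts `c` then `c` is an involution or trivial. -/
theorem inv_eq_self_of_odd_conj {G : Type*} [Group G] (x c : G) (hx : x * c * x⁻¹ = c⁻¹)
    (hodd : Odd (orderOf x)) : c⁻¹ = c := by
  obtain ⟨k, hk⟩ := hodd
  have hx' : x * c⁻¹ * x⁻¹ = c := by
    have := congrArg Inv.inv hx
    simpa [mul_assoc] using this
  have h2 : Commute (x * x) c := by
    show x * x * c = c * (x * x)
    calc x * x * c = x * (x * c * x⁻¹) * x⁻¹ * (x * x) := by group
      _ = x * c⁻¹ * x⁻¹ * (x * x) := by rw [hx]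
      _ = c * (x * x) := by rw [hx']
  have h3 : Commute ((x * x) ^ k) c := h2.pow_left k
  have h4 : (x * x) ^ k * x = 1 := by
    rw [← pow_two, ← pow_mul, ← pow_succ, ← hk]; exact pow_orderOf_eq_one x
  have h5 : x = ((x * x) ^ k)⁻¹ := eq_inv_of_mul_eq_one_right h4
  have h6 : Commute x c := by rw [h5]; exact h3.inv_left
  rw [← hx, h6.eq, mul_inv_cancel_right]

section se

variable {S : Type*} [Group S] [Finite S] (M : Subgroup S)

/-- If `M` contains the centralizers of its involutions, an involution of `M` times an involution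
outside `M` has odd order. -/
theorem se_odd_orderOf_mul
    (hC : ∀ i ∈ M, orderOf i = 2 → Subgroup.centralizer ({i} : Set S) ≤ M)
    (z a : S) (hz : orderOf z = 2) (ha : orderOf a = 2) (hzM : z ∈ M) (haM : a ∉ M) :
    Odd (orderOf (z * a)) := by
  by_contra hodd
  rw [Nat.not_odd_iff_even] at hodd
  obtain ⟨w, hw2, hzw, haw⟩ := exists_involution_commute_of_even z a (sq_one_of_orderOf_two hz)
    (sq_one_of_orderOf_two ha) hodd
  have hwM : w ∈ M := hC z hzM hz (Subgroup.mem_centralizer_singleton_iff.mpr hzw.symm)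
  exact haM (hC w hwM hw2 (Subgroup.mem_centralizer_singleton_iff.mpr haw))

theorem se_exists_mem (hM : Even (Nat.card M)) : ∃ i : S, orderOf i = 2 ∧ i ∈ M := by
  have : Fact (Nat.Prime 2) := ⟨Nat.prime_two⟩
  obtain ⟨i, hi⟩ := exists_prime_orderOf_dvd_card' 2 (even_iff_two_dvd.mp hM)
  exact ⟨(i : S), by rw [Subgroup.orderOf_coe]; exact hi, i.2⟩

theorem se_exists_not_mem (hM : Even (Nat.card M))
    (hcore : Odd (Nat.card M.normalCore)) : ∃ v : S, orderOf v = 2 ∧ v ∉ M := by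
  obtain ⟨i, hi2, hiM⟩ := se_exists_mem M hM
  by_contra hcon
  push Not at hcon
  have hcoremem : i ∈ M.normalCore := by
    intro b
    exact hcon _ (by rw [orderOf_conj_eq']; exact hi2)
  have h1 := Subgroup.orderOf_dvd_natCard _ hcoremem
  rw [hi2] at h1
  exact (Nat.not_even_iff_odd.mpr hcore) (even_iff_two_dvd.mpr h1)

/-- All involutions are conjugate. -/
theorem se_all_conj (hM : Even (Nat.card M))
    (hC : ∀ i ∈ M, orderOf i = 2 → Subgroup.centralizer ({i} : Set S) ≤ M)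
    (hcore : Odd (Nat.card M.normalCore)) :
    ∀ x y : S, orderOf x = 2 → orderOf y = 2 → IsConj x y := by
  obtain ⟨i₀, hi₀2, hi₀M⟩ := se_exists_mem M hM
  obtain ⟨v₀, hv₀2, hv₀M⟩ := se_exists_not_mem M hM hcore
  have hA : ∀ u v : S, orderOf u = 2 → orderOf v = 2 → u ∈ M → v ∉ M → IsConj u v := by
    intro u v hu hv huM hvM
    exact isConj_of_odd_orderOf_mul u v (sq_one_of_orderOf_two hu) (sq_one_of_orderOf_two hv)
      (se_odd_orderOf_mul M hC u v hu hv huM hvM)
  have hxv : ∀ x : S, orderOf x = 2 → IsConj x v₀ := by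
    intro x hx
    by_cases hxM : x ∈ M
    · exact hA x v₀ hx hv₀2 hxM hv₀M
    · exact (hA i₀ x hi₀2 hx hi₀M hxM).symm.trans (hA i₀ v₀ hi₀2 hv₀2 hi₀M hv₀M)
  intro x y hx hy
  exact (hxv x hx).trans (hxv y hy).symm

/-- Control of fusion of involutions. -/
theorem se_control
    (hC : ∀ i ∈ M, orderOf i = 2 → Subgroup.centralizer ({i} : Set S) ≤ M)
    (X : Sylow 2 M) (I : M)
    (hI : I ∈ (Subgroup.center ↥(X : Subgroup ↥M)).map (X : Subgroup ↥M).subtype)
    (hI2 : orderOf I = 2)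
    (hN : Subgroup.normalizer (((X : Subgroup M).map M.subtype : Subgroup S) : Set S) ≤ M)
    (u g : S) (hu : orderOf u = 2) (huM : u ∈ M) (hguM : g * u * g⁻¹ ∈ M) : g ∈ M := by
  classical
  have : Fact (Nat.Prime 2) := ⟨Nat.prime_two⟩
  obtain ⟨XS, hXS⟩ : ∃ XS : Subgroup S, XS = (X : Subgroup M).map M.subtype := ⟨_, rfl⟩
  rw [← hXS] at hN
  have hXSM : XS ≤ M := by rw [hXS]; exact Subgroup.map_subtype_le _
  have hXS2 : IsPGroup 2 XS := by rw [hXS]; exact X.isPGroup'.map _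
  obtain ⟨z, hz⟩ : ∃ z : S, z = (I : S) := ⟨_, rfl⟩
  have hzM : z ∈ M := by rw [hz]; exact I.2
  have hz2 : orderOf z = 2 := by rw [hz, Subgroup.orderOf_coe]; exact hI2
  have hzcomm : ∀ x ∈ XS, z * x = x * z := by
    intro x hx
    rw [hXS] at hx
    obtain ⟨x', hx', rfl⟩ := hx
    obtain ⟨c, hc, hcI⟩ := hI
    rw [SetLike.mem_coe, Subgroup.mem_center_iff] at hc
    have h1 := hc ⟨x', hx'⟩
    have h2 : (x' : M) * I = I * x' := by
      rw [← hcI]; exact congrArg (fun t : ↥(X : Subgroup M) => (t : M)) h1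
    rw [hz]
    have h3 := congrArg (fun t : M => (t : S)) h2
    simpa using h3.symm
  have hsyl : ∀ R : Subgroup S, R ≤ M → IsPGroup 2 R → ∃ m ∈ M, ∀ r ∈ R, m * r * m⁻¹ ∈ XS := by
    intro R hRM hR2
    have hR' : IsPGroup 2 (R.subgroupOf M) := hR2.comap_subtype
    obtain ⟨m, hm⟩ := exists_conj_mem_sylow (R.subgroupOf M) hR' X
    refine ⟨m, m.2, ?_⟩
    intro r hr
    have := hm ⟨r, hRM hr⟩ (Subgroup.mem_subgroupOf.mpr hr)
    rw [hXS]
    exact ⟨_, this, by simp⟩
  have hzp : IsPGroup 2 (Subgroup.zpowers u) := by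
    apply IsPGroup.of_card (n := 1)
    rw [Nat.card_zpowers, hu, pow_one]
  obtain ⟨m, hmM, hm⟩ := hsyl (Subgroup.zpowers u) (by rw [Subgroup.zpowers_le]; exact huM) hzp
  have hu1 : m * u * m⁻¹ ∈ XS := hm u (Subgroup.mem_zpowers u)
  obtain ⟨z', hz'⟩ : ∃ z' : S, z' = m⁻¹ * z * m := ⟨_, rfl⟩
  have hz'u : u * z' = z' * u := by
    have := hzcomm _ hu1
    rw [hz']
    calc u * (m⁻¹ * z * m) = m⁻¹ * (m * u * m⁻¹ * z) * m := by group
      _ = m⁻¹ * (z * (m * u * m⁻¹)) * m := by rw [this]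
      _ = m⁻¹ * z * m * u := by group
  have hz'M : z' ∈ M := by rw [hz']; exact M.mul_mem (M.mul_mem (M.inv_mem hmM) hzM) hmM
  have hz'2 : orderOf z' = 2 := by
    rw [hz', ← hz2]
    have := orderOf_conj_eq' m⁻¹ z
    rwa [inv_inv] at this
  have hgu2 : orderOf (g * u * g⁻¹) = 2 := by rw [orderOf_conj_eq']; exact hu
  have hgz'M : g * z' * g⁻¹ ∈ M := by
    apply hC _ hguM hgu2
    rw [Subgroup.mem_centralizer_singleton_iff]
    calc g * z' * g⁻¹ * (g * u * g⁻¹) = g * (z' * u) * g⁻¹ := by group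
      _ = g * (u * z') * g⁻¹ := by rw [hz'u]
      _ = g * u * g⁻¹ * (g * z' * g⁻¹) := by group
  have hgz'2 : orderOf (g * z' * g⁻¹) = 2 := by rw [orderOf_conj_eq']; exact hz'2
  obtain ⟨k, hk⟩ : ∃ k : S, k = g * m⁻¹ := ⟨_, rfl⟩
  have hY : ∀ x ∈ XS, k * x * k⁻¹ ∈ M := by
    intro x hx
    apply hC _ hgz'M hgz'2
    rw [Subgroup.mem_centralizer_singleton_iff, hk, hz']
    have := hzcomm x hx
    calc g * m⁻¹ * x * (g * m⁻¹)⁻¹ * (g * (m⁻¹ * z * m) * g⁻¹)
        = g * m⁻¹ * (x * z) * m * g⁻¹ := by group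
      _ = g * m⁻¹ * (z * x) * m * g⁻¹ := by rw [this]
      _ = g * (m⁻¹ * z * m) * g⁻¹ * (g * m⁻¹ * x * (g * m⁻¹)⁻¹) := by group
  obtain ⟨Y, hYdef⟩ : ∃ Y : Subgroup S, Y = XS.map (MulAut.conj k).toMonoidHom := ⟨_, rfl⟩
  have hYM : Y ≤ M := by
    rw [hYdef]; rintro _ ⟨x, hx, rfl⟩; exact hY x hx
  have hY2 : IsPGroup 2 Y := by rw [hYdef]; exact hXS2.map _
  obtain ⟨m', hm'M, hm'⟩ := hsyl Y hYM hY2
  have hnorm : m' * k ∈ Subgroup.normalizer (XS : Set S) := by
    rw [← map_conj_eq_iff_mem_normalizer]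
    apply Subgroup.eq_of_le_of_card_ge
    · rintro _ ⟨x, hx, rfl⟩
      have := hm' (k * x * k⁻¹) (by rw [hYdef]; exact ⟨x, hx, rfl⟩)
      simp only [MulEquiv.coe_toMonoidHom, MulAut.conj_apply]
      have e : m' * k * x * (m' * k)⁻¹ = m' * (k * x * k⁻¹) * m'⁻¹ := by group
      rw [e]; exact this
    · exact (Nat.card_congr (Subgroup.equivMapOfInjective XS _
        (MulAut.conj (m' * k)).injective).toEquiv).le
  have h := hN hnorm
  have hg : g = m'⁻¹ * (m' * k) * m := by rw [hk]; group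
  rw [hg]
  exact M.mul_mem (M.mul_mem (M.inv_mem hm'M) h) hmM

/-- All involutions of `M` are conjugate in `M`. -/
theorem se_conj_in (hM : Even (Nat.card M))
    (hC : ∀ i ∈ M, orderOf i = 2 → Subgroup.centralizer ({i} : Set S) ≤ M)
    (hcore : Odd (Nat.card M.normalCore))
    (X : Sylow 2 M) (I : M)
    (hI : I ∈ (Subgroup.center ↥(X : Subgroup ↥M)).map (X : Subgroup ↥M).subtype)
    (hI2 : orderOf I = 2)
    (hN : Subgroup.normalizer (((X : Subgroup M).map M.subtype : Subgroup S) : Set S) ≤ M) :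
    ∀ x y : M, orderOf x = 2 → orderOf y = 2 → IsConj x y := by
  intro x y hx hy
  have hx' : orderOf (x : S) = 2 := by rw [Subgroup.orderOf_coe]; exact hx
  have hy' : orderOf (y : S) = 2 := by rw [Subgroup.orderOf_coe]; exact hy
  obtain ⟨g, hg⟩ := isConj_iff.mp (se_all_conj M hM hC hcore (x : S) (y : S) hx' hy')
  have hgM : g ∈ M := se_control M hC X I hI hI2 hN (x : S) g hx' x.2 (by rw [hg]; exact y.2)
  rw [isConj_iff]
  exact ⟨⟨g, hgM⟩, Subtype.ext (by simpa using hg)⟩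

/-- `M = M₀ C_M(I)` with `M₀` of odd order. -/
theorem se_factor (hM : Even (Nat.card M))
    (hC : ∀ i ∈ M, orderOf i = 2 → Subgroup.centralizer ({i} : Set S) ≤ M)
    (hcore : Odd (Nat.card M.normalCore))
    (X : Sylow 2 M) (I : M)
    (hI : I ∈ (Subgroup.center ↥(X : Subgroup ↥M)).map (X : Subgroup ↥M).subtype)
    (hI2 : orderOf I = 2)
    (hN : Subgroup.normalizer (((X : Subgroup M).map M.subtype : Subgroup S) : Set S) ≤ M) :
    ∃ M₀ : Subgroup M, Odd (Nat.card M₀) ∧
      ∀ m : M, ∃ a ∈ M₀, ∃ c ∈ Subgroup.centralizer ({I} : Set M), m = a * c := by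
  classical
  have := Fintype.ofFinite S
  have : Fact (Nat.Prime 2) := ⟨Nat.prime_two⟩
  obtain ⟨z, hz⟩ : ∃ z : S, z = (I : S) := ⟨_, rfl⟩
  have hzM : z ∈ M := by rw [hz]; exact I.2
  have hz2 : orderOf z = 2 := by rw [hz, Subgroup.orderOf_coe]; exact hI2
  have hconjS := se_all_conj M hM hC hcore
  have hconjM := se_conj_in M hM hC hcore X I hI hI2 hN
  have hctl := se_control M hC X I hI hI2 hN
  obtain ⟨InvS, hInvS⟩ : ∃ InvS : Finset S, InvS = Finset.univ.filter (fun s : S => orderOf s = 2) :=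
    ⟨_, rfl⟩
  obtain ⟨InvM, hInvM⟩ : ∃ InvM : Finset S,
      InvM = Finset.univ.filter (fun s : S => orderOf s = 2 ∧ s ∈ M) := ⟨_, rfl⟩
  have hInvSmem : ∀ s, s ∈ InvS ↔ orderOf s = 2 := by
    intro s; rw [hInvS]; simp
  have hInvMmem : ∀ s, s ∈ InvM ↔ orderOf s = 2 ∧ s ∈ M := by
    intro s; rw [hInvM]; simp
  have hcardS : InvS.card * Nat.card (Subgroup.centralizer ({z} : Set S)) = Nat.card S := by
    rw [← card_isConj_mul_card_centralizer z]
    congr 1
    rw [Nat.card_eq_fintype_card, Fintype.card_subtype]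
    congr 1
    ext s
    rw [hInvSmem]
    simp only [Finset.mem_filter, Finset.mem_univ, true_and]
    constructor
    · intro hs; exact hconjS z s hz2 hs
    · intro hs; rw [← orderOf_eq_of_isConj' hs]; exact hz2
  have hcardM : InvM.card * Nat.card (Subgroup.centralizer ({z} : Set S)) = Nat.card M := by
    rw [← card_isConj_mul_card_centralizer I]
    congr 1
    · have e : {x : M // IsConj I x} ≃ {s : S // orderOf s = 2 ∧ s ∈ M} :=
        { toFun := fun x => ⟨(x.1 : S), by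
            have h1 := orderOf_eq_of_isConj' x.2
            rw [hI2] at h1
            rw [Subgroup.orderOf_coe]; exact h1.symm, x.1.2⟩
          invFun := fun s => ⟨⟨s.1, s.2.2⟩, hconjM I ⟨s.1, s.2.2⟩ hI2 (by
            rw [← Subgroup.orderOf_coe]; exact s.2.1)⟩
          left_inv := fun x => by ext; rfl
          right_inv := fun s => by ext; rfl }
      rw [Nat.card_congr e, Nat.card_eq_fintype_card, Fintype.card_subtype, hInvM]
    · have hle : Subgroup.centralizer ({z} : Set S) ≤ M := hC z hzM hz2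
      have heq : Subgroup.centralizer ({I} : Set M) =
          (Subgroup.centralizer ({z} : Set S)).subgroupOf M := by
        ext c
        rw [Subgroup.mem_subgroupOf, Subgroup.mem_centralizer_singleton_iff,
          Subgroup.mem_centralizer_singleton_iff, hz, Subtype.ext_iff]
        rfl
      rw [heq]
      exact (Nat.card_congr (Subgroup.subgroupOfEquivOfLe hle).toEquiv).symm
  have hcpos : 0 < Nat.card (Subgroup.centralizer ({z} : Set S)) := Nat.card_pos
  have hcount : InvS.card = M.index * InvM.card := by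
    apply Nat.eq_of_mul_eq_mul_right hcpos
    rw [hcardS, mul_assoc, hcardM, Subgroup.index_mul_card]
  have := Fintype.ofFinite (S ⧸ M)
  have hfib : InvS.card = ∑ q : S ⧸ M, (InvS.filter (fun s : S => (QuotientGroup.mk s : S ⧸ M) = q)).card :=
    Finset.card_eq_sum_card_fiberwise (fun x _ => Finset.mem_coe.mpr (Finset.mem_univ _))
  have hfib1 : InvS.filter (fun s : S => (QuotientGroup.mk s : S ⧸ M) = ((1 : S) : S ⧸ M)) = InvM := by
    ext s
    rw [Finset.mem_filter, hInvSmem, hInvMmem]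
    constructor
    · rintro ⟨h1, h2⟩
      refine ⟨h1, ?_⟩
      have h3 := QuotientGroup.eq.mp h2.symm
      simpa using h3
    · rintro ⟨h1, h2⟩
      refine ⟨h1, ?_⟩
      symm
      rw [QuotientGroup.eq]
      simpa using h2
  have hInvMpos : 0 < InvM.card := Finset.card_pos.mpr ⟨z, (hInvMmem z).mpr ⟨hz2, hzM⟩⟩
  obtain ⟨v₀, hv₀2, hv₀M⟩ := se_exists_not_mem M hM hcore
  obtain ⟨q, hq1, hqcard⟩ : ∃ q : S ⧸ M, q ≠ ((1 : S) : S ⧸ M) ∧
      InvM.card ≤ (InvS.filter (fun s : S => (QuotientGroup.mk s : S ⧸ M) = q)).card := by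
    by_contra hcon
    push Not at hcon
    have hlt : ∑ q : S ⧸ M, (InvS.filter (fun s : S => (QuotientGroup.mk s : S ⧸ M) = q)).card <
        ∑ _q : S ⧸ M, InvM.card := by
      apply Finset.sum_lt_sum
      · intro q _
        by_cases hq : q = ((1 : S) : S ⧸ M)
        · rw [hq, hfib1]
        · exact (hcon q hq).le
      · refine ⟨((v₀ : S) : S ⧸ M), Finset.mem_univ _, hcon _ ?_⟩
        intro h
        have h3 := QuotientGroup.eq.mp h.symm
        apply hv₀M
        simpa using h3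
    rw [← hfib, Finset.sum_const, Finset.card_univ, smul_eq_mul, hcount] at hlt
    have hidx : Fintype.card (S ⧸ M) = M.index := by
      rw [Subgroup.index, Nat.card_eq_fintype_card]
    rw [hidx] at hlt
    exact lt_irrefl _ hlt
  have hqpos : 0 < (InvS.filter (fun s : S => (QuotientGroup.mk s : S ⧸ M) = q)).card := lt_of_lt_of_le hInvMpos hqcard
  obtain ⟨t, ht⟩ := Finset.card_pos.mp hqpos
  rw [Finset.mem_filter, hInvSmem] at ht
  obtain ⟨ht2, htq⟩ := ht
  have htinv : t⁻¹ = t := inv_eq_self_of_orderOf_two ht2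
  have htt : t * t = 1 := sq_one_of_orderOf_two ht2
  have htM : t ∉ M := by
    intro h
    apply hq1
    rw [← htq]
    symm
    rw [QuotientGroup.eq]
    simpa using h
  obtain ⟨J, hJ⟩ : ∃ J : Finset S, J = InvS.filter (fun s : S => (QuotientGroup.mk s : S ⧸ M) = q) := ⟨_, rfl⟩
  rw [← hJ] at hqcard
  have hJmem : ∀ s, s ∈ J ↔ orderOf s = 2 ∧ t * s ∈ M := by
    intro s
    rw [hJ, Finset.mem_filter, hInvSmem]
    constructor
    · rintro ⟨hs2, hsq⟩
      refine ⟨hs2, ?_⟩
      have h := hsq.trans htq.symm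
      have h' := QuotientGroup.eq.mp h.symm
      rwa [htinv] at h'
    · rintro ⟨hs2, hts⟩
      refine ⟨hs2, ?_⟩
      rw [← htq]
      symm
      rw [QuotientGroup.eq, htinv]; exact hts
  have hd : ∀ s ∈ J, t * s ∈ M ∧ s * t ∈ M ∧ s ∉ M := by
    intro s hs
    obtain ⟨hs2, hts⟩ := (hJmem s).mp hs
    refine ⟨hts, ?_, ?_⟩
    · have : s * t = (t * s)⁻¹ := by
        rw [mul_inv_rev, htinv, inv_eq_self_of_orderOf_two hs2]
      rw [this]; exact M.inv_mem hts
    · intro hsM
      apply htM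
      have := M.mul_mem hts (M.inv_mem hsM)
      simpa using this
  obtain ⟨φ, hφ⟩ : ∃ φ : S → S, φ = fun s => (t * s) * z * (t * s)⁻¹ := ⟨_, rfl⟩
  have hφmem : ∀ s ∈ J, φ s ∈ InvM := by
    intro s hs
    obtain ⟨h1, -, -⟩ := hd s hs
    rw [hInvMmem, hφ]
    refine ⟨?_, M.mul_mem (M.mul_mem h1 hzM) (M.inv_mem h1)⟩
    show orderOf (t * s * z * (t * s)⁻¹) = 2
    rw [orderOf_conj_eq']; exact hz2
  have hφinj : ∀ s ∈ J, ∀ s' ∈ J, φ s = φ s' → s = s' := by
    intro s hs s' hs' heq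
    obtain ⟨hs2, hts⟩ := (hJmem s).mp hs
    obtain ⟨hs'2, hts'⟩ := (hJmem s').mp hs'
    obtain ⟨-, -, hs'M⟩ := hd s' hs'
    have hss := sq_one_of_orderOf_two hs2
    have hs's' := sq_one_of_orderOf_two hs'2
    have hsinv := inv_eq_self_of_orderOf_two hs2
    have hs'inv := inv_eq_self_of_orderOf_two hs'2
    obtain ⟨c, hc⟩ : ∃ c : S, c = (t * s')⁻¹ * (t * s) := ⟨_, rfl⟩
    have hc' : c = s' * s := by
      rw [hc]
      have : (t * s')⁻¹ * (t * s) = s'⁻¹ * s := by group
      rw [this, hs'inv]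
    have hcM : c ∈ M := by rw [hc]; exact M.mul_mem (M.inv_mem hts') hts
    have hcz : z * c = c * z := by
      rw [hφ] at heq
      have heq' : t * s * z * (t * s)⁻¹ = t * s' * z * (t * s')⁻¹ := heq
      calc z * c = (t * s')⁻¹ * ((t * s') * z * (t * s')⁻¹) * (t * s) := by rw [hc]; group
        _ = (t * s')⁻¹ * ((t * s) * z * (t * s)⁻¹) * (t * s) := by rw [heq']
        _ = c * z := by rw [hc]; group
    have hcinv : c⁻¹ = s * s' := by rw [hc', mul_inv_rev, hsinv, hs'inv]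
    have hac : s' * c * s'⁻¹ = c⁻¹ := by
      rw [hcinv, hc', hs'inv, ← mul_assoc, hs's', one_mul]
    have hxc : (z * s') * c * (z * s')⁻¹ = c⁻¹ := by
      have hzc' : z * c⁻¹ * z⁻¹ = c⁻¹ := by
        have : z * c⁻¹ = c⁻¹ * z := by
          calc z * c⁻¹ = c⁻¹ * (c * z) * c⁻¹ := by group
            _ = c⁻¹ * (z * c) * c⁻¹ := by rw [hcz]
            _ = c⁻¹ * z := by group
        rw [this, mul_inv_cancel_right]
      calc (z * s') * c * (z * s')⁻¹ = z * (s' * c * s'⁻¹) * z⁻¹ := by group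
        _ = z * c⁻¹ * z⁻¹ := by rw [hac]
        _ = c⁻¹ := hzc'
    have hodd := se_odd_orderOf_mul M hC z s' hz2 hs'2 hzM hs'M
    have hcc : c⁻¹ = c := inv_eq_self_of_odd_conj (z * s') c hxc hodd
    have hc1 : c = 1 := by
      by_contra hne
      have hc2 : orderOf c = 2 := by
        apply orderOf_eq_prime _ hne
        rw [pow_two]
        nth_rewrite 1 [← hcc]
        exact inv_mul_cancel c
      apply hs'M
      apply hC c hcM hc2
      rw [Subgroup.mem_centralizer_singleton_iff]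
      have := hac
      rw [hcc] at this
      calc s' * c = s' * c * s'⁻¹ * s' := by group
        _ = c * s' := by rw [this]
    rw [hc'] at hc1
    have : s = s'⁻¹ := (inv_eq_of_mul_eq_one_right hc1).symm
    rw [this, hs'inv]
  have himg : J.image φ = InvM := by
    apply Finset.eq_of_subset_of_card_le
    · intro x hx
      obtain ⟨s, hs, rfl⟩ := Finset.mem_image.mp hx
      exact hφmem s hs
    · rw [Finset.card_image_of_injOn]
      · exact hqcard
      · intro s hs s' hs' h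
        exact hφinj s (Finset.mem_coe.mp hs) s' (Finset.mem_coe.mp hs') h
  obtain ⟨D, hD⟩ : ∃ D : Subgroup S, D = M ⊓ M.map (MulAut.conj t).toMonoidHom := ⟨_, rfl⟩
  refine ⟨D.subgroupOf M, ?_, ?_⟩
  · rw [← Nat.not_even_iff_odd]
    intro heven
    obtain ⟨u, hu⟩ := exists_prime_orderOf_dvd_card' 2 (even_iff_two_dvd.mp heven)
    have hu2 : orderOf ((u : M) : S) = 2 := by
      rw [Subgroup.orderOf_coe, Subgroup.orderOf_coe]; exact hu
    have huD : ((u : M) : S) ∈ D := Subgroup.mem_subgroupOf.mp u.2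
    have huD' : ((u : M) : S) ∈ M ⊓ M.map (MulAut.conj t).toMonoidHom := (le_of_eq hD) huD
    rw [Subgroup.mem_inf] at huD'
    obtain ⟨huM, u', hu'M, hu'⟩ := huD'
    have hu'' : t * u' * t⁻¹ = ((u : M) : S) := hu'
    have hu'2 : orderOf u' = 2 := by
      rw [← hu2, ← hu'', orderOf_conj_eq']
    exact htM (hctl u' t hu'2 hu'M (by rw [hu'']; exact huM))
  · intro m
    have hmem : (m : S) * z * (m : S)⁻¹ ∈ InvM := by
      rw [hInvMmem]
      refine ⟨?_, M.mul_mem (M.mul_mem m.2 hzM) (M.inv_mem m.2)⟩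
      rw [orderOf_conj_eq']; exact hz2
    rw [← himg] at hmem
    obtain ⟨s, hs, hsm⟩ := Finset.mem_image.mp hmem
    obtain ⟨h1, h2, -⟩ := hd s hs
    rw [hφ] at hsm
    have hsm' : t * s * z * (t * s)⁻¹ = (m : S) * z * (m : S)⁻¹ := hsm
    refine ⟨⟨t * s, h1⟩, ?_, ⟨t * s, h1⟩⁻¹ * m, ?_, by group⟩
    · rw [Subgroup.mem_subgroupOf, hD]
      refine ⟨h1, s * t, h2, ?_⟩
      show t * (s * t) * t⁻¹ = t * s
      group
    · rw [Subgroup.mem_centralizer_singleton_iff]
      apply Subtype.ext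
      show (t * s)⁻¹ * (m : S) * (I : S) = (I : S) * ((t * s)⁻¹ * (m : S))
      rw [← hz]
      calc (t * s)⁻¹ * (m : S) * z = (t * s)⁻¹ * ((m : S) * z * (m : S)⁻¹) * (m : S) := by group
        _ = (t * s)⁻¹ * (t * s * z * (t * s)⁻¹) * (m : S) := by rw [hsm']
        _ = z * ((t * s)⁻¹ * (m : S)) := by group

end se

end Cfsg.Agent.Lib.Helper3
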