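import Mathlib
import Cfsg.Prelude.Def_Transfer
import Cfsg.Prelude.Def_ConjugacyFunctors
import Cfsg.Prelude.Def_CaseTheorems
import Cfsg.Agent.Lib.Helper3.NPC
import Cfsg.Agent.Lib.Helper3.Sections
import Cfsg.Agent.Lib.Helper3.CharFunctor
import Cfsg.Agent.Lib.Helper3.TransferRed
import Cfsg.Agent.Lib.Helper3.CtrlFusion
import Cfsg.Agent.Lib.Helper3.WeakCl
import Cfsg.Agent.Lib.Helper2.PComp

set_option autoImplicit false

namespace Cfsg.Agent.Lib.Helper3

open Cfsg

universe u

/-- If `O_{p'}(X) = 1`, `Q ≤ L` are normal in `X`, `Q` is a `p`-group containing all `p`-elements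
of `L`, then `C_L(Q) ≤ Q`. -/
theorem inf_centralizer_le_of_pPrimeCore_eq_bot {p : ℕ} [Fact p.Prime] {X : Type*} [Group X]
    [Finite X] (hK : Cfsg.pPrimeCore p X = ⊥) (Q L : Subgroup X) [hQn : Q.Normal] [hLn : L.Normal]
    (hQp : IsPGroup p ↥Q) (hL : ∀ x ∈ L, ∀ k : ℕ, x ^ p ^ k = 1 → x ∈ Q) :
    L ⊓ Subgroup.centralizer (Q : Set X) ≤ Q := by
  obtain ⟨C, hC⟩ : ∃ C, C = L ⊓ Subgroup.centralizer (Q : Set X) := ⟨_, rfl⟩
  rw [← hC]
  have hcn : (Subgroup.centralizer (Q : Set X)).Normal := Subgroup.normal_centralizer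
  have hCn : C.Normal := by rw [hC]; exact Subgroup.normal_inf_normal _ _
  have hCle : C ≤ L ⊓ Subgroup.centralizer (Q : Set X) := le_of_eq hC
  have hcs := central_sylow_pPrimeCore (Q.subgroupOf C) (IsPGroup.comap_subtype hQp) ?_ ?_
  rotate_left
  · intro z hz
    rw [Subgroup.mem_center_iff]
    intro c
    apply Subtype.ext
    have hzQ : (z : X) ∈ Q := hz
    have hc : (c : X) ∈ Subgroup.centralizer (Q : Set X) := (hCle c.2).2
    exact ((Subgroup.mem_centralizer_iff.mp hc) _ hzQ).symm
  · intro T hT hZT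
    apply le_antisymm _ hZT
    intro t ht
    rw [Subgroup.mem_subgroupOf]
    obtain ⟨k, hk⟩ := hT ⟨t, ht⟩
    have hk' : (t : X) ^ p ^ k = 1 := by
      have h1 := congrArg Subtype.val (congrArg Subtype.val hk)
      simpa using h1
    have htL : (t : X) ∈ L := (hCle t.2).1
    exact hL _ htL k hk'
  obtain ⟨-, hsup⟩ := hcs
  have hbot : Cfsg.pPrimeCore p ↥C = ⊥ := by
    have hchar := Cfsg.Agent.Lib.Helper2.pPrimeCore_characteristic' p ↥C
    have hnorm : ((Cfsg.pPrimeCore p ↥C).map C.subtype).Normal :=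
      ConjAct.normal_of_characteristic_of_normal
    have hcop : (Nat.card ↥((Cfsg.pPrimeCore p ↥C).map C.subtype)).Coprime p := by
      rw [Subgroup.card_map_of_injective C.subtype_injective]
      exact pPrimeCore_coprime Fact.out ↥C
    have h2 : (Cfsg.pPrimeCore p ↥C).map C.subtype ≤ Cfsg.pPrimeCore p X :=
      le_pPrimeCore hnorm hcop
    rw [hK] at h2
    exact (Subgroup.map_eq_bot_iff_of_injective _ C.subtype_injective).mp (le_bot_iff.mp h2)
  rw [hbot, bot_sup_eq] at hsup
  intro c hc
  have h3 : (⟨c, hc⟩ : ↥C) ∈ Q.subgroupOf C := by rw [hsup]; exact Subgroup.mem_top _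
  exact h3

/-- The local hypothesis of the Thompson reduction on a group `Y`. -/
def ThLoc (p : ℕ) (W : ∀ (Q : Type u) [Group Q], Subgroup Q) (Y : Type u) [Group Y] : Prop :=
  Constrained p Y → Cfsg.HasNormalPComplement p (Y ⧸ Cfsg.pCore p Y) →
    ∀ T : Subgroup Y, IsPGroup p ↥T → ¬ p ∣ T.index → IsCoatom T →
      (Cfsg.inducedFunctor W T).Normal

theorem ThLoc.of_equiv {p : ℕ} [Fact p.Prime] {W : ∀ (Q : Type u) [Group Q], Subgroup Q}
    (hW : Cfsg.IsCharPFunctor.{u} p W) {Y Y' : Type u} [Group Y] [Group Y'] [Finite Y]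
    (e : Y ≃* Y') (h : ThLoc p W Y') : ThLoc p W Y := by
  intro hcon hq T hTp hTidx hTco
  have : Finite Y' := Finite.of_equiv Y e.toEquiv
  have hcon' : Constrained p Y' := hcon.of_equiv e
  have hmap : (Cfsg.pCore p Y).map e.toMonoidHom = Cfsg.pCore p Y' :=
    Cfsg.Agent.Lib.Helper4.pCore_map_equiv e
  have hle : Cfsg.pCore p Y ≤ (Cfsg.pCore p Y').comap e.toMonoidHom :=
    Subgroup.map_le_iff_le_comap.mp (le_of_eq hmap)
  have hq' : Cfsg.HasNormalPComplement p (Y' ⧸ Cfsg.pCore p Y') := by
    refine npc_of_surjective (QuotientGroup.map (Cfsg.pCore p Y) (Cfsg.pCore p Y') e.toMonoidHom hle)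
      ?_ hq
    intro y'
    obtain ⟨y₀, rfl⟩ := QuotientGroup.mk_surjective y'
    refine ⟨QuotientGroup.mk (e.symm y₀), ?_⟩
    rw [QuotientGroup.map_mk]
    simp
  have hT'p : IsPGroup p ↥(T.map e.toMonoidHom) := hTp.map _
  have hT'idx : ¬ p ∣ (T.map e.toMonoidHom).index := by
    have h1 : (T.map e.toMonoidHom).index = T.index := Subgroup.index_map_equiv T e
    rw [h1]; exact hTidx
  have hT'co : IsCoatom (T.map e.toMonoidHom) := by
    have h1 := (OrderIso.isCoatom_iff (MulEquiv.mapSubgroup e) T).mpr hTco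
    rw [MulEquiv.mapSubgroup_apply] at h1
    exact h1
  have hn := h hcon' hq' _ hT'p hT'idx hT'co
  have h2 : (Cfsg.inducedFunctor W T).map e.toMonoidHom = Cfsg.inducedFunctor W (T.map e.toMonoidHom) :=
    map_inducedFunctor hW e.toMonoidHom T hTp
      (fun x _ hx => e.injective (by rw [map_one]; exact hx))
  rw [← h2] at hn
  have h3 := hn.comap e.toMonoidHom
  rw [Subgroup.comap_map_eq_self_of_injective e.injective] at h3
  exact h3

/-- Transfer of `p`-nilpotency of the normalizer of `W` of a Sylow subgroup to a subgroup. -/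
theorem npc_normalizer_subgroup {p : ℕ} [Fact p.Prime] {W : ∀ (Q : Type u) [Group Q], Subgroup Q}
    (hW : Cfsg.IsCharPFunctor.{u} p W) {X : Type u} [Group X] [Finite X] (M : Subgroup X)
    (P : Sylow p ↥M)
    (h : Cfsg.HasNormalPComplement p ↥(Subgroup.normalizer
      ((Cfsg.inducedFunctor W ((P : Subgroup ↥M).map M.subtype) : Subgroup X) : Set X))) :
    Cfsg.HasNormalPComplement p ↥(Subgroup.normalizer
      ((Cfsg.inducedFunctor W (P : Subgroup ↥M) : Subgroup ↥M) : Set ↥M)) := by
  have hW' : (Cfsg.inducedFunctor W (P : Subgroup ↥M)).map M.subtype =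
      Cfsg.inducedFunctor W ((P : Subgroup ↥M).map M.subtype) :=
    map_inducedFunctor hW M.subtype _ P.isPGroup'
      (fun x _ hx => M.subtype_injective (by rw [map_one]; exact hx))
  have hle : ∀ x : ↥(Subgroup.normalizer
      ((Cfsg.inducedFunctor W (P : Subgroup ↥M) : Subgroup ↥M) : Set ↥M)),
      (M.subtype.comp (Subgroup.subtype _)) x ∈ Subgroup.normalizer
        ((Cfsg.inducedFunctor W ((P : Subgroup ↥M).map M.subtype) : Subgroup X) : Set X) := by
    intro x
    rw [← hW']
    exact Subgroup.le_normalizer_map M.subtype ⟨x.1, x.2, rfl⟩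
  refine npc_of_injective ((M.subtype.comp (Subgroup.subtype _)).codRestrict _ hle) ?_ h
  intro a b hab
  have h0 := congrArg Subtype.val hab
  have h1 : ((a : ↥M) : X) = ((b : ↥M) : X) := h0
  exact Subtype.ext (Subtype.ext h1)

/-- **Thompson's reduction**: `p`-nilpotency follows from `p`-nilpotency of `N(W(T))` and the
local hypothesis `ThLoc` on all sections. -/
theorem thompson_reduction {p : ℕ} [Fact p.Prime] (W : ∀ (Q : Type u) [Group Q], Subgroup Q)
    (hW : Cfsg.IsCharPFunctor.{u} p W) :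
    ∀ (n : ℕ) (X : Type u) [Group X] [Finite X], Nat.card X ≤ n →
      (∀ (Y : Type u) [Group Y] [Finite Y], SecOf Y X → ThLoc p W Y) →
      ∀ T : Sylow p X, Cfsg.HasNormalPComplement p
        ↥(Subgroup.normalizer ((Cfsg.inducedFunctor W (T : Subgroup X) : Subgroup X) : Set X)) →
      Cfsg.HasNormalPComplement p X := by
  intro n
  induction n with
  | zero =>
    intro X _ _ hcard _
    have := Nat.card_pos (α := X)
    omega
  | succ n ih =>
    intro X _ _ hcard hL T hT
    by_contra hX
    have IH : ∀ (Y : Type u) [Group Y] [Finite Y], SecOf Y X → Nat.card Y < Nat.card X →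
        ∀ T' : Sylow p Y, Cfsg.HasNormalPComplement p
          ↥(Subgroup.normalizer ((Cfsg.inducedFunctor W (T' : Subgroup Y) : Subgroup Y) : Set Y)) →
        Cfsg.HasNormalPComplement p Y := by
      intro Y _ _ hsec hlt T' hT'
      exact ih Y (by omega) (fun Z _ _ hZ => hL Z (hZ.trans hsec)) T' hT'
    have hconj := isConjugacyFunctor_inducedFunctor hW X
    -- all Sylow subgroups satisfy the hypothesis
    have hC0 : ∀ T' : Sylow p X, Cfsg.HasNormalPComplement p
        ↥(Subgroup.normalizer ((Cfsg.inducedFunctor W (T' : Subgroup X) : Subgroup X) : Set X)) := by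
      intro T'
      obtain ⟨g, hg⟩ := MulAction.exists_smul_eq X T T'
      have h1 : (T' : Subgroup X) = (T : Subgroup X).map (MulAut.conj g).toMonoidHom := by
        rw [← hg, Sylow.coe_subgroup_smul]; rfl
      have h2 : Cfsg.inducedFunctor W (T' : Subgroup X) =
          (Cfsg.inducedFunctor W (T : Subgroup X)).map (MulAut.conj g).toMonoidHom := by
        rw [h1]; exact (hconj _ T.isPGroup').2.2 g
      have h3 := npc_map_conj _ g hT
      rw [Subgroup.map_equiv_normalizer_eq] at h3
      rw [h2]; exact h3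
    classical
    obtain ⟨μ, hμ⟩ : ∃ μ : Subgroup X → ℕ, μ = fun K : Subgroup X => (Nat.card ↥K).factorization p := ⟨_, rfl⟩
    have hμ_dvd : ∀ (K : Subgroup X) (k : ℕ), p ^ k ∣ Nat.card ↥K ↔ k ≤ μ K := by
      intro K k
      rw [hμ]
      exact Nat.Prime.pow_dvd_iff_le_factorization Fact.out (Nat.card_pos.ne')
    obtain ⟨𝓗, h𝓗⟩ : ∃ 𝓗 : Set (Subgroup X), 𝓗 = {H : Subgroup X | IsPGroup p ↥H ∧ H ≠ ⊥ ∧
        ¬ Cfsg.HasNormalPComplement p ↥(Subgroup.normalizer (H : Set X))} := ⟨_, rfl⟩
    have hne : 𝓗.Nonempty := by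
      by_contra hemp
      apply hX
      rw [Cfsg.Agent.Lib.Lead.frobenius_local]
      intro Q hQ hQne
      by_contra h
      apply hemp
      refine ⟨Q, ?_⟩
      rw [h𝓗]
      exact ⟨hQ, hQne, h⟩
    obtain ⟨m, hm⟩ : ∃ m : Subgroup X → ℕ, m = fun H : Subgroup X =>
        μ (Subgroup.normalizer (H : Set X)) * (Nat.card X + 1) + Nat.card ↥H := ⟨_, rfl⟩
    obtain ⟨H, hHmem⟩ := (Set.toFinite 𝓗).exists_maximalFor m 𝓗 hne
    have hH𝓗 : H ∈ 𝓗 := hHmem.1
    have hmax : ∀ H' ∈ 𝓗, m H' ≤ m H := by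
      intro H' hH'
      by_contra hlt
      push Not at hlt
      exact absurd (hHmem.2 hH' hlt.le) (not_le.mpr hlt)
    rw [h𝓗] at hH𝓗
    obtain ⟨hHp, hHne, hHbad⟩ := hH𝓗
    have hcardH : Nat.card ↥H ≤ Nat.card X := Subgroup.card_le_card_group H
    have hPa : ∀ H' : Subgroup X, IsPGroup p ↥H' → H' ≠ ⊥ →
        ¬ Cfsg.HasNormalPComplement p ↥(Subgroup.normalizer (H' : Set X)) →
        μ (Subgroup.normalizer (H' : Set X)) ≤ μ (Subgroup.normalizer (H : Set X)) := by
      intro H' h1 h2 h3
      have h4 := hmax H' (by rw [h𝓗]; exact ⟨h1, h2, h3⟩)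
      rw [hm] at h4
      by_contra hlt
      push Not at hlt
      have h5 : (μ (Subgroup.normalizer (H : Set X)) + 1) * (Nat.card X + 1) ≤
          μ (Subgroup.normalizer (H' : Set X)) * (Nat.card X + 1) :=
        Nat.mul_le_mul_right _ hlt
      simp only at h4
      nlinarith
    have hPb : ∀ H' : Subgroup X, IsPGroup p ↥H' → H' ≠ ⊥ →
        ¬ Cfsg.HasNormalPComplement p ↥(Subgroup.normalizer (H' : Set X)) →
        μ (Subgroup.normalizer (H : Set X)) ≤ μ (Subgroup.normalizer (H' : Set X)) →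
        Nat.card ↥H' ≤ Nat.card ↥H := by
      intro H' h1 h2 h3 hle
      have h4 := hmax H' (by rw [h𝓗]; exact ⟨h1, h2, h3⟩)
      rw [hm] at h4
      have h5 : μ (Subgroup.normalizer (H : Set X)) * (Nat.card X + 1) ≤
          μ (Subgroup.normalizer (H' : Set X)) * (Nat.card X + 1) :=
        Nat.mul_le_mul_right _ hle
      simp only at h4
      omega
    -- Step 2: `H` is normal
    have hNtop : Subgroup.normalizer (H : Set X) = ⊤ := by
      by_contra hNne
      obtain ⟨N, hNdef⟩ : ∃ N, N = Subgroup.normalizer (H : Set X) := ⟨_, rfl⟩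
      rw [← hNdef] at hNne hHbad hPa
      apply hHbad
      obtain ⟨P₁⟩ : Nonempty (Sylow p ↥N) := inferInstance
      obtain ⟨T₁, hT₁def⟩ : ∃ T₁, T₁ = (P₁ : Subgroup ↥N).map N.subtype := ⟨_, rfl⟩
      have hT₁p : IsPGroup p ↥T₁ := by rw [hT₁def]; exact P₁.isPGroup'.map _
      have hHN : H ≤ N := by rw [hNdef]; exact Subgroup.le_normalizer
      have hHT₁ : H ≤ T₁ := by
        have hn : (Subgroup.comap N.subtype H).Normal := by
          rw [hNdef]; exact Subgroup.normal_in_normalizer
        have h1 : H.subgroupOf N ≤ (P₁ : Subgroup ↥N) :=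
          (IsPGroup.comap_subtype hHp).le_sylow_of_normal P₁
        rw [hT₁def, ← Subgroup.map_subgroupOf_eq_of_le hHN]
        exact Subgroup.map_mono h1
      have hT₁ne : T₁ ≠ ⊥ := fun h => hHne (le_bot_iff.mp (h ▸ hHT₁))
      have hstar : Cfsg.HasNormalPComplement p
          ↥(Subgroup.normalizer ((Cfsg.inducedFunctor W T₁ : Subgroup X) : Set X)) := by
        by_contra hbad
        have hW₁p : IsPGroup p ↥(Cfsg.inducedFunctor W T₁) := hT₁p.to_le (inducedFunctor_le T₁)
        have hW₁ne : Cfsg.inducedFunctor W T₁ ≠ ⊥ := (hconj T₁ hT₁p).2.1 hT₁ne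
        have hPa' := hPa _ hW₁p hW₁ne hbad
        have hcardT₁ : Nat.card ↥T₁ = p ^ μ N := by
          rw [hT₁def, Subgroup.card_map_of_injective N.subtype_injective, hμ]
          exact P₁.card_eq_multiplicity
        have hidx : ¬ p ∣ T₁.index := by
          intro hdvd
          have h1 : p ^ (μ N + 1) ∣ Nat.card X := by
            rw [← T₁.card_mul_index, hcardT₁, pow_succ]
            exact mul_dvd_mul_left _ hdvd
          have h2 := Sylow.prime_pow_dvd_card_normalizer h1 hcardT₁
          have h3 : Subgroup.normalizer (T₁ : Set X) ≤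
              Subgroup.normalizer ((Cfsg.inducedFunctor W T₁ : Subgroup X) : Set X) :=
            normalizer_le_normalizer_functor _ hconj T₁ hT₁p
          have h4 := (hμ_dvd _ _).mp (dvd_trans h2 (Subgroup.card_dvd_of_le h3))
          omega
        have h5 := hC0 (hT₁p.toSylow hidx)
        rw [IsPGroup.toSylow_coe] at h5
        exact hbad h5
      rw [hT₁def] at hstar
      exact IH ↥N (SecOf.subgroup N) (card_subgroup_lt_of_ne_top N hNne) P₁
        (npc_normalizer_subgroup hW N P₁ hstar)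
    -- Step 3: `H = O_p(X)`
    have hμT : ∀ V : Subgroup X, (T : Subgroup X) ≤ V → μ (⊤ : Subgroup X) ≤ μ V := by
      intro V hTV
      apply (hμ_dvd V _).mp
      have h1 : Nat.card ↥(T : Subgroup X) = p ^ μ ⊤ := by
        rw [T.card_eq_multiplicity, hμ]
        simp
      rw [← h1]; exact Subgroup.card_dvd_of_le hTV
    have hP3 : ∀ V : Subgroup X, IsPGroup p ↥V → Nat.card ↥H < Nat.card ↥V →
        (T : Subgroup X) ≤ Subgroup.normalizer (V : Set X) →
        Cfsg.HasNormalPComplement p ↥(Subgroup.normalizer (V : Set X)) := by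
      intro V hVp hVcard hTV
      by_contra hbad
      have hVne : V ≠ ⊥ := by
        rintro rfl
        rw [Subgroup.card_bot] at hVcard
        have := Nat.card_pos (α := ↥H)
        omega
      have h1 := hPb V hVp hVne hbad (by rw [hNtop]; exact hμT _ hTV)
      omega
    obtain ⟨Q, hQdef⟩ : ∃ Q, Q = Cfsg.pCore p X := ⟨_, rfl⟩
    have hQn : Q.Normal := by rw [hQdef]; infer_instance
    have hQp : IsPGroup p ↥Q := by rw [hQdef]; exact Cfsg.Agent.Lib.Helper4.pCore_isPGroup p X
    have hHn : H.Normal := Subgroup.normalizer_eq_top_iff.mp hNtop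
    have hHQ : H ≤ Q := by rw [hQdef]; exact Cfsg.Agent.Lib.Helper4.le_pCore hHn hHp
    have hXtop : ¬ Cfsg.HasNormalPComplement p ↥(⊤ : Subgroup X) := fun h => hX (npc_top_iff.mp h)
    have hQH : Q = H := by
      by_contra hne
      have h1 := hP3 Q hQp (card_lt_of_le_of_ne hHQ (Ne.symm hne))
        (by rw [Subgroup.normalizer_eq_top]; exact le_top)
      rw [Subgroup.normalizer_eq_top] at h1
      exact hXtop h1
    rw [← hQH] at hP3 hHne
    have hQT : Q ≤ (T : Subgroup X) := by
      rw [hQdef]; exact Cfsg.Agent.Lib.Helper4.pCore_le_sylow T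
    -- Step 4: `X / Q` is `p`-nilpotent
    have hquot : Cfsg.HasNormalPComplement p (X ⧸ Q) := by
      by_cases hTQ : (T : Subgroup X) ≤ Q
      · apply npc_of_coprime
        have hTQ' : (T : Subgroup X) = Q := le_antisymm hTQ hQT
        rw [← Subgroup.index_eq_card, ← hTQ']
        exact ((Nat.Prime.coprime_iff_not_dvd Fact.out).mpr T.not_dvd_index).symm
      · have hπ : Function.Surjective (QuotientGroup.mk' Q) := QuotientGroup.mk'_surjective Q
        obtain ⟨Tb, hTb⟩ : ∃ Tb : Sylow p (X ⧸ Q), Tb = T.mapSurjective hπ := ⟨_, rfl⟩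
        have hTbc : (Tb : Subgroup (X ⧸ Q)) = (T : Subgroup X).map (QuotientGroup.mk' Q) := by
          rw [hTb]; exact Sylow.coe_mapSurjective hπ T
        have hconjb := isConjugacyFunctor_inducedFunctor hW (X ⧸ Q)
        obtain ⟨Wb, hWb⟩ : ∃ Wb, Wb = Cfsg.inducedFunctor W (Tb : Subgroup (X ⧸ Q)) := ⟨_, rfl⟩
        have hTbne : (Tb : Subgroup (X ⧸ Q)) ≠ ⊥ := by
          intro h
          rw [hTbc, Subgroup.map_eq_bot_iff, QuotientGroup.ker_mk'] at h
          exact hTQ h
        have hWbne : Wb ≠ ⊥ := by rw [hWb]; exact (hconjb _ Tb.isPGroup').2.1 hTbne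
        have hWble : Wb ≤ (Tb : Subgroup (X ⧸ Q)) := by rw [hWb]; exact inducedFunctor_le _
        obtain ⟨V, hV⟩ : ∃ V, V = Wb.comap (QuotientGroup.mk' Q) := ⟨_, rfl⟩
        have hVT : V ≤ (T : Subgroup X) := by
          rw [hV]
          intro x hx
          have h1 : (QuotientGroup.mk' Q) x ∈ (T : Subgroup X).map (QuotientGroup.mk' Q) := by
            rw [← hTbc]; exact hWble hx
          obtain ⟨t, ht, hte⟩ := h1
          have h2 : t⁻¹ * x ∈ Q := QuotientGroup.eq.mp hte
          have h3 : x = t * (t⁻¹ * x) := by group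
          rw [h3]; exact Subgroup.mul_mem _ ht (hQT h2)
        have hQV : Q ≤ V := by
          rw [hV]
          intro x hx
          rw [Subgroup.mem_comap]
          have h1 : (QuotientGroup.mk' Q) x = 1 := (QuotientGroup.eq_one_iff x).mpr hx
          rw [h1]; exact Subgroup.one_mem _
        have hVQ : V ≠ Q := by
          intro h
          apply hWbne
          have h1 : Wb = V.map (QuotientGroup.mk' Q) := by
            rw [hV, Subgroup.map_comap_eq_self_of_surjective hπ]
          rw [h1, h, Subgroup.map_eq_bot_iff, QuotientGroup.ker_mk']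
        have hnorm : Subgroup.normalizer (V : Set X) =
            (Subgroup.normalizer (Wb : Set (X ⧸ Q))).comap (QuotientGroup.mk' Q) := by
          rw [hV]; exact (Subgroup.comap_normalizer_eq_of_surjective Wb hπ).symm
        have hTV : (T : Subgroup X) ≤ Subgroup.normalizer (V : Set X) := by
          rw [hnorm]
          intro t ht
          rw [Subgroup.mem_comap]
          have h1 : (QuotientGroup.mk' Q) t ∈ (Tb : Subgroup (X ⧸ Q)) := by
            rw [hTbc]; exact Subgroup.mem_map_of_mem _ ht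
          rw [hWb]
          exact le_normalizer_inducedFunctor hW _ Tb.isPGroup' h1
        have h1 := hP3 V (T.isPGroup'.to_le hVT) (card_lt_of_le_of_ne hQV (Ne.symm hVQ)) hTV
        have h2 : (Subgroup.normalizer (V : Set X)).map (QuotientGroup.mk' Q) =
            Subgroup.normalizer (Wb : Set (X ⧸ Q)) := by
          rw [hnorm, Subgroup.map_comap_eq_self_of_surjective hπ]
        have h3 := npc_of_surjective ((QuotientGroup.mk' Q).subgroupMap
          (Subgroup.normalizer (V : Set X))) (MonoidHom.subgroupMap_surjective _ _) h1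
        have h4 := npc_congr h2 h3
        rw [hWb] at h4
        exact IH (X ⧸ Q) (SecOf.quotient Q) (card_quotient_lt_of_ne_bot Q hHne) Tb h4
    -- Step 5: `O_{p'}(X) = 1`
    have hR : Cfsg.pPrimeCore p X = ⊥ := by
      by_contra hRne
      obtain ⟨R, hRdef⟩ : ∃ R, R = Cfsg.pPrimeCore p X := ⟨_, rfl⟩
      rw [← hRdef] at hRne
      have hRn : R.Normal := by rw [hRdef]; infer_instance
      have hRc : (Nat.card ↥R).Coprime p := by rw [hRdef]; exact pPrimeCore_coprime Fact.out X
      apply hX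
      apply npc_of_quotient_pPrime R hRc
      have hπ : Function.Surjective (QuotientGroup.mk' R) := QuotientGroup.mk'_surjective R
      obtain ⟨Tb, hTb⟩ : ∃ Tb : Sylow p (X ⧸ R), Tb = T.mapSurjective hπ := ⟨_, rfl⟩
      have hTbc : (Tb : Subgroup (X ⧸ R)) = (T : Subgroup X).map (QuotientGroup.mk' R) := by
        rw [hTb]; exact Sylow.coe_mapSurjective hπ T
      have hTR : (T : Subgroup X) ⊓ R = ⊥ := disjoint_of_isPGroup_of_coprime _ R T.isPGroup' hRc
      have hinj : ∀ x ∈ (T : Subgroup X), (QuotientGroup.mk' R) x = 1 → x = 1 := by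
        intro x hx hx1
        have h1 : x ∈ (T : Subgroup X) ⊓ R := ⟨hx, (QuotientGroup.eq_one_iff x).mp hx1⟩
        rw [hTR] at h1
        exact Subgroup.mem_bot.mp h1
      have hWmap : (Cfsg.inducedFunctor W (T : Subgroup X)).map (QuotientGroup.mk' R) =
          Cfsg.inducedFunctor W (Tb : Subgroup (X ⧸ R)) := by
        rw [hTbc]; exact map_inducedFunctor hW _ _ T.isPGroup' hinj
      have h2 : (Subgroup.normalizer
          ((Cfsg.inducedFunctor W (T : Subgroup X) : Subgroup X) : Set X)).map (QuotientGroup.mk' R) =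
          Subgroup.normalizer ((Cfsg.inducedFunctor W (Tb : Subgroup (X ⧸ R)) :
            Subgroup (X ⧸ R)) : Set (X ⧸ R)) := by
        rw [← hWmap]
        apply le_antisymm (Subgroup.le_normalizer_map _)
        exact normalizer_map_mk_le R hRc _ (T.isPGroup'.to_le (inducedFunctor_le _))
      have h3 := npc_of_surjective ((QuotientGroup.mk' R).subgroupMap _)
        (MonoidHom.subgroupMap_surjective _ _) hT
      have h4 := npc_congr h2 h3
      exact IH (X ⧸ R) (SecOf.quotient R) (card_quotient_lt_of_ne_bot R hRne) Tb h4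
    -- Step 6: `C_X(Q) ≤ Q`
    have hCQ : Subgroup.centralizer (Q : Set X) ≤ Q := by
      obtain ⟨Nb, hNbn, hNbc, hNbpow, -⟩ := npc_exists hquot
      obtain ⟨L, hLdef⟩ : ∃ L, L = Nb.comap (QuotientGroup.mk' Q) := ⟨_, rfl⟩
      have hLn : L.Normal := by rw [hLdef]; exact hNbn.comap _
      have hLp : ∀ x ∈ L, ∀ k : ℕ, x ^ p ^ k = 1 → x ∈ Q := by
        intro x hx k hk
        rw [hLdef, Subgroup.mem_comap] at hx
        have h1 : (QuotientGroup.mk' Q x) ^ p ^ k = 1 := by rw [← map_pow, hk, map_one]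
        have h2 : (orderOf (QuotientGroup.mk' Q x)).Coprime p := by
          have h3 : orderOf (⟨_, hx⟩ : ↥Nb) ∣ Nat.card ↥Nb := orderOf_dvd_natCard _
          rw [Subgroup.orderOf_mk] at h3
          exact Nat.Coprime.coprime_dvd_left h3 hNbc
        have h4 := eq_one_of_pow_prime_pow_of_coprime _ h2 k h1
        exact (QuotientGroup.eq_one_iff x).mp h4
      have h5 := inf_centralizer_le_of_pPrimeCore_eq_bot hR Q L hQp hLp
      have hCn : (Subgroup.centralizer (Q : Set X)).Normal := Subgroup.normal_centralizer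
      have hCp : IsPGroup p ↥(Subgroup.centralizer (Q : Set X)) := by
        intro c
        obtain ⟨k, hk⟩ := hNbpow (QuotientGroup.mk' Q (c : X))
        have h6 : (c : X) ^ p ^ k ∈ L ⊓ Subgroup.centralizer (Q : Set X) := by
          refine Subgroup.mem_inf.mpr ⟨?_, Subgroup.pow_mem _ c.2 _⟩
          rw [hLdef, Subgroup.mem_comap, map_pow]; exact hk
        obtain ⟨j, hj⟩ := hQp ⟨_, h5 h6⟩
        refine ⟨k + j, ?_⟩
        apply Subtype.ext
        have hj' : ((c : X) ^ p ^ k) ^ p ^ j = 1 := congrArg Subtype.val hj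
        rw [Subgroup.coe_pow, Subgroup.coe_one, pow_add, pow_mul]; exact hj'
      have h7 : Subgroup.centralizer (Q : Set X) ≤ Cfsg.pCore p X :=
        Cfsg.Agent.Lib.Helper4.le_pCore hCn hCp
      rw [← hQdef] at h7
      exact h7
    -- Step 7: `T` is a maximal subgroup
    have hTco : IsCoatom (T : Subgroup X) := by
      refine ⟨?_, ?_⟩
      · intro htop
        apply hX
        apply npc_of_isPGroup
        intro g
        obtain ⟨k, hk⟩ := T.isPGroup' ⟨g, by rw [htop]; exact Subgroup.mem_top g⟩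
        exact ⟨k, congrArg Subtype.val hk⟩
      · intro M hTM
        by_contra hMtop
        have hlt : Nat.card ↥M < Nat.card X := card_subgroup_lt_of_ne_top M hMtop
        have hTle : (T : Subgroup X) ≤ M := hTM.le
        have hT'p : IsPGroup p ↥((T : Subgroup X).subgroupOf M) :=
          IsPGroup.comap_subtype T.isPGroup'
        have hT'idx : ¬ p ∣ ((T : Subgroup X).subgroupOf M).index := by
          intro hdvd
          exact T.not_dvd_index (dvd_trans hdvd (Subgroup.relIndex_dvd_index_of_le hTle))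
        obtain ⟨T', hT'⟩ : ∃ T' : Sylow p ↥M, (T' : Subgroup ↥M) = (T : Subgroup X).subgroupOf M :=
          ⟨hT'p.toSylow hT'idx, IsPGroup.toSylow_coe hT'p hT'idx⟩
        have hmapT' : (T' : Subgroup ↥M).map M.subtype = (T : Subgroup X) := by
          rw [hT', Subgroup.map_subgroupOf_eq_of_le hTle]
        have hT2 := hT
        rw [← hmapT'] at hT2
        have hM := IH ↥M (SecOf.subgroup M) hlt T' (npc_normalizer_subgroup hW M T' hT2)
        have hMp := isPGroup_of_npc_of_centralizer_le M Q (hQT.trans hTle) hQp hCQ hM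
        have h1 := T.is_maximal' hMp hTle
        exact hTM.ne h1.symm
    -- Step 8: conclusion
    have hloc := hL X (SecOf.refl X)
    subst hQdef
    have hWn := hloc hCQ hquot (T : Subgroup X) T.isPGroup' T.not_dvd_index hTco
    rw [Subgroup.normalizer_eq_top_iff.mpr hWn] at hT
    exact hXtop hT

end Cfsg.Agent.Lib.Helper3
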