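import Mathlib
import Cfsg.Agent.Lib.Helper3.ThompsonRed

set_option autoImplicit false

namespace Cfsg.Agent.Lib.Helper3

open Cfsg

universe u

/-- Abstract closure properties of a hypothesis `Hyp X T` (on a finite group `X` with Sylow
`p`-subgroup `T`) under which Thompson's reduction to special groups goes through. -/
structure ThHyp (p : ℕ) [Fact p.Prime] (Hyp : ∀ (X : Type u) [Group X], Subgroup X → Prop) :
    Prop where
  conj : ∀ (X : Type u) [Group X] [Finite X] (T : Sylow p X) (g : X),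
    Hyp X (T : Subgroup X) → Hyp X ((T : Subgroup X).map (MulAut.conj g).toMonoidHom)
  sub : ∀ (X : Type u) [Group X] [Finite X] (T : Sylow p X) (N : Subgroup X) (P₁ : Sylow p ↥N),
    (P₁ : Subgroup ↥N).map N.subtype ≤ (T : Subgroup X) →
    (T : Subgroup X) ⊓ Subgroup.centralizer ((T : Subgroup X) : Set X)
      ≤ (P₁ : Subgroup ↥N).map N.subtype →
    Hyp X (T : Subgroup X) →
    ((P₁ : Subgroup ↥N).map N.subtype ≠ (T : Subgroup X) →
      ∀ V : Subgroup X, V ≠ ⊥ → V ≤ (P₁ : Subgroup ↥N).map N.subtype →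
        (T : Subgroup X) ⊓ Subgroup.normalizer
          ((((P₁ : Subgroup ↥N).map N.subtype : Subgroup X)) : Set X)
          ≤ Subgroup.normalizer (V : Set X) →
        Cfsg.HasNormalPComplement p ↥(Subgroup.normalizer (V : Set X))) →
    Hyp ↥N (P₁ : Subgroup ↥N)
  quotP : ∀ (X : Type u) [Group X] [Finite X] (T : Sylow p X),
    Hyp X (T : Subgroup X) →
    (∀ V : Subgroup X, Cfsg.pCore p X < V → V ≤ (T : Subgroup X) →
      (T : Subgroup X) ≤ Subgroup.normalizer (V : Set X) →
      Cfsg.HasNormalPComplement p ↥(Subgroup.normalizer (V : Set X))) →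
    Hyp (X ⧸ Cfsg.pCore p X) ((T : Subgroup X).map (QuotientGroup.mk' (Cfsg.pCore p X)))
  quotR : ∀ (X : Type u) [Group X] [Finite X] (T : Sylow p X) (R : Subgroup X) [R.Normal],
    (Nat.card ↥R).Coprime p → Hyp X (T : Subgroup X) →
    Hyp (X ⧸ R) ((T : Subgroup X).map (QuotientGroup.mk' R))
  fin : ∀ (X : Type u) [Group X] [Finite X] (T : Sylow p X),
    Constrained p X → Cfsg.HasNormalPComplement p (X ⧸ Cfsg.pCore p X) →
    IsCoatom (T : Subgroup X) → Hyp X (T : Subgroup X) → Cfsg.HasNormalPComplement p X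

/-- **Thompson's reduction**, abstract form. -/
theorem thompson_reduction_abs {p : ℕ} [Fact p.Prime]
    (Hyp : ∀ (X : Type u) [Group X], Subgroup X → Prop) (hH : ThHyp p Hyp) :
    ∀ (n : ℕ) (X : Type u) [Group X] [Finite X], Nat.card X ≤ n →
      ∀ T : Sylow p X, Hyp X (T : Subgroup X) → Cfsg.HasNormalPComplement p X := by
  intro n
  induction n with
  | zero =>
    intro X _ _ hcard _
    have := Nat.card_pos (α := X)
    omega
  | succ n ih =>
    intro X _ _ hcard T hT
    by_contra hX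
    have IH : ∀ (Y : Type u) [Group Y] [Finite Y], Nat.card Y < Nat.card X →
        ∀ T' : Sylow p Y, Hyp Y (T' : Subgroup Y) → Cfsg.HasNormalPComplement p Y := by
      intro Y _ _ hlt T' hT'
      exact ih Y (by omega) T' hT'
    -- all Sylow subgroups satisfy the hypothesis
    have hC0 : ∀ T' : Sylow p X, Hyp X (T' : Subgroup X) := by
      intro T'
      obtain ⟨g, hg⟩ := MulAction.exists_smul_eq X T T'
      have h1 : (T' : Subgroup X) = (T : Subgroup X).map (MulAut.conj g).toMonoidHom := by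
        rw [← hg, Sylow.coe_subgroup_smul]; rfl
      rw [h1]; exact hH.conj X T g hT
    classical
    obtain ⟨μ, hμ⟩ : ∃ μ : Subgroup X → ℕ, μ = fun K : Subgroup X => (Nat.card ↥K).factorization p := ⟨_, rfl⟩
    have hμ_dvd : ∀ (K : Subgroup X) (k : ℕ), p ^ k ∣ Nat.card ↥K ↔ k ≤ μ K := by
      intro K k
      rw [hμ]
      exact Nat.Prime.pow_dvd_iff_le_factorization Fact.out (Nat.card_pos.ne')
    obtain ⟨𝓗, h𝓗⟩ : ∃ 𝓗 : Set (Subgroup X), 𝓗 = {H : Subgroup X | IsPGroup p ↥H ∧ H ≠ ⊥ ∧
        ¬ Cfsg.HasNormalPComplement p ↥(Subgroup.normalizer (H : Set X))} := ⟨_, rfl⟩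
    have hne : 𝓗.Nonempty := by
      by_contra hemp
      apply hX
      rw [Cfsg.Agent.Lib.Lead.frobenius_local]
      intro Q hQ hQne
      by_contra h
      apply hemp
      refine ⟨Q, ?_⟩
      rw [h𝓗]
      exact ⟨hQ, hQne, h⟩
    obtain ⟨m, hm⟩ : ∃ m : Subgroup X → ℕ, m = fun H : Subgroup X =>
        μ (Subgroup.normalizer (H : Set X)) * (Nat.card X + 1) + Nat.card ↥H := ⟨_, rfl⟩
    obtain ⟨H, hHmem⟩ := (Set.toFinite 𝓗).exists_maximalFor m 𝓗 hne
    have hH𝓗 : H ∈ 𝓗 := hHmem.1
    have hmax : ∀ H' ∈ 𝓗, m H' ≤ m H := by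
      intro H' hH'
      by_contra hlt
      push Not at hlt
      exact absurd (hHmem.2 hH' hlt.le) (not_le.mpr hlt)
    rw [h𝓗] at hH𝓗
    obtain ⟨hHp, hHne, hHbad⟩ := hH𝓗
    have hcardH : Nat.card ↥H ≤ Nat.card X := Subgroup.card_le_card_group H
    have hPa : ∀ H' : Subgroup X, IsPGroup p ↥H' → H' ≠ ⊥ →
        ¬ Cfsg.HasNormalPComplement p ↥(Subgroup.normalizer (H' : Set X)) →
        μ (Subgroup.normalizer (H' : Set X)) ≤ μ (Subgroup.normalizer (H : Set X)) := by
      intro H' h1 h2 h3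
      have h4 := hmax H' (by rw [h𝓗]; exact ⟨h1, h2, h3⟩)
      rw [hm] at h4
      by_contra hlt
      push Not at hlt
      have h5 : (μ (Subgroup.normalizer (H : Set X)) + 1) * (Nat.card X + 1) ≤
          μ (Subgroup.normalizer (H' : Set X)) * (Nat.card X + 1) :=
        Nat.mul_le_mul_right _ hlt
      simp only at h4
      nlinarith
    have hPb : ∀ H' : Subgroup X, IsPGroup p ↥H' → H' ≠ ⊥ →
        ¬ Cfsg.HasNormalPComplement p ↥(Subgroup.normalizer (H' : Set X)) →
        μ (Subgroup.normalizer (H : Set X)) ≤ μ (Subgroup.normalizer (H' : Set X)) →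
        Nat.card ↥H' ≤ Nat.card ↥H := by
      intro H' h1 h2 h3 hle
      have h4 := hmax H' (by rw [h𝓗]; exact ⟨h1, h2, h3⟩)
      rw [hm] at h4
      have h5 : μ (Subgroup.normalizer (H : Set X)) * (Nat.card X + 1) ≤
          μ (Subgroup.normalizer (H' : Set X)) * (Nat.card X + 1) :=
        Nat.mul_le_mul_right _ hle
      simp only at h4
      omega
    -- Step 2: `H` is normal
    have hNtop : Subgroup.normalizer (H : Set X) = ⊤ := by
      by_contra hNne
      obtain ⟨N, hNdef⟩ : ∃ N, N = Subgroup.normalizer (H : Set X) := ⟨_, rfl⟩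
      rw [← hNdef] at hNne hHbad hPa
      apply hHbad
      obtain ⟨P₁⟩ : Nonempty (Sylow p ↥N) := inferInstance
      obtain ⟨T₁, hT₁def⟩ : ∃ T₁, T₁ = (P₁ : Subgroup ↥N).map N.subtype := ⟨_, rfl⟩
      have hT₁p : IsPGroup p ↥T₁ := by rw [hT₁def]; exact P₁.isPGroup'.map _
      have hHN : H ≤ N := by rw [hNdef]; exact Subgroup.le_normalizer
      have hHT₁ : H ≤ T₁ := by
        have hn : (Subgroup.comap N.subtype H).Normal := by
          rw [hNdef]; exact Subgroup.normal_in_normalizer
        have h1 : H.subgroupOf N ≤ (P₁ : Subgroup ↥N) :=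
          (IsPGroup.comap_subtype hHp).le_sylow_of_normal P₁
        rw [hT₁def, ← Subgroup.map_subgroupOf_eq_of_le hHN]
        exact Subgroup.map_mono h1
      have hT₁N : T₁ ≤ N := by rw [hT₁def]; exact Subgroup.map_subtype_le _
      obtain ⟨T', hT'⟩ := hT₁p.exists_le_sylow
      have hcardT₁ : Nat.card ↥T₁ = p ^ μ N := by
        rw [hT₁def, Subgroup.card_map_of_injective N.subtype_injective, hμ]
        exact P₁.card_eq_multiplicity
      -- `T' ⊓ N = T₁`
      have hTN : (T' : Subgroup X) ⊓ N ≤ T₁ := by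
        have hp' : IsPGroup p ↥(((T' : Subgroup X) ⊓ N).subgroupOf N) :=
          IsPGroup.comap_subtype (T'.isPGroup'.to_le inf_le_left)
        have hle : (P₁ : Subgroup ↥N) ≤ ((T' : Subgroup X) ⊓ N).subgroupOf N := by
          intro x hx
          rw [Subgroup.mem_subgroupOf]
          refine Subgroup.mem_inf.mpr ⟨hT' ?_, x.2⟩
          rw [hT₁def]; exact ⟨x, hx, rfl⟩
        have heq := P₁.is_maximal' hp' hle
        intro z hz
        rw [hT₁def]
        refine ⟨⟨z, (Subgroup.mem_inf.mp hz).2⟩, ?_, rfl⟩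
        rw [SetLike.mem_coe, ← heq, Subgroup.mem_subgroupOf]
        exact hz
      have hZ : (T' : Subgroup X) ⊓ Subgroup.centralizer ((T' : Subgroup X) : Set X) ≤ T₁ := by
        intro z hz
        obtain ⟨hz1, hz2⟩ := Subgroup.mem_inf.mp hz
        apply hTN
        refine Subgroup.mem_inf.mpr ⟨hz1, ?_⟩
        rw [hNdef, Subgroup.mem_normalizer_iff]
        intro h
        have hcomm : ∀ y ∈ H, z * y * z⁻¹ = y := by
          intro y hy
          have := hz2 y (hT' (hHT₁ hy))
          rw [← this]; group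
        constructor
        · intro hh; rw [hcomm h hh]; exact hh
        · intro hh
          have h4 := hcomm (z * h * z⁻¹) hh
          have h5 : h = z * h * z⁻¹ := by
            calc h = z⁻¹ * (z * h * z⁻¹) * z := by group
              _ = z⁻¹ * (z * (z * h * z⁻¹) * z⁻¹) * z := by rw [h4]
              _ = z * h * z⁻¹ := by group
          rw [h5]; exact hh
      have hthird : T₁ ≠ (T' : Subgroup X) → ∀ V : Subgroup X, V ≠ ⊥ → V ≤ T₁ →
          (T' : Subgroup X) ⊓ Subgroup.normalizer (T₁ : Set X) ≤ Subgroup.normalizer (V : Set X) →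
          Cfsg.HasNormalPComplement p ↥(Subgroup.normalizer (V : Set X)) := by
        intro hne' V hVne hVT₁ hVn
        by_contra hbad
        have hPa' := hPa V (hT₁p.to_le hVT₁) hVne hbad
        have h1 := card_lt_card_normalizer_inf T'.isPGroup' T₁ hT' hne'
        have hp2 : IsPGroup p ↥((T' : Subgroup X) ⊓ Subgroup.normalizer (T₁ : Set X)) :=
          T'.isPGroup'.to_le inf_le_left
        obtain ⟨k, hk⟩ := IsPGroup.iff_card.mp hp2
        rw [hk, hcardT₁] at h1
        have h2 : μ N < k := (Nat.pow_lt_pow_iff_right (Fact.out : p.Prime).one_lt).mp h1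
        have h3 : p ^ (μ N + 1) ∣ Nat.card ↥(Subgroup.normalizer (V : Set X)) := by
          refine dvd_trans ?_ (Subgroup.card_dvd_of_le hVn)
          rw [hk]
          exact pow_dvd_pow p h2
        have h4 := (hμ_dvd _ _).mp h3
        omega
      rw [hT₁def] at hT' hZ hthird
      have hsub := hH.sub X T' N P₁ hT' hZ (hC0 T') hthird
      exact IH ↥N (card_subgroup_lt_of_ne_top N hNne) P₁ hsub
    -- Step 3: `H = O_p(X)`
    have hμT : ∀ V : Subgroup X, (T : Subgroup X) ≤ V → μ (⊤ : Subgroup X) ≤ μ V := by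
      intro V hTV
      apply (hμ_dvd V _).mp
      have h1 : Nat.card ↥(T : Subgroup X) = p ^ μ ⊤ := by
        rw [T.card_eq_multiplicity, hμ]
        simp
      rw [← h1]; exact Subgroup.card_dvd_of_le hTV
    have hP3 : ∀ V : Subgroup X, IsPGroup p ↥V → Nat.card ↥H < Nat.card ↥V →
        (T : Subgroup X) ≤ Subgroup.normalizer (V : Set X) →
        Cfsg.HasNormalPComplement p ↥(Subgroup.normalizer (V : Set X)) := by
      intro V hVp hVcard hTV
      by_contra hbad
      have hVne : V ≠ ⊥ := by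
        rintro rfl
        rw [Subgroup.card_bot] at hVcard
        have := Nat.card_pos (α := ↥H)
        omega
      have h1 := hPb V hVp hVne hbad (by rw [hNtop]; exact hμT _ hTV)
      omega
    obtain ⟨Q, hQdef⟩ : ∃ Q, Q = Cfsg.pCore p X := ⟨_, rfl⟩
    have hQn : Q.Normal := by rw [hQdef]; infer_instance
    have hQp : IsPGroup p ↥Q := by rw [hQdef]; exact Cfsg.Agent.Lib.Helper4.pCore_isPGroup p X
    have hHn : H.Normal := Subgroup.normalizer_eq_top_iff.mp hNtop
    have hHQ : H ≤ Q := by rw [hQdef]; exact Cfsg.Agent.Lib.Helper4.le_pCore hHn hHp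
    have hXtop : ¬ Cfsg.HasNormalPComplement p ↥(⊤ : Subgroup X) := fun h => hX (npc_top_iff.mp h)
    have hQH : Q = H := by
      by_contra hne
      have h1 := hP3 Q hQp (card_lt_of_le_of_ne hHQ (Ne.symm hne))
        (by rw [Subgroup.normalizer_eq_top]; exact le_top)
      rw [Subgroup.normalizer_eq_top] at h1
      exact hXtop h1
    rw [← hQH] at hP3 hHne
    have hQT : Q ≤ (T : Subgroup X) := by
      rw [hQdef]; exact Cfsg.Agent.Lib.Helper4.pCore_le_sylow T
    subst hQdef
    -- Step 4: `X / Q` is `p`-nilpotent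
    have hquot : Cfsg.HasNormalPComplement p (X ⧸ Cfsg.pCore p X) := by
      have hπ : Function.Surjective (QuotientGroup.mk' (Cfsg.pCore p X)) :=
        QuotientGroup.mk'_surjective _
      obtain ⟨Tb, hTb⟩ : ∃ Tb : Sylow p (X ⧸ Cfsg.pCore p X), Tb = T.mapSurjective hπ := ⟨_, rfl⟩
      have hTbc : (Tb : Subgroup (X ⧸ Cfsg.pCore p X))
          = (T : Subgroup X).map (QuotientGroup.mk' (Cfsg.pCore p X)) := by
        rw [hTb]; exact Sylow.coe_mapSurjective hπ T
      have h1 := hH.quotP X T hT (fun V hQV hVT hTV =>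
        hP3 V (T.isPGroup'.to_le hVT) (card_lt_of_le_of_ne hQV.le hQV.ne) hTV)
      rw [← hTbc] at h1
      exact IH (X ⧸ Cfsg.pCore p X) (card_quotient_lt_of_ne_bot _ hHne) Tb h1
    -- Step 5: `O_{p'}(X) = 1`
    have hR : Cfsg.pPrimeCore p X = ⊥ := by
      by_contra hRne
      obtain ⟨R, hRdef⟩ : ∃ R, R = Cfsg.pPrimeCore p X := ⟨_, rfl⟩
      rw [← hRdef] at hRne
      have hRn : R.Normal := by rw [hRdef]; infer_instance
      have hRc : (Nat.card ↥R).Coprime p := by rw [hRdef]; exact pPrimeCore_coprime Fact.out X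
      apply hX
      apply npc_of_quotient_pPrime R hRc
      have hπ : Function.Surjective (QuotientGroup.mk' R) := QuotientGroup.mk'_surjective R
      obtain ⟨Tb, hTb⟩ : ∃ Tb : Sylow p (X ⧸ R), Tb = T.mapSurjective hπ := ⟨_, rfl⟩
      have hTbc : (Tb : Subgroup (X ⧸ R)) = (T : Subgroup X).map (QuotientGroup.mk' R) := by
        rw [hTb]; exact Sylow.coe_mapSurjective hπ T
      have h1 := hH.quotR X T R hRc hT
      rw [← hTbc] at h1
      exact IH (X ⧸ R) (card_quotient_lt_of_ne_bot R hRne) Tb h1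
    -- Step 6: `C_X(Q) ≤ Q`
    have hCQ : Subgroup.centralizer (Cfsg.pCore p X : Set X) ≤ Cfsg.pCore p X := by
      obtain ⟨Nb, hNbn, hNbc, hNbpow, -⟩ := npc_exists hquot
      obtain ⟨L, hLdef⟩ : ∃ L, L = Nb.comap (QuotientGroup.mk' (Cfsg.pCore p X)) := ⟨_, rfl⟩
      have hLn : L.Normal := by rw [hLdef]; exact hNbn.comap _
      have hLp : ∀ x ∈ L, ∀ k : ℕ, x ^ p ^ k = 1 → x ∈ Cfsg.pCore p X := by
        intro x hx k hk
        rw [hLdef, Subgroup.mem_comap] at hx
        have h1 : (QuotientGroup.mk' (Cfsg.pCore p X) x) ^ p ^ k = 1 := by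
          rw [← map_pow, hk, map_one]
        have h2 : (orderOf (QuotientGroup.mk' (Cfsg.pCore p X) x)).Coprime p := by
          have h3 : orderOf (⟨_, hx⟩ : ↥Nb) ∣ Nat.card ↥Nb := orderOf_dvd_natCard _
          rw [Subgroup.orderOf_mk] at h3
          exact Nat.Coprime.coprime_dvd_left h3 hNbc
        have h4 := eq_one_of_pow_prime_pow_of_coprime _ h2 k h1
        exact (QuotientGroup.eq_one_iff x).mp h4
      have h5 := inf_centralizer_le_of_pPrimeCore_eq_bot hR (Cfsg.pCore p X) L hQp hLp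
      have hCn : (Subgroup.centralizer (Cfsg.pCore p X : Set X)).Normal :=
        Subgroup.normal_centralizer
      have hCp : IsPGroup p ↥(Subgroup.centralizer (Cfsg.pCore p X : Set X)) := by
        intro c
        obtain ⟨k, hk⟩ := hNbpow (QuotientGroup.mk' (Cfsg.pCore p X) (c : X))
        have h6 : (c : X) ^ p ^ k ∈ L ⊓ Subgroup.centralizer (Cfsg.pCore p X : Set X) := by
          refine Subgroup.mem_inf.mpr ⟨?_, Subgroup.pow_mem _ c.2 _⟩
          rw [hLdef, Subgroup.mem_comap, map_pow]; exact hk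
        obtain ⟨j, hj⟩ := hQp ⟨_, h5 h6⟩
        refine ⟨k + j, ?_⟩
        apply Subtype.ext
        have hj' : ((c : X) ^ p ^ k) ^ p ^ j = 1 := congrArg Subtype.val hj
        rw [Subgroup.coe_pow, Subgroup.coe_one, pow_add, pow_mul]; exact hj'
      exact Cfsg.Agent.Lib.Helper4.le_pCore hCn hCp
    -- Step 7: `T` is a maximal subgroup
    have hTco : IsCoatom (T : Subgroup X) := by
      refine ⟨?_, ?_⟩
      · intro htop
        apply hX
        apply npc_of_isPGroup
        intro g
        obtain ⟨k, hk⟩ := T.isPGroup' ⟨g, by rw [htop]; exact Subgroup.mem_top g⟩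
        exact ⟨k, congrArg Subtype.val hk⟩
      · intro M hTM
        by_contra hMtop
        have hlt : Nat.card ↥M < Nat.card X := card_subgroup_lt_of_ne_top M hMtop
        have hTle : (T : Subgroup X) ≤ M := hTM.le
        have hT'p : IsPGroup p ↥((T : Subgroup X).subgroupOf M) :=
          IsPGroup.comap_subtype T.isPGroup'
        have hT'idx : ¬ p ∣ ((T : Subgroup X).subgroupOf M).index := by
          intro hdvd
          exact T.not_dvd_index (dvd_trans hdvd (Subgroup.relIndex_dvd_index_of_le hTle))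
        obtain ⟨T', hT'⟩ : ∃ T' : Sylow p ↥M, (T' : Subgroup ↥M) = (T : Subgroup X).subgroupOf M :=
          ⟨hT'p.toSylow hT'idx, IsPGroup.toSylow_coe hT'p hT'idx⟩
        have hmapT' : (T' : Subgroup ↥M).map M.subtype = (T : Subgroup X) := by
          rw [hT', Subgroup.map_subgroupOf_eq_of_le hTle]
        have hsub := hH.sub X T M T' (le_of_eq hmapT') (by rw [hmapT']; exact inf_le_left) hT
          (fun hne => absurd hmapT' hne)
        have hM := IH ↥M hlt T' hsub
        have hMp := isPGroup_of_npc_of_centralizer_le M (Cfsg.pCore p X) (hQT.trans hTle) hQp hCQ hM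
        have h1 := T.is_maximal' hMp hTle
        exact hTM.ne h1.symm
    -- Step 8: conclusion
    exact hX (hH.fin X T hCQ hquot hTco hT)

end Cfsg.Agent.Lib.Helper3
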