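import Mathlib
import Cfsg.Agent.Lib.Helper3.ThompsonAbs
import Cfsg.Agent.Lib.Helper3.PGroup
import Cfsg.Prelude.Def_TwoFusion

set_option autoImplicit false

namespace Cfsg.Agent.Lib.Helper3

open Cfsg

universe u

section SCBasic

variable {X : Type*} [Group X]

theorem sc_conj_mem {D T : Subgroup X} (hD : Cfsg.IsStronglyClosed D T) {t x : X} (ht : t ∈ T)
    (hx : x ∈ D) : t * x * t⁻¹ ∈ D :=
  hD.2 x hx t (T.mul_mem (T.mul_mem ht (hD.1 hx)) (T.inv_mem ht))

theorem sc_le_normalizer {D T : Subgroup X} (hD : Cfsg.IsStronglyClosed D T) :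
    T ≤ Subgroup.normalizer (D : Set X) := by
  intro t ht
  rw [Subgroup.mem_normalizer_iff]
  intro x
  constructor
  · intro hx; exact sc_conj_mem hD ht hx
  · intro hx
    have h1 := sc_conj_mem hD (T.inv_mem ht) hx
    have h2 : t⁻¹ * (t * x * t⁻¹) * t⁻¹⁻¹ = x := by group
    rwa [h2] at h1

theorem mem_normalizer_inf {A B : Subgroup X} {g : X} (hA : g ∈ Subgroup.normalizer (A : Set X))
    (hB : g ∈ Subgroup.normalizer (B : Set X)) :
    g ∈ Subgroup.normalizer ((A ⊓ B : Subgroup X) : Set X) := by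
  rw [Subgroup.mem_normalizer_iff] at hA hB ⊢
  intro x
  constructor
  · intro hx
    exact Subgroup.mem_inf.mpr ⟨(hA x).mp (Subgroup.mem_inf.mp hx).1,
      (hB x).mp (Subgroup.mem_inf.mp hx).2⟩
  · intro hx
    exact Subgroup.mem_inf.mpr ⟨(hA x).mpr (Subgroup.mem_inf.mp hx).1,
      (hB x).mpr (Subgroup.mem_inf.mp hx).2⟩

/-- a nontrivial subgroup of a finite `p`-group `T` normalized by `T` meets `Z(T)` -/
theorem exists_ne_one_mem_center_of_normalized [Finite X] {p : ℕ} [Fact p.Prime]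
    {D T : Subgroup X} (hT : IsPGroup p ↥T) (hDT : D ≤ T)
    (hn : T ≤ Subgroup.normalizer (D : Set X)) (hD : D ≠ ⊥) :
    ∃ z ∈ D, z ≠ 1 ∧ z ∈ T ⊓ Subgroup.centralizer (T : Set X) := by
  have hnorm : (D.subgroupOf T).Normal := by
    constructor
    intro n hn' g
    rw [Subgroup.mem_subgroupOf] at hn' ⊢
    exact (Subgroup.mem_normalizer_iff.mp (hn g.2) n.1).mp hn'
  have hne : D.subgroupOf T ≠ ⊥ := by
    intro h
    apply hD
    rw [Subgroup.subgroupOf_eq_bot] at h
    have := h.eq_bot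
    rwa [inf_eq_left.mpr hDT] at this
  obtain ⟨z, hzD, hz1, hzc⟩ := exists_ne_one_mem_center_of_normal hT (D.subgroupOf T) hne
  refine ⟨z.1, Subgroup.mem_subgroupOf.mp hzD, fun h => hz1 (Subtype.ext h), ?_⟩
  refine Subgroup.mem_inf.mpr ⟨z.2, ?_⟩
  rw [Subgroup.mem_centralizer_iff]
  intro t ht
  have := Subgroup.mem_center_iff.mp hzc ⟨t, ht⟩
  exact congrArg Subtype.val this

/-- Sylow subgroups of a subgroup: `T ⊓ N = P₁` when `P₁ ≤ T`. -/
theorem sylow_inf_eq [Finite X] {p : ℕ} [Fact p.Prime] {T : Subgroup X} (hT : IsPGroup p ↥T)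
    (N : Subgroup X) (P₁ : Sylow p ↥N) (hle : (P₁ : Subgroup ↥N).map N.subtype ≤ T) :
    T ⊓ N = (P₁ : Subgroup ↥N).map N.subtype := by
  apply le_antisymm
  · have hp' : IsPGroup p ↥((T ⊓ N).subgroupOf N) := IsPGroup.comap_subtype (hT.to_le inf_le_left)
    have hle' : (P₁ : Subgroup ↥N) ≤ (T ⊓ N).subgroupOf N := by
      intro x hx
      rw [Subgroup.mem_subgroupOf]
      exact Subgroup.mem_inf.mpr ⟨hle ⟨x, hx, rfl⟩, x.2⟩
    have heq := P₁.is_maximal' hp' hle'
    intro z hz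
    refine ⟨⟨z, (Subgroup.mem_inf.mp hz).2⟩, ?_, rfl⟩
    rw [SetLike.mem_coe, ← heq, Subgroup.mem_subgroupOf]
    exact hz
  · exact le_inf hle (Subgroup.map_subtype_le _)

/-- modulo a normal `p'`-subgroup `R`, a `p`-element of `T R` is `R`-conjugate into `T`. -/
theorem exists_conj_mem_of_mk_mem [Finite X] {p : ℕ} [Fact p.Prime] (T : Subgroup X)
    (hT : IsPGroup p ↥T) (R : Subgroup X) [R.Normal] (hR : (Nat.card ↥R).Coprime p) {y : X}
    (hy : ∃ k : ℕ, y ^ p ^ k = 1)
    (hyT : (QuotientGroup.mk' R) y ∈ T.map (QuotientGroup.mk' R)) :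
    ∃ r ∈ R, r * y * r⁻¹ ∈ T := by
  have hTR : T ≤ Subgroup.normalizer (R : Set X) := by
    rw [Subgroup.normalizer_eq_top]; exact le_top
  have hidx : ¬ p ∣ T.relIndex (T ⊔ R) := not_dvd_relIndex_sup T R hTR hT hR
  obtain ⟨t, ht, hte⟩ := hyT
  have hyM : y ∈ T ⊔ R := by
    have h2 : t⁻¹ * y ∈ R := QuotientGroup.eq.mp hte
    have h3 : y = t * (t⁻¹ * y) := by group
    rw [h3]
    exact Subgroup.mul_mem _ (Subgroup.mem_sup_left ht) (Subgroup.mem_sup_right h2)
  have hyp : IsPGroup p ↥(Subgroup.zpowers y) := by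
    obtain ⟨k, hk⟩ := hy
    intro z
    obtain ⟨i, hi⟩ := Subgroup.mem_zpowers_iff.mp z.2
    refine ⟨k, Subtype.ext ?_⟩
    rw [Subgroup.coe_pow, ← hi, ← zpow_natCast, ← zpow_mul, mul_comm, zpow_mul, zpow_natCast, hk,
      one_zpow]
    rfl
  obtain ⟨n, hnM, hn⟩ := exists_conj_mem_of_relIndex T (T ⊔ R) (Subgroup.zpowers y) hT hidx hyp
    (by rw [Subgroup.zpowers_le]; exact hyM)
  obtain ⟨t₁, ht₁, r₁, hr₁, rfl⟩ := exists_mul_of_mem_sup_of_le_normalizer T R hTR hnM
  have h1 := hn y (Subgroup.mem_zpowers y)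
  refine ⟨r₁, hr₁, ?_⟩
  have h2 : r₁ * y * r₁⁻¹ = t₁⁻¹ * (t₁ * r₁ * y * (t₁ * r₁)⁻¹) * t₁ := by group
  rw [h2]
  exact T.mul_mem (T.mul_mem (T.inv_mem ht₁) h1) ht₁

end SCBasic

/-- hypothesis: some strongly closed `D` in `T` has `N(W(D))` `p`-nilpotent -/
def HypSC (p : ℕ) (W : ∀ (Q : Type u) [Group Q], Subgroup Q) (X : Type u) [Group X]
    (T : Subgroup X) : Prop :=
  ∃ D : Subgroup X, Cfsg.IsStronglyClosed D T ∧
    Cfsg.HasNormalPComplement p
      ↥(Subgroup.normalizer ((Cfsg.inducedFunctor W D : Subgroup X) : Set X))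

theorem inducedFunctor_bot (W : ∀ (Q : Type u) [Group Q], Subgroup Q) (X : Type u) [Group X] :
    Cfsg.inducedFunctor W (⊥ : Subgroup X) = ⊥ :=
  le_bot_iff.mp (inducedFunctor_le ⊥)

theorem hypSC_quotP {p : ℕ} [Fact p.Prime] (W : ∀ (Q : Type u) [Group Q], Subgroup Q)
    (hW : Cfsg.IsCharPFunctor.{u} p W) (X : Type u) [Group X] [Finite X] (T : Sylow p X)
    (Q : Subgroup X) [Q.Normal] (hQT : Q ≤ (T : Subgroup X))
    (hV : ∀ V : Subgroup X, Q < V → V ≤ (T : Subgroup X) →
      (T : Subgroup X) ≤ Subgroup.normalizer (V : Set X) →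
      Cfsg.HasNormalPComplement p ↥(Subgroup.normalizer (V : Set X)))
    (h : HypSC p W X (T : Subgroup X)) :
    HypSC p W (X ⧸ Q) ((T : Subgroup X).map (QuotientGroup.mk' Q)) := by
  obtain ⟨D, hD, hnpc⟩ := h
  have hQn : Q.Normal := inferInstance
  have hπ : Function.Surjective (QuotientGroup.mk' Q) := QuotientGroup.mk'_surjective Q
  have hconj := isConjugacyFunctor_inducedFunctor hW X
  have hconjb := isConjugacyFunctor_inducedFunctor hW (X ⧸ Q)
  have hDp : IsPGroup p ↥D := T.isPGroup'.to_le hD.1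
  have hmemT : ∀ x : X, (QuotientGroup.mk' Q) x ∈ (T : Subgroup X).map (QuotientGroup.mk' Q) →
      x ∈ (T : Subgroup X) := by
    intro x hx
    obtain ⟨t, ht, hte⟩ := hx
    have h2 : t⁻¹ * x ∈ Q := QuotientGroup.eq.mp hte
    have h3 : x = t * (t⁻¹ * x) := by group
    rw [h3]; exact Subgroup.mul_mem _ ht (hQT h2)
  have hDb : Cfsg.IsStronglyClosed (D.map (QuotientGroup.mk' Q))
      ((T : Subgroup X).map (QuotientGroup.mk' Q)) := by
    refine ⟨Subgroup.map_mono hD.1, ?_⟩
    rintro _ ⟨x, hx, rfl⟩ gb hgb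
    obtain ⟨g, rfl⟩ := hπ gb
    have h1 : (QuotientGroup.mk' Q) g * (QuotientGroup.mk' Q) x * ((QuotientGroup.mk' Q) g)⁻¹
        = (QuotientGroup.mk' Q) (g * x * g⁻¹) := by
      rw [map_mul, map_mul, map_inv]
    rw [h1] at hgb ⊢
    exact Subgroup.mem_map_of_mem _ (hD.2 x hx g (hmemT _ hgb))
  refine ⟨D.map (QuotientGroup.mk' Q), hDb, ?_⟩
  have hDbp : IsPGroup p ↥(D.map (QuotientGroup.mk' Q)) := hDp.map _
  by_cases hDQ : D ≤ Q
  · have hDn : Subgroup.normalizer (D : Set X) = ⊤ := by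
      rw [eq_top_iff]
      intro g _
      rw [Subgroup.mem_normalizer_iff]
      have hc : ∀ (g : X) (x : X), x ∈ D → g * x * g⁻¹ ∈ D := fun g x hx =>
        hD.2 x hx g (hQT (hQn.conj_mem x (hDQ hx) g))
      intro x
      constructor
      · exact hc g x
      · intro hx
        have h1 := hc g⁻¹ _ hx
        have h2 : g⁻¹ * (g * x * g⁻¹) * g⁻¹⁻¹ = x := by group
        rwa [h2] at h1
    have hWn : Subgroup.normalizer ((Cfsg.inducedFunctor W D : Subgroup X) : Set X) = ⊤ := by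
      rw [eq_top_iff, ← hDn]
      exact normalizer_le_normalizer_functor _ hconj D hDp
    rw [hWn] at hnpc
    have hX : Cfsg.HasNormalPComplement p X := npc_top_iff.mp hnpc
    have hXq : Cfsg.HasNormalPComplement p (X ⧸ Q) := npc_of_surjective _ hπ hX
    exact npc_of_injective (Subgroup.subtype _) (Subgroup.subtype_injective _) hXq
  · obtain ⟨Wb, hWb⟩ : ∃ Wb, Wb = Cfsg.inducedFunctor W (D.map (QuotientGroup.mk' Q)) :=
      ⟨_, rfl⟩
    rw [← hWb]
    have hDbne : D.map (QuotientGroup.mk' Q) ≠ ⊥ := by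
      intro h
      rw [Subgroup.map_eq_bot_iff, QuotientGroup.ker_mk'] at h
      exact hDQ h
    have hWbne : Wb ≠ ⊥ := by rw [hWb]; exact (hconjb _ hDbp).2.1 hDbne
    have hWble : Wb ≤ (T : Subgroup X).map (QuotientGroup.mk' Q) := by
      rw [hWb]; exact (inducedFunctor_le _).trans hDb.1
    obtain ⟨V, hVdef⟩ : ∃ V, V = Wb.comap (QuotientGroup.mk' Q) := ⟨_, rfl⟩
    have hVT : V ≤ (T : Subgroup X) := by
      rw [hVdef]
      intro x hx
      exact hmemT x (hWble hx)
    have hQV : Q ≤ V := by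
      rw [hVdef]
      intro x hx
      rw [Subgroup.mem_comap]
      have h1 : (QuotientGroup.mk' Q) x = 1 := (QuotientGroup.eq_one_iff x).mpr hx
      rw [h1]; exact Subgroup.one_mem _
    have hVQ : V ≠ Q := by
      intro h
      apply hWbne
      have h1 : Wb = V.map (QuotientGroup.mk' Q) := by
        rw [hVdef, Subgroup.map_comap_eq_self_of_surjective hπ]
      rw [h1, h, Subgroup.map_eq_bot_iff, QuotientGroup.ker_mk']
    have hnorm : Subgroup.normalizer (V : Set X) =
        (Subgroup.normalizer (Wb : Set (X ⧸ Q))).comap (QuotientGroup.mk' Q) := by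
      rw [hVdef]; exact (Subgroup.comap_normalizer_eq_of_surjective Wb hπ).symm
    have hTV : (T : Subgroup X) ≤ Subgroup.normalizer (V : Set X) := by
      rw [hnorm]
      intro t ht
      rw [Subgroup.mem_comap, hWb]
      apply normalizer_le_normalizer_functor _ hconjb _ hDbp
      exact sc_le_normalizer hDb (Subgroup.mem_map_of_mem _ ht)
    have h1 := hV V (lt_of_le_of_ne hQV (Ne.symm hVQ)) hVT hTV
    have h2 : (Subgroup.normalizer (V : Set X)).map (QuotientGroup.mk' Q) =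
        Subgroup.normalizer (Wb : Set (X ⧸ Q)) := by
      rw [hnorm, Subgroup.map_comap_eq_self_of_surjective hπ]
    have h3 := npc_of_surjective ((QuotientGroup.mk' Q).subgroupMap
      (Subgroup.normalizer (V : Set X))) (MonoidHom.subgroupMap_surjective _ _) h1
    exact npc_congr h2 h3

theorem thHyp_sc {p : ℕ} [Fact p.Prime] (W : ∀ (Q : Type u) [Group Q], Subgroup Q)
    (hW : Cfsg.IsCharPFunctor.{u} p W)
    (hfin : ∀ (X : Type u) [Group X] [Finite X] (T : Sylow p X),
      Constrained p X → Cfsg.HasNormalPComplement p (X ⧸ Cfsg.pCore p X) →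
      IsCoatom (T : Subgroup X) → ∀ D : Subgroup X, Cfsg.IsStronglyClosed D (T : Subgroup X) →
      (Cfsg.inducedFunctor W D).Normal) :
    ThHyp p (HypSC p W) := by
  refine ⟨?_, ?_, ?_, ?_, ?_⟩
  · -- conj
    intro X _ _ T g ⟨D, hD, hnpc⟩
    have hconj := isConjugacyFunctor_inducedFunctor hW X
    have hDp : IsPGroup p ↥D := T.isPGroup'.to_le hD.1
    refine ⟨D.map (MulAut.conj g).toMonoidHom, ⟨Subgroup.map_mono hD.1, ?_⟩, ?_⟩
    · rintro _ ⟨x, hx, rfl⟩ h hh
      rw [mem_map_conj_iff] at hh ⊢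
      have h1 : g⁻¹ * (h * (MulAut.conj g).toMonoidHom x * h⁻¹) * g
          = (g⁻¹ * h * g) * x * (g⁻¹ * h * g)⁻¹ := by
        show g⁻¹ * (h * (g * x * g⁻¹) * h⁻¹) * g = _
        group
      rw [h1] at hh ⊢
      exact hD.2 x hx _ hh
    · rw [(hconj D hDp).2.2 g]
      have h3 := npc_map_conj _ g hnpc
      rw [Subgroup.map_equiv_normalizer_eq] at h3
      exact h3
  · -- sub
    intro X _ _ T N P₁ hle hZ ⟨D, hD, hnpc⟩ hthird
    have hconj := isConjugacyFunctor_inducedFunctor hW X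
    have hDp : IsPGroup p ↥D := T.isPGroup'.to_le hD.1
    have hTN := sylow_inf_eq T.isPGroup' N P₁ hle
    have hDN : D ⊓ N ≤ (P₁ : Subgroup ↥N).map N.subtype := by
      rw [← hTN]; exact inf_le_inf_right N hD.1
    have hDNp : IsPGroup p ↥(D ⊓ N) := hDp.to_le inf_le_left
    refine ⟨D.subgroupOf N, ⟨?_, ?_⟩, ?_⟩
    · intro x hx
      rw [Subgroup.mem_subgroupOf] at hx
      obtain ⟨y, hy, hyx⟩ := hDN (Subgroup.mem_inf.mpr ⟨hx, x.2⟩)
      have : y = x := Subtype.ext hyx
      rw [← this]; exact hy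
    · intro x hx n hn
      rw [Subgroup.mem_subgroupOf] at hx ⊢
      exact hD.2 x.1 hx n.1 (hle ⟨_, hn, rfl⟩)
    · have hD₁p : IsPGroup p ↥(D.subgroupOf N) := IsPGroup.comap_subtype hDp
      have hW' : (Cfsg.inducedFunctor W (D.subgroupOf N)).map N.subtype
          = Cfsg.inducedFunctor W (D ⊓ N) := by
        rw [map_inducedFunctor hW N.subtype _ hD₁p
          (fun x _ hx => N.subtype_injective (by rw [map_one]; exact hx)),
          Subgroup.subgroupOf_map_subtype]
      have hkey : Cfsg.HasNormalPComplement p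
          ↥(Subgroup.normalizer ((Cfsg.inducedFunctor W (D ⊓ N) : Subgroup X) : Set X)) := by
        by_cases hDN' : D ⊓ N = D
        · rw [hDN']; exact hnpc
        · have hne : (P₁ : Subgroup ↥N).map N.subtype ≠ (T : Subgroup X) := by
            intro h
            apply hDN'
            apply inf_eq_left.mpr
            have : (T : Subgroup X) ≤ N := by rw [← h]; exact Subgroup.map_subtype_le _
            exact hD.1.trans this
          have hDne : D ≠ ⊥ := by
            rintro rfl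
            exact hDN' (by simp)
          obtain ⟨z, hzD, hz1, hzZ⟩ := exists_ne_one_mem_center_of_normalized T.isPGroup' hD.1
            (sc_le_normalizer hD) hDne
          have hDNne : D ⊓ N ≠ ⊥ := by
            intro h
            have h1 : z ∈ D ⊓ N :=
              Subgroup.mem_inf.mpr ⟨hzD, (Subgroup.map_subtype_le _) (hZ hzZ)⟩
            rw [h] at h1
            exact hz1 (Subgroup.mem_bot.mp h1)
          apply hthird hne _ ((hconj _ hDNp).2.1 hDNne) ((inducedFunctor_le _).trans hDN)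
          intro t ht
          obtain ⟨htT, htN⟩ := Subgroup.mem_inf.mp ht
          apply normalizer_le_normalizer_functor _ hconj _ hDNp
          have h1 : D ⊓ N = D ⊓ (T ⊓ N) := by
            rw [← inf_assoc, inf_eq_left.mpr hD.1]
          rw [h1, hTN]
          exact mem_normalizer_inf (sc_le_normalizer hD htT) htN
      have hle' : ∀ x : ↥(Subgroup.normalizer
          ((Cfsg.inducedFunctor W (D.subgroupOf N) : Subgroup ↥N) : Set ↥N)),
          (N.subtype.comp (Subgroup.subtype _)) x ∈ Subgroup.normalizer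
            ((Cfsg.inducedFunctor W (D ⊓ N) : Subgroup X) : Set X) := by
        intro x
        rw [← hW']
        exact Subgroup.le_normalizer_map N.subtype ⟨x.1, x.2, rfl⟩
      refine npc_of_injective ((N.subtype.comp (Subgroup.subtype _)).codRestrict _ hle') ?_ hkey
      intro a b hab
      have h0 := congrArg Subtype.val hab
      have h1 : ((a : ↥N) : X) = ((b : ↥N) : X) := h0
      exact Subtype.ext (Subtype.ext h1)
  · -- quotP
    intro X _ _ T h hV
    exact hypSC_quotP W hW X T (Cfsg.pCore p X) (Cfsg.Agent.Lib.Helper4.pCore_le_sylow T) hV h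
  · -- quotR
    intro X _ _ T R hRn hRc ⟨D, hD, hnpc⟩
    have hπ : Function.Surjective (QuotientGroup.mk' R) := QuotientGroup.mk'_surjective R
    have hDp : IsPGroup p ↥D := T.isPGroup'.to_le hD.1
    have hTR : (T : Subgroup X) ⊓ R = ⊥ := disjoint_of_isPGroup_of_coprime _ R T.isPGroup' hRc
    have hinj : ∀ x ∈ D, (QuotientGroup.mk' R) x = 1 → x = 1 := by
      intro x hx hx1
      have h1 : x ∈ (T : Subgroup X) ⊓ R :=
        Subgroup.mem_inf.mpr ⟨hD.1 hx, (QuotientGroup.eq_one_iff x).mp hx1⟩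
      rw [hTR] at h1
      exact Subgroup.mem_bot.mp h1
    have hDb : Cfsg.IsStronglyClosed (D.map (QuotientGroup.mk' R))
        ((T : Subgroup X).map (QuotientGroup.mk' R)) := by
      refine ⟨Subgroup.map_mono hD.1, ?_⟩
      rintro _ ⟨x, hx, rfl⟩ gb hgb
      obtain ⟨g, rfl⟩ := hπ gb
      have h1 : (QuotientGroup.mk' R) g * (QuotientGroup.mk' R) x * ((QuotientGroup.mk' R) g)⁻¹
          = (QuotientGroup.mk' R) (g * x * g⁻¹) := by
        rw [map_mul, map_mul, map_inv]
      rw [h1] at hgb ⊢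
      have hy : ∃ k : ℕ, (g * x * g⁻¹) ^ p ^ k = 1 := by
        obtain ⟨k, hk⟩ := hDp ⟨x, hx⟩
        refine ⟨k, ?_⟩
        have hk' : x ^ p ^ k = 1 := congrArg Subtype.val hk
        rw [conj_pow, hk']; group
      obtain ⟨r, hr, hrT⟩ := exists_conj_mem_of_mk_mem (T : Subgroup X) T.isPGroup' R hRc hy hgb
      have h2 : r * (g * x * g⁻¹) * r⁻¹ = (r * g) * x * (r * g)⁻¹ := by group
      rw [h2] at hrT
      have h3 := hD.2 x hx (r * g) hrT
      have h4 : (QuotientGroup.mk' R) (g * x * g⁻¹) = (QuotientGroup.mk' R) ((r * g) * x * (r * g)⁻¹) := by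
        apply QuotientGroup.eq.mpr
        have e : (g * x * g⁻¹)⁻¹ * ((r * g) * x * (r * g)⁻¹)
            = ((g * x * g⁻¹)⁻¹ * r * (g * x * g⁻¹)⁻¹⁻¹) * r⁻¹ := by group
        rw [e]
        exact R.mul_mem (hRn.conj_mem r hr _) (R.inv_mem hr)
      rw [h4]
      exact Subgroup.mem_map_of_mem _ h3
    refine ⟨D.map (QuotientGroup.mk' R), hDb, ?_⟩
    have hWmap : (Cfsg.inducedFunctor W D).map (QuotientGroup.mk' R) =
        Cfsg.inducedFunctor W (D.map (QuotientGroup.mk' R)) :=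
      map_inducedFunctor hW _ _ hDp hinj
    have h2 : (Subgroup.normalizer
        ((Cfsg.inducedFunctor W D : Subgroup X) : Set X)).map (QuotientGroup.mk' R) =
        Subgroup.normalizer ((Cfsg.inducedFunctor W (D.map (QuotientGroup.mk' R)) :
          Subgroup (X ⧸ R)) : Set (X ⧸ R)) := by
      rw [← hWmap]
      apply le_antisymm (Subgroup.le_normalizer_map _)
      exact normalizer_map_mk_le R hRc _ (hDp.to_le (inducedFunctor_le _))
    have h3 := npc_of_surjective ((QuotientGroup.mk' R).subgroupMap _)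
      (MonoidHom.subgroupMap_surjective _ _) hnpc
    exact npc_congr h2 h3
  · -- fin
    intro X _ _ T hcon hq hTco ⟨D, hD, hnpc⟩
    have hn := hfin X T hcon hq hTco D hD
    rw [Subgroup.normalizer_eq_top_iff.mpr hn] at hnpc
    exact npc_top_iff.mp hnpc

end Cfsg.Agent.Lib.Helper3
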