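import Mathlib
import Cfsg.Prelude.Def_Local
import Cfsg.Agent.Lib.Helper3.PRes
import Cfsg.Agent.Lib.Helper3.PiCore
import Cfsg.Agent.Lib.Helper3.Frat
import Cfsg.Agent.Lib.Helper3.Goldschmidt
import Cfsg.Agent.Lib.Helper3.CtrlFusion

set_option maxHeartbeats 1000000

namespace Cfsg.Agent.Lib.Helper3

theorem eq_bot_of_isPGroup_of_odd {G : Type*} [Group G] [Finite G] (X Y : Subgroup G)
    (hXY : X ≤ Y) (hX : IsPGroup 2 X) (hY : Odd (Nat.card Y)) : X = ⊥ := by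
  have hp2 : Fact (Nat.Prime 2) := ⟨Nat.prime_two⟩
  obtain ⟨k, hk⟩ := IsPGroup.iff_card.mp hX
  have hdvd : Nat.card X ∣ Nat.card Y := Subgroup.card_dvd_of_le hXY
  rcases Nat.eq_zero_or_pos k with h0 | h0
  · rw [h0, pow_zero] at hk
    exact Subgroup.card_eq_one.mp hk
  · exfalso
    have h2 : 2 ∣ Nat.card Y := by
      refine dvd_trans ?_ hdvd
      rw [hk]; exact dvd_pow_self 2 h0.ne'
    exact (Nat.not_even_iff_odd.mpr hY) (even_iff_two_dvd.mpr h2)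

/-- In a tightly embedded subgroup, normalizers of nontrivial 2-subgroups normalize it. -/
theorem tight_normalizer_le {G : Type*} [Group G] [Finite G] {Q : Subgroup G}
    (hQ : Cfsg.IsTightlyEmbedded Q) (X : Subgroup G) (hXQ : X ≤ Q) (hX : IsPGroup 2 X)
    (hne : X ≠ ⊥) : Subgroup.normalizer (X : Set G) ≤ Subgroup.normalizer (Q : Set G) := by
  intro x hx
  by_contra hxQ
  have hodd := hQ.2 x hxQ
  apply hne
  apply eq_bot_of_isPGroup_of_odd X _ _ hX hodd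
  intro y hy
  refine Subgroup.mem_inf.mpr ⟨hXQ hy, ?_⟩
  rw [mem_map_conj_iff]
  apply hXQ
  have hx' : x⁻¹ ∈ Subgroup.normalizer (X : Set G) := Subgroup.inv_mem _ hx
  have := (Subgroup.mem_normalizer_iff.mp hx' y).mp hy
  rwa [inv_inv] at this

theorem tight_map_conj {G : Type*} [Group G] [Finite G] {Q : Subgroup G}
    (hQ : Cfsg.IsTightlyEmbedded Q) (g : G) :
    Cfsg.IsTightlyEmbedded (Q.map (MulAut.conj g).toMonoidHom) := by
  refine ⟨by rw [card_map_conj]; exact hQ.1, ?_⟩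
  intro h hh
  have hh' : g⁻¹ * h * g ∉ Subgroup.normalizer (Q : Set G) := by
    intro hmem
    apply hh
    rw [normalizer_map_conj, mem_map_conj_iff]
    exact hmem
  have hodd := hQ.2 _ hh'
  have heq : Q.map (MulAut.conj g).toMonoidHom ⊓
      (Q.map (MulAut.conj g).toMonoidHom).map (MulAut.conj h).toMonoidHom =
      (Q ⊓ Q.map (MulAut.conj (g⁻¹ * h * g)).toMonoidHom).map (MulAut.conj g).toMonoidHom := by
    rw [Subgroup.map_inf_eq _ _ _ (MulAut.conj g).injective, map_conj_map_conj, map_conj_map_conj]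
    have e : g * (g⁻¹ * h * g) = h * g := by group
    rw [e]
  rw [heq, card_map_conj]
  exact hodd

theorem exists_le_sylow_relIndex {Y : Type*} [Group Y] [Finite Y] (p : ℕ) [Fact p.Prime]
    (H X : Subgroup Y) (hXH : X ≤ H) (hX : IsPGroup p X) :
    ∃ V : Subgroup Y, X ≤ V ∧ V ≤ H ∧ IsPGroup p ↥V ∧ ¬ p ∣ V.relIndex H := by
  have hX' : IsPGroup p ↥(X.subgroupOf H) := IsPGroup.comap_subtype hX
  obtain ⟨P, hP⟩ := hX'.exists_le_sylow
  refine ⟨(P : Subgroup ↥H).map H.subtype, ?_, Subgroup.map_subtype_le _, P.isPGroup'.map _, ?_⟩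
  · intro x hx
    exact ⟨⟨x, hXH hx⟩, hP (Subgroup.mem_subgroupOf.mpr hx), rfl⟩
  · rw [relIndex_map_subtype_self]; exact P.not_dvd_index

/-- The basic structure lemma for tightly embedded subgroups. -/
theorem tight_lemma_I {G : Type*} [Group G] [Finite G] (Q Q' T S : Subgroup G)
    (H1 : ∀ X : Subgroup G, X ≤ Q ⊓ Q' → IsPGroup 2 X → X = ⊥)
    (H2 : ∀ X : Subgroup G, X ≤ Q' → IsPGroup 2 X → X ≠ ⊥ →
      Subgroup.normalizer (X : Set G) ≤ Subgroup.normalizer (Q' : Set G))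
    (hTQ' : T ≤ Q') (hTN : T ≤ Subgroup.normalizer (Q : Set G)) (hT2 : IsPGroup 2 T)
    (hTS : T ≤ S) (hSQT : S ≤ Q ⊔ T) (hS2 : IsPGroup 2 S) (hSsyl : ¬ 2 ∣ S.relIndex (Q ⊔ T))
    (R : Subgroup G) (hR : R = S ⊓ Subgroup.normalizer (T : Set G) ⊓ Q) :
    T ⊓ Q = ⊥ ∧ (∀ t ∈ T, ∀ r ∈ R, t * r = r * t) ∧
      T ⊔ R = S ⊓ Subgroup.normalizer (T : Set G) ∧
      ((∃ θ : ↥T →* ↥R, Function.Injective θ) ∨ ¬ 2 ∣ R.relIndex Q) := by
  classical
  have hp2 : Fact (Nat.Prime 2) := ⟨Nat.prime_two⟩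
  have hRS : R ≤ S := by rw [hR]; exact inf_le_left.trans inf_le_left
  have hRN : R ≤ Subgroup.normalizer (T : Set G) := by rw [hR]; exact inf_le_left.trans inf_le_right
  have hRQ : R ≤ Q := by rw [hR]; exact inf_le_right
  have hTQ : T ⊓ Q = ⊥ :=
    H1 _ (by rw [inf_comm]; exact inf_le_inf_left Q hTQ') (hT2.to_le inf_le_left)
  have hcomm : ∀ t ∈ T, ∀ r ∈ R, t * r = r * t := by
    intro t ht r hr
    have h1 : t * r * t⁻¹ * r⁻¹ ∈ T ⊓ Q := by
      refine Subgroup.mem_inf.mpr ⟨?_, ?_⟩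
      · have h2 : r * t⁻¹ * r⁻¹ ∈ T :=
          (Subgroup.mem_normalizer_iff.mp (hRN hr) t⁻¹).mp (T.inv_mem ht)
        have e : t * r * t⁻¹ * r⁻¹ = t * (r * t⁻¹ * r⁻¹) := by group
        rw [e]; exact T.mul_mem ht h2
      · have h2 : t * r * t⁻¹ ∈ Q := (Subgroup.mem_normalizer_iff.mp (hTN ht) r).mp (hRQ hr)
        exact Q.mul_mem h2 (Q.inv_mem (hRQ hr))
    rw [hTQ, Subgroup.mem_bot] at h1
    calc t * r = t * r * t⁻¹ * r⁻¹ * (r * t) := by group
      _ = r * t := by rw [h1, one_mul]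
  have hTRprod : ∀ x ∈ T ⊔ R, ∃ t ∈ T, ∃ r ∈ R, x = t * r := by
    intro x hx
    rw [sup_comm] at hx
    obtain ⟨r, hr, t, ht, rfl⟩ := exists_mul_of_mem_sup_of_le_normalizer R T hRN hx
    exact ⟨t, ht, r, hr, (hcomm t ht r hr).symm⟩
  have hTRQ : ∀ x ∈ T ⊔ R, x ∈ Q → x ∈ R := by
    intro x hx hxQ
    obtain ⟨t, ht, r, hr, rfl⟩ := hTRprod x hx
    have h1 : t ∈ T ⊓ Q := Subgroup.mem_inf.mpr ⟨ht, by
      have := Q.mul_mem hxQ (Q.inv_mem (hRQ hr))
      simpa using this⟩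
    rw [hTQ, Subgroup.mem_bot] at h1
    rw [h1, one_mul]; exact hr
  have hTRQ' : ∀ x ∈ T ⊔ R, x ∈ Q' → x ∈ T := by
    intro x hx hxQ'
    obtain ⟨t, ht, r, hr, rfl⟩ := hTRprod x hx
    have hrQ' : r ∈ Q' := by
      have := Q'.mul_mem (Q'.inv_mem (hTQ' ht)) hxQ'
      simpa using this
    have hz : Subgroup.zpowers r = ⊥ := H1 _ (by
      rw [Subgroup.zpowers_le]; exact Subgroup.mem_inf.mpr ⟨hRQ hr, hrQ'⟩)
      (hS2.to_le (by rw [Subgroup.zpowers_le]; exact hRS hr))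
    have hr1 : r = 1 := by
      have := Subgroup.mem_zpowers r
      rw [hz, Subgroup.mem_bot] at this; exact this
    rw [hr1, mul_one]; exact ht
  have hSprod : ∀ s ∈ S, ∃ q ∈ S ⊓ Q, ∃ t ∈ T, s = q * t := by
    intro s hs
    have hs' : s ∈ T ⊔ Q := by rw [sup_comm]; exact hSQT hs
    obtain ⟨t, ht, q, hq, rfl⟩ := exists_mul_of_mem_sup_of_le_normalizer T Q hTN hs'
    refine ⟨t * q * t⁻¹, Subgroup.mem_inf.mpr ⟨?_, ?_⟩, t, ht, by group⟩
    · exact S.mul_mem hs (S.inv_mem (hTS ht))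
    · exact (Subgroup.mem_normalizer_iff.mp (hTN ht) q).mp hq
  have hNS : T ⊔ R = S ⊓ Subgroup.normalizer (T : Set G) := by
    apply le_antisymm
    · exact sup_le (le_inf hTS Subgroup.le_normalizer) (le_inf hRS hRN)
    · intro x hx
      obtain ⟨q, hq, t, ht, rfl⟩ := hSprod x (Subgroup.mem_inf.mp hx).1
      have hqN : q ∈ Subgroup.normalizer (T : Set G) := by
        have := Subgroup.mul_mem _ (Subgroup.mem_inf.mp hx).2
          (Subgroup.inv_mem _ (Subgroup.le_normalizer ht))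
        simpa using this
      have hqR : q ∈ R := by
        rw [hR]
        exact Subgroup.mem_inf.mpr ⟨Subgroup.mem_inf.mpr ⟨(Subgroup.mem_inf.mp hq).1, hqN⟩,
          (Subgroup.mem_inf.mp hq).2⟩
      exact Subgroup.mul_mem _ (Subgroup.mem_sup_right hqR) (Subgroup.mem_sup_left ht)
  refine ⟨hTQ, hcomm, hNS, ?_⟩
  by_cases hcase : S ≤ Subgroup.normalizer (T : Set G)
  · right
    have hReq : R = S ⊓ Q := by rw [hR, inf_eq_left.mpr hcase]
    rw [hReq]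
    intro h
    apply hSsyl
    rw [Subgroup.inf_relIndex_right] at h
    exact h.trans (relIndex_dvd_relIndex_of_normal S Q (Q ⊔ T) le_sup_left
      (sup_le Subgroup.le_normalizer hTN))
  · left
    have hne : T ⊔ R ≠ S := by
      intro h
      apply hcase
      have h2 : S ⊓ Subgroup.normalizer (T : Set G) = S := by rw [← hNS]; exact h
      exact inf_eq_left.mp h2
    obtain ⟨x, hxS, hxN, hxTR⟩ :=
      exists_mem_normalizer_notMem S (T ⊔ R) hS2 (sup_le hTS hRS) hne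
    obtain ⟨q, hq, t, ht, rfl⟩ := hSprod x hxS
    have hqS := (Subgroup.mem_inf.mp hq).1
    have hqQ := (Subgroup.mem_inf.mp hq).2
    have hqN : q ∈ Subgroup.normalizer ((T ⊔ R : Subgroup G) : Set G) := by
      have := Subgroup.mul_mem _ hxN (Subgroup.inv_mem _
        (Subgroup.le_normalizer (Subgroup.mem_sup_left ht : t ∈ T ⊔ R)))
      simpa using this
    have hqTR : q ∉ T ⊔ R := by
      intro h
      exact hxTR (Subgroup.mul_mem _ h (Subgroup.mem_sup_left ht))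
    have hθmem : ∀ t : ↥T, (t : G)⁻¹ * (q * (t : G) * q⁻¹) ∈ R := by
      intro t
      apply hTRQ
      · exact Subgroup.mul_mem _ (Subgroup.mem_sup_left (T.inv_mem t.2))
          ((Subgroup.mem_normalizer_iff.mp hqN _).mp (Subgroup.mem_sup_left t.2))
      · have h1 : (t : G)⁻¹ * q * ((t : G)⁻¹)⁻¹ ∈ Q :=
          (Subgroup.mem_normalizer_iff.mp (hTN (T.inv_mem t.2)) q).mp hqQ
        have e : (t : G)⁻¹ * (q * (t : G) * q⁻¹) = (t : G)⁻¹ * q * ((t : G)⁻¹)⁻¹ * q⁻¹ := by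
          group
        rw [e]; exact Q.mul_mem h1 (Q.inv_mem hqQ)
    let θ : ↥T →* ↥R :=
      { toFun := fun t => ⟨(t : G)⁻¹ * (q * (t : G) * q⁻¹), hθmem t⟩
        map_one' := by apply Subtype.ext; simp
        map_mul' := by
          intro t₁ t₂
          apply Subtype.ext
          show ((t₁ * t₂ : ↥T) : G)⁻¹ * (q * ((t₁ * t₂ : ↥T) : G) * q⁻¹) =
            ((t₁ : G)⁻¹ * (q * (t₁ : G) * q⁻¹)) * ((t₂ : G)⁻¹ * (q * (t₂ : G) * q⁻¹))
          have hc := hcomm (t₂ : G)⁻¹ (T.inv_mem t₂.2) _ (hθmem t₁)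
          rw [Subgroup.coe_mul]
          calc ((t₁ : G) * (t₂ : G))⁻¹ * (q * ((t₁ : G) * (t₂ : G)) * q⁻¹)
              = (t₂ : G)⁻¹ * ((t₁ : G)⁻¹ * (q * (t₁ : G) * q⁻¹)) * (q * (t₂ : G) * q⁻¹) := by
                group
            _ = ((t₁ : G)⁻¹ * (q * (t₁ : G) * q⁻¹)) * (t₂ : G)⁻¹ * (q * (t₂ : G) * q⁻¹) := by
                rw [hc]
            _ = _ := by group }
    refine ⟨θ, ?_⟩
    rw [injective_iff_map_eq_one]
    intro t ht1
    by_contra hne1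
    have ht1' : (t : G)⁻¹ * (q * (t : G) * q⁻¹) = 1 := congrArg Subtype.val ht1
    have hqt : q * (t : G) * q⁻¹ = (t : G) := by
      calc q * (t : G) * q⁻¹ = (t : G) * ((t : G)⁻¹ * (q * (t : G) * q⁻¹)) := by group
        _ = (t : G) := by rw [ht1', mul_one]
    have hzne : Subgroup.zpowers (t : G) ≠ ⊥ := by
      intro h
      apply hne1
      have := Subgroup.mem_zpowers (t : G)
      rw [h, Subgroup.mem_bot] at this
      exact Subtype.ext this
    have hqNz : q ∈ Subgroup.normalizer ((Subgroup.zpowers (t : G) : Subgroup G) : Set G) := by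
      apply mem_normalizer_of_map_conj_le
      rw [MonoidHom.map_zpowers, Subgroup.zpowers_le]
      show q * (t : G) * q⁻¹ ∈ _
      rw [hqt]; exact Subgroup.mem_zpowers _
    have hqNQ' : q ∈ Subgroup.normalizer (Q' : Set G) :=
      H2 _ (by rw [Subgroup.zpowers_le]; exact hTQ' t.2)
        (hT2.to_le (by rw [Subgroup.zpowers_le]; exact t.2)) hzne hqNz
    have hqT : q ∈ Subgroup.normalizer (T : Set G) := by
      apply mem_normalizer_of_map_conj_le
      rintro _ ⟨y, hy, rfl⟩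
      apply hTRQ'
      · exact (Subgroup.mem_normalizer_iff.mp hqN _).mp (Subgroup.mem_sup_left hy)
      · exact (Subgroup.mem_normalizer_iff.mp hqNQ' _).mp (hTQ' hy)
    apply hqTR
    apply Subgroup.mem_sup_right
    rw [hR]
    exact Subgroup.mem_inf.mpr ⟨Subgroup.mem_inf.mpr ⟨hqS, hqT⟩, hqQ⟩

theorem tight_card_le {G : Type*} [Group G] [Finite G] (Q Q' T R : Subgroup G)
    (hcard : Nat.card Q = Nat.card Q') (hTQ' : T ≤ Q') (hT2 : IsPGroup 2 T) (hRQ : R ≤ Q)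
    (h : (∃ θ : ↥T →* ↥R, Function.Injective θ) ∨ ¬ 2 ∣ R.relIndex Q) :
    Nat.card T ≤ Nat.card R := by
  have hp2 : Fact (Nat.Prime 2) := ⟨Nat.prime_two⟩
  rcases h with ⟨θ, hθ⟩ | h
  · exact Nat.card_le_card_of_injective θ hθ
  · obtain ⟨k, hk⟩ := IsPGroup.iff_card.mp hT2
    have h1 : Nat.card T ∣ Nat.card Q := by rw [hcard]; exact Subgroup.card_dvd_of_le hTQ'
    have h2 := card_mul_relIndex' R Q hRQ
    rw [← h2, hk] at h1
    have hcop : Nat.Coprime (2 ^ k) (R.relIndex Q) :=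
      Nat.Coprime.pow_left k ((Nat.Prime.coprime_iff_not_dvd Nat.prime_two).mpr h)
    have h3 : 2 ^ k ∣ Nat.card R := hcop.dvd_of_dvd_mul_right h1
    rw [hk]
    exact Nat.le_of_dvd Nat.card_pos h3

/-- Tightly embedded subgroups: `N_S(T) = T × R` with `R ≅ T`. -/
theorem tight_main {G : Type*} [Group G] [Finite G] (Q : Subgroup G)
    (hQ : Cfsg.IsTightlyEmbedded Q) (g : G) (hg : g ∉ Subgroup.normalizer (Q : Set G))
    (T : Subgroup G) (hT1 : T ≠ ⊥)
    (hT : T ≤ Q.map (MulAut.conj g).toMonoidHom ⊓ Subgroup.normalizer (Q : Set G))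
    (hT2 : IsPGroup 2 T)
    (hTidx : ¬ 2 ∣ T.relIndex (Q.map (MulAut.conj g).toMonoidHom ⊓
      Subgroup.normalizer (Q : Set G)))
    (S : Subgroup G) (hTS : T ≤ S) (hS : S ≤ Q ⊔ T) (hS2 : IsPGroup 2 S)
    (hSidx : ¬ 2 ∣ S.relIndex (Q ⊔ T))
    (R : Subgroup G) (hR : R = S ⊓ Subgroup.normalizer (T : Set G) ⊓ Q) :
    T ⊓ Q = ⊥ ∧ (∀ t ∈ T, ∀ r ∈ R, t * r = r * t) ∧
      T ⊔ R = S ⊓ Subgroup.normalizer (T : Set G) ∧ Nonempty (↥R ≃* ↥T) := by
  classical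
  have hp2 : Fact (Nat.Prime 2) := ⟨Nat.prime_two⟩
  obtain ⟨Q', hQ'⟩ : ∃ Q' : Subgroup G, Q' = Q.map (MulAut.conj g).toMonoidHom := ⟨_, rfl⟩
  rw [← hQ'] at hT hTidx
  have hTQ' : T ≤ Q' := hT.trans inf_le_left
  have hTN : T ≤ Subgroup.normalizer (Q : Set G) := hT.trans inf_le_right
  have hQ'tight : Cfsg.IsTightlyEmbedded Q' := by rw [hQ']; exact tight_map_conj hQ g
  have hcard : Nat.card Q = Nat.card Q' := by rw [hQ', card_map_conj]
  have H1 : ∀ X : Subgroup G, X ≤ Q ⊓ Q' → IsPGroup 2 X → X = ⊥ := by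
    intro X hX hX2
    have hodd := hQ.2 g hg
    rw [← hQ'] at hodd
    exact eq_bot_of_isPGroup_of_odd X (Q ⊓ Q') hX hX2 hodd
  have H1' : ∀ X : Subgroup G, X ≤ Q' ⊓ Q → IsPGroup 2 X → X = ⊥ := by
    intro X hX hX2; exact H1 X (by rw [inf_comm]; exact hX) hX2
  have H2Q : ∀ X : Subgroup G, X ≤ Q → IsPGroup 2 X → X ≠ ⊥ →
      Subgroup.normalizer (X : Set G) ≤ Subgroup.normalizer (Q : Set G) :=
    fun X hX hX2 hne => tight_normalizer_le hQ X hX hX2 hne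
  have H2Q' : ∀ X : Subgroup G, X ≤ Q' → IsPGroup 2 X → X ≠ ⊥ →
      Subgroup.normalizer (X : Set G) ≤ Subgroup.normalizer (Q' : Set G) :=
    fun X hX hX2 hne => tight_normalizer_le hQ'tight X hX hX2 hne
  obtain ⟨hTQ, hcomm, hNS, hI⟩ :=
    tight_lemma_I Q Q' T S H1 H2Q' hTQ' hTN hT2 hTS hS hS2 hSidx R hR
  refine ⟨hTQ, hcomm, hNS, ?_⟩
  have hRS : R ≤ S := by rw [hR]; exact inf_le_left.trans inf_le_left
  have hRNT : R ≤ Subgroup.normalizer (T : Set G) := by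
    rw [hR]; exact inf_le_left.trans inf_le_right
  have hRQ : R ≤ Q := by rw [hR]; exact inf_le_right
  have hR2 : IsPGroup 2 R := hS2.to_le hRS
  have hle1 : Nat.card T ≤ Nat.card R := tight_card_le Q Q' T R hcard hTQ' hT2 hRQ hI
  have hRne : R ≠ ⊥ := by
    intro h
    apply hT1
    rw [h, Subgroup.card_bot] at hle1
    exact Subgroup.card_eq_one.mp (le_antisymm hle1 Nat.card_pos)
  have hRNQ' : R ≤ Subgroup.normalizer (Q' : Set G) := hRNT.trans (H2Q' T hTQ' hT2 hT1)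
  have hTR2 : IsPGroup 2 ↥(T ⊔ R : Subgroup G) := hS2.to_le (sup_le hTS hRS)
  obtain ⟨V, hTRV, hVle, hV2, hVidx⟩ := exists_le_sylow_relIndex 2 (Q' ⊔ R) (T ⊔ R)
    (sup_le (hTQ'.trans le_sup_left) le_sup_right) hTR2
  obtain ⟨R₁, hR₁⟩ : ∃ R₁ : Subgroup G,
      R₁ = V ⊓ Subgroup.normalizer (R : Set G) ⊓ Q' := ⟨_, rfl⟩
  obtain ⟨-, -, -, hI'⟩ := tight_lemma_I Q' Q R V H1' H2Q hRQ hRNQ' hR2
    (le_sup_right.trans hTRV) hVle hV2 hVidx R₁ hR₁
  have hR₁Q' : R₁ ≤ Q' := by rw [hR₁]; exact inf_le_right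
  have hle2 : Nat.card R ≤ Nat.card R₁ := tight_card_le Q' Q R R₁ hcard.symm hRQ hR2 hR₁Q' hI'
  have hTR₁ : T ≤ R₁ := by
    rw [hR₁]
    refine le_inf (le_inf (le_sup_left.trans hTRV) ?_) hTQ'
    intro t ht
    apply Subgroup.centralizer_le_normalizer
    rw [Subgroup.mem_centralizer_iff]
    intro r hr
    exact (hcomm t ht r hr).symm
  have hR₁le : R₁ ≤ Q' ⊓ Subgroup.normalizer (Q : Set G) := by
    refine le_inf hR₁Q' ?_
    have h1 : R₁ ≤ Subgroup.normalizer (R : Set G) := by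
      rw [hR₁]; exact inf_le_left.trans inf_le_right
    exact h1.trans (H2Q R hRQ hR2 hRne)
  have hR₁2 : IsPGroup 2 R₁ := hV2.to_le (by rw [hR₁]; exact inf_le_left.trans inf_le_left)
  have hTeq : T = R₁ :=
    eq_of_le_of_relIndex T R₁ (Q' ⊓ Subgroup.normalizer (Q : Set G)) hTR₁ hR₁le hR₁2 hTidx
  rw [← hTeq] at hle2
  have hceq : Nat.card T = Nat.card R := le_antisymm hle1 hle2
  rcases hI with ⟨θ, hθ⟩ | hsyl
  · have hbij : Function.Bijective θ := hθ.bijective_of_nat_card_le hceq.ge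
    exact ⟨(MulEquiv.ofBijective θ hbij).symm⟩
  · have hRg2 : IsPGroup 2 ↥(R.map (MulAut.conj g).toMonoidHom) := hR2.map _
    have hRgQ' : R.map (MulAut.conj g).toMonoidHom ≤ Q' := by
      rw [hQ']; exact Subgroup.map_mono hRQ
    have hRgidx : ¬ 2 ∣ (R.map (MulAut.conj g).toMonoidHom).relIndex Q' := by
      rw [hQ', relIndex_map_conj]; exact hsyl
    have hTidx' : ¬ 2 ∣ T.relIndex Q' := by
      have e1 := card_mul_relIndex' T Q' hTQ'
      have e2 := card_mul_relIndex' R Q hRQ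
      rw [← hcard, ← e2, hceq] at e1
      have e3 : T.relIndex Q' = R.relIndex Q := Nat.eq_of_mul_eq_mul_left Nat.card_pos e1
      rw [e3]; exact hsyl
    obtain ⟨n, -, hn⟩ := exists_map_conj_eq_of_relIndex Q' (R.map (MulAut.conj g).toMonoidHom) T
      hRgQ' hRg2 hRgidx hTQ' hT2 hTidx'
    let e₁ := R.equivMapOfInjective (MulAut.conj g).toMonoidHom (MulAut.conj g).injective
    let e₂ := (R.map (MulAut.conj g).toMonoidHom).equivMapOfInjective
      (MulAut.conj n).toMonoidHom (MulAut.conj n).injective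
    exact ⟨(e₁.trans e₂).trans (MulEquiv.subgroupCongr hn)⟩

end Cfsg.Agent.Lib.Helper3
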