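import Mathlib
import Cfsg.Agent.Lib.Helper3.StrEmb2
import Cfsg.Agent.Lib.Helper3.ThompsonOrder
import Cfsg.Agent.Lib.Helper4.PMinimal

set_option autoImplicit false
set_option maxHeartbeats 1000000

namespace Cfsg.Agent.Lib.Helper3

theorem s1922_even_card {α : Type*} [DecidableEq α] (s : Finset α) (σ : α → α)
    (h1 : ∀ x ∈ s, σ x ∈ s) (h2 : ∀ x ∈ s, σ (σ x) = x) (h3 : ∀ x ∈ s, σ x ≠ x) :
    Even s.card := by
  have h := Finset.sum_involution (s := s) (f := fun _ => (1 : ZMod 2)) (fun a _ => σ a)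
    (fun a ha => by show (1 : ZMod 2) + 1 = 0; decide) (fun a ha _ => h3 a ha)
    (fun a ha => h1 a ha) (fun a ha => h2 a ha)
  rw [Finset.sum_const, nsmul_eq_mul, mul_one] at h
  exact even_iff_two_dvd.mpr ((ZMod.natCast_eq_zero_iff _ _).mp h)

theorem s1922_dih {G : Type*} [Group G] (a b : G) (ha : a * a = 1) (hb : b * b = 1) (k : ℕ) :
    a * ((a * b) ^ k)⁻¹ * a⁻¹ = (a * b) ^ k ∧ b * ((a * b) ^ k)⁻¹ * b⁻¹ = (a * b) ^ k := by
  have hainv : a⁻¹ = a := inv_eq_of_mul_eq_one_left ha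
  have hbinv : b⁻¹ = b := inv_eq_of_mul_eq_one_left hb
  have h1 : a * (a * b) * a⁻¹ = (a * b)⁻¹ := by
    rw [mul_inv_rev, hainv, hbinv, ← mul_assoc a a b, ha, one_mul]
  have h1' : b * (a * b) * b⁻¹ = (a * b)⁻¹ := by
    rw [mul_inv_rev, hainv, hbinv, mul_assoc, mul_assoc, hb, mul_one]
  have h2 : a * (a * b) ^ k * a⁻¹ = ((a * b)⁻¹) ^ k := by rw [← h1, conj_pow]
  have h2' : b * (a * b) ^ k * b⁻¹ = ((a * b)⁻¹) ^ k := by rw [← h1', conj_pow]
  constructor
  · calc a * ((a * b) ^ k)⁻¹ * a⁻¹ = (a * (a * b) ^ k * a⁻¹)⁻¹ := by group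
      _ = (a * b) ^ k := by rw [h2, inv_pow, inv_inv]
  · calc b * ((a * b) ^ k)⁻¹ * b⁻¹ = (b * (a * b) ^ k * b⁻¹)⁻¹ := by group
      _ = (a * b) ^ k := by rw [h2', inv_pow, inv_inv]

theorem s1922_mem_conj {G : Type*} [Group G] (H : Subgroup G) (g x : G) :
    x ∈ H.map (MulAut.conj g).toMonoidHom ↔ g⁻¹ * x * g ∈ H := by
  constructor
  · rintro ⟨w, hw, rfl⟩
    have e : g⁻¹ * ((MulAut.conj g).toMonoidHom w) * g = w := by
      show g⁻¹ * (g * w * g⁻¹) * g = w
      group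
    rw [e]; exact hw
  · intro h
    refine ⟨g⁻¹ * x * g, h, ?_⟩
    show g * (g⁻¹ * x * g) * g⁻¹ = x
    group

theorem s1922_odd {G : Type*} [Group G] [Finite G] (z : G) (hz : orderOf z = 2) (H : Subgroup G)
    (hH : H ≠ ⊤) (h0 : ∀ g : G, g⁻¹ * z * g ∈ H ↔ g ∈ H)
    (h1 : ∀ t : G, IsConj z t → t ≠ z → t * z = z * t →
      ∀ g : G, g⁻¹ * (z * t) * g ∈ H → g ∈ H) :
    Odd (Nat.card {x : G // IsConj z x}) := by
  classical
  haveI := Fintype.ofFinite G
  have hzz : z * z = 1 := sq_one_of_orderOf_two hz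
  have hzinv : z⁻¹ = z := inv_eq_self_of_orderOf_two hz
  have hzH : z ∈ H := by
    have := (h0 1).mpr H.one_mem
    simpa using this
  have hCz : ∀ u : G, u * z = z * u → u ∈ H := by
    intro u hu
    apply (h0 u).mp
    have : u⁻¹ * z * u = z := by rw [mul_assoc, ← hu, inv_mul_cancel_left]
    rw [this]; exact hzH
  have hsq : ∀ d : G, IsConj z d → d * d = 1 := fun d hd =>
    sq_one_of_orderOf_two (by rw [← orderOf_eq_of_isConj' hd]; exact hz)
  have hinv : ∀ d : G, IsConj z d → d⁻¹ = d := fun d hd =>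
    inv_eq_of_mul_eq_one_left (hsq d hd)
  have hF1 : ∀ x g : G, g⁻¹ * (x * z * x⁻¹) * g ∈ H ↔ x⁻¹ * g ∈ H := by
    intro x g
    rw [← h0 (x⁻¹ * g)]
    have : (x⁻¹ * g)⁻¹ * z * (x⁻¹ * g) = g⁻¹ * (x * z * x⁻¹) * g := by group
    rw [this]
  have hT : ∀ (x t' : G), IsConj z t' → t' ≠ x * z * x⁻¹ →
      t' * (x * z * x⁻¹) = (x * z * x⁻¹) * t' →
      ∀ g, g⁻¹ * ((x * z * x⁻¹) * t') * g ∈ H → x⁻¹ * g ∈ H := by
    intro x t' ht' hne hcomm g hg
    have hc1 : IsConj z (x⁻¹ * t' * x) := by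
      obtain ⟨c, hc⟩ := isConj_iff.mp ht'
      exact isConj_iff.mpr ⟨x⁻¹ * c, by rw [← hc]; group⟩
    have hc2 : x⁻¹ * t' * x ≠ z := by
      intro h; apply hne; rw [← h]; group
    have hc3 : (x⁻¹ * t' * x) * z = z * (x⁻¹ * t' * x) := by
      have e1 : (x⁻¹ * t' * x) * z = x⁻¹ * (t' * (x * z * x⁻¹)) * x := by group
      have e2 : z * (x⁻¹ * t' * x) = x⁻¹ * ((x * z * x⁻¹) * t') * x := by group
      rw [e1, e2, hcomm]
    apply h1 _ hc1 hc2 hc3 (x⁻¹ * g)
    have e : (x⁻¹ * g)⁻¹ * (z * (x⁻¹ * t' * x)) * (x⁻¹ * g) =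
        g⁻¹ * ((x * z * x⁻¹) * t') * g := by group
    rw [e]; exact hg
  have hO' : ∀ (x b : G), IsConj z b → ∀ s : ℕ, s ≠ 0 →
      orderOf ((x * z * x⁻¹) * b) = 2 * s →
      ∀ g, g⁻¹ * ((x * z * x⁻¹) * b) ^ s * g ∈ H → x⁻¹ * g ∈ H := by
    intro x b hb s hs0 hord g hg
    have haC : IsConj z (x * z * x⁻¹) := isConj_iff.mpr ⟨x, rfl⟩
    obtain ⟨a, ha_def⟩ : ∃ a : G, a = x * z * x⁻¹ := ⟨_, rfl⟩
    rw [← ha_def] at haC hord hg
    have ha : a * a = 1 := hsq a haC
    have hb2 : b * b = 1 := hsq b hb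
    have hainv : a⁻¹ = a := hinv a haC
    obtain ⟨r, hr_def⟩ : ∃ r : G, r = a * b := ⟨_, rfl⟩
    rw [← hr_def] at hord hg
    have hc1 : r ^ s ≠ 1 := pow_ne_one_of_lt_orderOf hs0 (by rw [hord]; omega)
    have hc2 : r ^ s * r ^ s = 1 := by
      rw [← pow_add, ← two_mul, ← hord]; exact pow_orderOf_eq_one r
    have hcinv : (r ^ s)⁻¹ = r ^ s := inv_eq_of_mul_eq_one_left hc2
    have hdih : ∀ k : ℕ, a * (r ^ k)⁻¹ * a⁻¹ = r ^ k := by
      intro k; rw [hr_def]; exact (s1922_dih a b ha hb2 k).1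
    have hac : a * r ^ s = r ^ s * a := by
      have h3 := hdih s
      rw [hcinv, hainv] at h3
      calc a * r ^ s = a * r ^ s * (a * a) := by rw [ha, mul_one]
        _ = (a * r ^ s * a) * a := by group
        _ = r ^ s * a := by rw [h3]
    have hca : IsConj z (r ^ s * a) := by
      rcases Nat.even_or_odd s with ⟨s', hs'⟩ | ⟨s', hs'⟩
      · have h3 := hdih s'
        refine isConj_iff.mpr ⟨r ^ s' * x, ?_⟩
        have e1 : r ^ s' * x * z * (r ^ s' * x)⁻¹ = r ^ s' * (a * (r ^ s')⁻¹ * a⁻¹) * a := by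
          rw [ha_def]; group
        rw [e1, h3, hs', pow_add]
      · obtain ⟨yb, hyb⟩ := isConj_iff.mp hb
        have h3 := hdih s'
        refine isConj_iff.mpr ⟨r ^ s' * a * yb, ?_⟩
        have e1 : r ^ s' * a * yb * z * (r ^ s' * a * yb)⁻¹ =
            r ^ s' * (a * (yb * z * yb⁻¹) * a⁻¹) * (r ^ s')⁻¹ := by group
        have e2 : a * b * a⁻¹ = r * a := by rw [hainv, hr_def]
        have e3 : r ^ s' * (r * a) * (r ^ s')⁻¹ = r ^ s' * r * (a * (r ^ s')⁻¹ * a⁻¹) * a := by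
          group
        have e4 : r ^ s' * r * r ^ s' = r ^ s := by
          rw [hs', pow_succ, two_mul, pow_add, mul_assoc (r ^ s') r (r ^ s'),
            ← pow_mul_comm' r s', ← mul_assoc]
        rw [e1, hyb, e2, e3, h3, e4]
    have hne : r ^ s * a ≠ a := fun h => hc1 (by simpa using h)
    have hcomm : (r ^ s * a) * (x * z * x⁻¹) = (x * z * x⁻¹) * (r ^ s * a) := by
      rw [← ha_def, ← mul_assoc a, hac]
    have key := hT x (r ^ s * a) hca (by rw [← ha_def]; exact hne) hcomm g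
    apply key
    have e : (x * z * x⁻¹) * (r ^ s * a) = r ^ s := by
      rw [← ha_def, ← mul_assoc, hac, mul_assoc, ha, mul_one]
    rw [e]; exact hg
  have hO : ∀ x y' : G, x⁻¹ * y' ∉ H →
      Odd (orderOf ((x * z * x⁻¹) * (y' * z * y'⁻¹))) := by
    intro x y' hxy
    by_contra hodd
    rw [Nat.not_odd_iff_even] at hodd
    obtain ⟨s, hs⟩ := hodd
    have hs0 : s ≠ 0 := by
      rintro rfl
      have := orderOf_pos ((x * z * x⁻¹) * (y' * z * y'⁻¹))
      omega
    have hbC : IsConj z (y' * z * y'⁻¹) := isConj_iff.mpr ⟨y', rfl⟩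
    have haC : IsConj z (x * z * x⁻¹) := isConj_iff.mpr ⟨x, rfl⟩
    apply hxy
    apply hO' x _ hbC s hs0 (by rw [hs, two_mul]) y'
    apply hCz
    have hdih := (s1922_dih (x * z * x⁻¹) (y' * z * y'⁻¹) (hsq _ haC) (hsq _ hbC) s).2
    have hc2 : ((x * z * x⁻¹) * (y' * z * y'⁻¹)) ^ s *
        ((x * z * x⁻¹) * (y' * z * y'⁻¹)) ^ s = 1 := by
      rw [← pow_add, ← hs]; exact pow_orderOf_eq_one _
    have hcinv := inv_eq_of_mul_eq_one_left hc2
    rw [hcinv, hinv _ hbC] at hdih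
    obtain ⟨c, hc_def⟩ : ∃ c : G, c = ((x * z * x⁻¹) * (y' * z * y'⁻¹)) ^ s := ⟨_, rfl⟩
    rw [← hc_def] at hdih ⊢
    have h5 : z * (y'⁻¹ * c * y') * z = y'⁻¹ * c * y' := by
      have e : z * (y'⁻¹ * c * y') * z =
          y'⁻¹ * (y' * z * y'⁻¹ * c * (y' * z * y'⁻¹)) * y' := by group
      rw [e, hdih]
    calc y'⁻¹ * c * y' * z = (z * (y'⁻¹ * c * y') * z) * z := by rw [h5]
      _ = z * (y'⁻¹ * c * y') * (z * z) := by group
      _ = z * (y'⁻¹ * c * y') := by rw [hzz, mul_one]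
  obtain ⟨y, hy⟩ : ∃ y : G, y ∉ H := by
    by_contra hno
    push_neg at hno
    exact hH (eq_top_iff.mpr (fun g _ => hno g))
  have heC : IsConj z (y * z * y⁻¹) := isConj_iff.mpr ⟨y, rfl⟩
  have he2 : (y * z * y⁻¹) * (y * z * y⁻¹) = 1 := hsq _ heC
  have hjy : ∀ j : G, IsConj z j → y⁻¹ * j ∈ H → j * y ∈ H := by
    intro j hj hjH
    have : j * y = (y⁻¹ * j)⁻¹ := by rw [mul_inv_rev, inv_inv, hinv j hj]
    rw [this]; exact H.inv_mem hjH
  have hpair : ∀ a b : G, IsConj z a → IsConj z b → y⁻¹ * a ∈ H → y⁻¹ * b ∈ H → b ≠ a →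
      b * a = a * b → False := by
    intro a b haC hbC haH hbH hne hcomm
    obtain ⟨xa, rfl⟩ := isConj_iff.mp haC
    have k1 := hT xa b hbC hne hcomm 1 (by
      have : (1 : G)⁻¹ * ((xa * z * xa⁻¹) * b) * 1 = ((xa * z * xa⁻¹) * y) * (y⁻¹ * b) := by group
      rw [this]; exact H.mul_mem (hjy _ haC haH) hbH)
    have k2 := hT xa b hbC hne hcomm y (by
      have : y⁻¹ * ((xa * z * xa⁻¹) * b) * y = (y⁻¹ * (xa * z * xa⁻¹)) * (b * y) := by group
      rw [this]; exact H.mul_mem haH (hjy _ hbC hbH))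
    apply hy
    have : y = (xa⁻¹ * 1)⁻¹ * (xa⁻¹ * y) := by group
    rw [this]; exact H.mul_mem (H.inv_mem k1) k2
  -- the finite sets
  let D : Finset G := Finset.univ.filter (fun d => IsConj z d)
  let DH : Finset G := Finset.univ.filter (fun d => IsConj z d ∧ d ∈ H)
  let S : Finset G := Finset.univ.filter (fun j => IsConj z j ∧ y⁻¹ * j ∈ H)
  have hcardD : Nat.card {x : G // IsConj z x} = D.card :=
    Nat.subtype_card D (fun x => by simp [D])
  have hDH : DH ⊆ D := by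
    intro d hd
    simp only [DH, D, Finset.mem_filter, Finset.mem_univ, true_and] at hd ⊢
    exact hd.1
  have hsplit : (D \ DH).card + DH.card = D.card := Finset.card_sdiff_add_card_eq_card hDH
  have hDN : Even (D \ DH).card := by
    apply s1922_even_card (D \ DH) (fun d => z * d * z⁻¹)
    · intro d hd
      simp only [DH, D, Finset.mem_sdiff, Finset.mem_filter, Finset.mem_univ, true_and,
        not_and] at hd ⊢
      obtain ⟨hd1, hd2⟩ := hd
      refine ⟨?_, fun _ hh => hd2 hd1 ?_⟩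
      · obtain ⟨c, hc⟩ := isConj_iff.mp hd1
        exact isConj_iff.mpr ⟨z * c, by rw [← hc]; group⟩
      · have : d = z⁻¹ * (z * d * z⁻¹) * z := by group
        rw [this]; exact H.mul_mem (H.mul_mem (H.inv_mem hzH) hh) hzH
    · intro d _
      have : z * (z * d * z⁻¹) * z⁻¹ = (z * z) * d * (z * z)⁻¹ := by group
      rw [this, hzz, one_mul, inv_one, mul_one]
    · intro d hd hfix
      simp only [DH, D, Finset.mem_sdiff, Finset.mem_filter, Finset.mem_univ, true_and,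
        not_and] at hd
      apply hd.2 hd.1
      apply hCz
      have := mul_inv_eq_iff_eq_mul.mp hfix
      exact this.symm
  -- surjectivity construction
  have hsurj : ∀ d : G, IsConj z d → d ∈ H →
      ∃ j : G, (IsConj z j ∧ y⁻¹ * j ∈ H) ∧ j * (y * z * y⁻¹) * j⁻¹ = d := by
    intro d hdC hdH
    obtain ⟨xd, rfl⟩ := isConj_iff.mp hdC
    have hxd : xd ∈ H := by
      have := (hF1 xd 1).mp (by simpa using hdH)
      have h' : xd⁻¹ ∈ H := by simpa using this
      simpa using H.inv_mem h'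
    have hodd : Odd (orderOf ((xd * z * xd⁻¹) * (y * z * y⁻¹))) := by
      apply hO xd y
      intro h
      apply hy
      have : y = xd * (xd⁻¹ * y) := by group
      rw [this]; exact H.mul_mem hxd h
    obtain ⟨r, hr⟩ := hodd
    obtain ⟨d, hd_def⟩ : ∃ d : G, d = xd * z * xd⁻¹ := ⟨_, rfl⟩
    obtain ⟨e, he_def⟩ : ∃ e : G, e = y * z * y⁻¹ := ⟨_, rfl⟩
    rw [← hd_def, ← he_def] at hr ⊢
    rw [← hd_def] at hdC hdH
    rw [← he_def] at heC he2
    have hd2 : d * d = 1 := hsq d hdC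
    have heinv : e⁻¹ = e := hinv e heC
    have hdih := (s1922_dih d e hd2 he2 (r + 1)).2
    have hyy : (d * e) ^ (r + 1) * (d * e) ^ (r + 1) = d * e := by
      rw [← pow_add]
      have : r + 1 + (r + 1) = (2 * r + 1) + 1 := by ring
      rw [this, pow_succ, ← hr, pow_orderOf_eq_one, one_mul]
    have hy0 : (d * e) ^ (r + 1) * e * ((d * e) ^ (r + 1))⁻¹ = d := by
      have e1 : (d * e) ^ (r + 1) * e * ((d * e) ^ (r + 1))⁻¹ =
          (d * e) ^ (r + 1) * (e * ((d * e) ^ (r + 1))⁻¹ * e⁻¹) * e := by group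
      rw [e1, hdih, hyy, mul_assoc, he2, mul_one]
    have hinv2 : e * (d * e) ^ (r + 1) * e⁻¹ = ((d * e) ^ (r + 1))⁻¹ := by
      calc e * (d * e) ^ (r + 1) * e⁻¹ = (e * ((d * e) ^ (r + 1))⁻¹ * e⁻¹)⁻¹ := by group
        _ = ((d * e) ^ (r + 1))⁻¹ := by rw [hdih]
    have hj2 : ((d * e) ^ (r + 1) * e) * ((d * e) ^ (r + 1) * e) = 1 := by
      have e1 : ((d * e) ^ (r + 1) * e) * ((d * e) ^ (r + 1) * e) =
          (d * e) ^ (r + 1) * (e * (d * e) ^ (r + 1) * e⁻¹) * (e * e) := by group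
      rw [e1, hinv2, he2, mul_one, mul_inv_cancel]
    have hjC : IsConj z ((d * e) ^ (r + 1) * e) := by
      have hodd2 : Odd (orderOf (((d * e) ^ (r + 1) * e) * e)) := by
        rw [mul_assoc, he2, mul_one]
        exact Odd.of_dvd_nat ⟨r, hr⟩ (orderOf_pow_dvd (r + 1))
      exact heC.trans (isConj_of_odd_orderOf_mul _ e hj2 he2 hodd2).symm
    refine ⟨(d * e) ^ (r + 1) * e, ⟨hjC, ?_⟩, ?_⟩
    · -- y⁻¹ * j ∈ H
      have hu : xd⁻¹ * (d * e) ^ (r + 1) * y ∈ H := by
        apply hCz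
        have e1 : xd⁻¹ * (d * e) ^ (r + 1) * y * z * (xd⁻¹ * (d * e) ^ (r + 1) * y)⁻¹ =
            xd⁻¹ * ((d * e) ^ (r + 1) * (y * z * y⁻¹) * ((d * e) ^ (r + 1))⁻¹) * xd := by group
        have e2 : xd⁻¹ * (d * e) ^ (r + 1) * y * z * (xd⁻¹ * (d * e) ^ (r + 1) * y)⁻¹ = z := by
          rw [e1, ← he_def, hy0, hd_def]; group
        exact mul_inv_eq_iff_eq_mul.mp e2
      have hjyH : (d * e) ^ (r + 1) * e * y ∈ H := by
        have : (d * e) ^ (r + 1) * e * y = xd * (xd⁻¹ * (d * e) ^ (r + 1) * y) * z := by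
          rw [he_def]; group
        rw [this]; exact H.mul_mem (H.mul_mem hxd hu) hzH
      have : y⁻¹ * ((d * e) ^ (r + 1) * e) = ((d * e) ^ (r + 1) * e * y)⁻¹ := by
        rw [mul_inv_rev, hinv _ hjC]
      rw [this]; exact H.inv_mem hjyH
    · have e1 : (d * e) ^ (r + 1) * e * e * ((d * e) ^ (r + 1) * e)⁻¹ =
          (d * e) ^ (r + 1) * e * ((d * e) ^ (r + 1))⁻¹ := by group
      rw [e1, hy0]
  -- injectivity
  have hinj : ∀ j j' : G, IsConj z j → y⁻¹ * j ∈ H → IsConj z j' → y⁻¹ * j' ∈ H →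
      j * (y * z * y⁻¹) * j⁻¹ = j' * (y * z * y⁻¹) * j'⁻¹ → j = j' := by
    intro j j' hjC hjH hj'C hj'H heq
    obtain ⟨e, he_def⟩ : ∃ e : G, e = y * z * y⁻¹ := ⟨_, rfl⟩
    rw [← he_def] at heq
    have hj2 := hsq j hjC
    have hj'2 := hsq j' hj'C
    -- j' * j has odd order
    have hodd1 : Odd (orderOf (j' * j)) := by
      by_contra hne
      rw [Nat.not_odd_iff_even] at hne
      obtain ⟨s, hs⟩ := hne
      have hs0 : s ≠ 0 := by
        rintro rfl
        have := orderOf_pos (j' * j)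
        omega
      obtain ⟨x', hx'⟩ := isConj_iff.mp hj'C
      have hcH : j' * j ∈ H := by
        have : j' * j = (j' * y) * (y⁻¹ * j) := by group
        rw [this]; exact H.mul_mem (hjy j' hj'C hj'H) hjH
      have hcH' : y⁻¹ * (j' * j) * y ∈ H := by
        have : y⁻¹ * (j' * j) * y = (y⁻¹ * j') * (j * y) := by group
        rw [this]; exact H.mul_mem hj'H (hjy j hjC hjH)
      have k1 := hO' x' j hjC s hs0 (by rw [hx', hs, two_mul]) 1 (by
        rw [hx']
        have : (1 : G)⁻¹ * (j' * j) ^ s * 1 = (j' * j) ^ s := by group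
        rw [this]; exact H.pow_mem hcH s)
      have k2 := hO' x' j hjC s hs0 (by rw [hx', hs, two_mul]) y (by
        rw [hx']
        have : y⁻¹ * (j' * j) ^ s * y = (y⁻¹ * (j' * j) * y) ^ s := by
          have h6 := conj_pow (a := y⁻¹) (b := j' * j) (i := s)
          rw [inv_inv] at h6
          exact h6.symm
        rw [this]; exact H.pow_mem hcH' s)
      apply hy
      have : y = (x'⁻¹ * 1)⁻¹ * (x'⁻¹ * y) := by group
      rw [this]; exact H.mul_mem (H.inv_mem k1) k2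
    -- j * e has odd order
    have hodd2 : Odd (orderOf (j * e)) := by
      obtain ⟨xj, hxj⟩ := isConj_iff.mp hjC
      have := hO xj y (by
        intro h
        have h7 := (hF1 xj y).mpr h
        rw [hxj] at h7
        apply hy
        have : y = (y⁻¹ * j)⁻¹ * (y⁻¹ * j * y) := by group
        rw [this]; exact H.mul_mem (H.inv_mem hjH) h7)
      rw [hxj, ← he_def] at this
      exact this
    have hcec : (j' * j) * e * (j' * j)⁻¹ = e := by
      calc (j' * j) * e * (j' * j)⁻¹ = j' * (j * e * j⁻¹) * j'⁻¹ := by group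
        _ = j' * (j' * e * j'⁻¹) * j'⁻¹ := by rw [heq]
        _ = (j' * j') * e * (j' * j')⁻¹ := by group
        _ = e := by rw [hj'2, one_mul, inv_one, mul_one]
    have hce : (j' * j) * e = e * (j' * j) := mul_inv_eq_iff_eq_mul.mp hcec
    have hx : (j * e) * (j' * j) * (j * e)⁻¹ = (j' * j)⁻¹ := by
      calc (j * e) * (j' * j) * (j * e)⁻¹ = j * (e * (j' * j)) * e⁻¹ * j⁻¹ := by group
        _ = j * ((j' * j) * e) * e⁻¹ * j⁻¹ := by rw [hce]
        _ = j * j' := by group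
        _ = (j' * j)⁻¹ := by rw [mul_inv_rev, hinv j hjC, hinv j' hj'C]
    have hcc : (j' * j)⁻¹ = j' * j := inv_eq_self_of_odd_conj (j * e) (j' * j) hx hodd2
    have hc1 : (j' * j) ^ 2 = 1 := by
      rw [pow_two]
      nth_rewrite 1 [← hcc]
      exact inv_mul_cancel _
    have hdvd : orderOf (j' * j) ∣ 2 := orderOf_dvd_of_pow_eq_one hc1
    rcases (Nat.dvd_prime Nat.prime_two).mp hdvd with h | h
    · have h8 : j' * j = 1 := orderOf_eq_one_iff.mp h
      have h9 := eq_inv_of_mul_eq_one_right h8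
      rw [h9, hinv j' hj'C]
    · rw [h] at hodd1
      exact absurd hodd1 (by decide)
  have hcard : S.card = DH.card := by
    apply Finset.card_bij (fun j _ => j * (y * z * y⁻¹) * j⁻¹)
    · intro j hj
      simp only [S, DH, Finset.mem_filter, Finset.mem_univ, true_and] at hj ⊢
      obtain ⟨hjC, hjH⟩ := hj
      have e1 : j * (y * z * y⁻¹) * j⁻¹ = (j * y) * z * (j * y)⁻¹ := by group
      refine ⟨isConj_iff.mpr ⟨j * y, e1.symm⟩, ?_⟩
      have h7 := (hF1 (j * y) 1).mpr (by simpa using H.inv_mem (hjy j hjC hjH))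
      rw [e1]
      simpa using h7
    · intro j hj j' hj' heq
      simp only [S, Finset.mem_filter, Finset.mem_univ, true_and] at hj hj'
      exact hinj j j' hj.1 hj.2 hj'.1 hj'.2 heq
    · intro d hd
      simp only [DH, Finset.mem_filter, Finset.mem_univ, true_and] at hd
      obtain ⟨j, hj, hjd⟩ := hsurj d hd.1 hd.2
      exact ⟨j, by simp only [S, Finset.mem_filter, Finset.mem_univ, true_and]; exact hj, hjd⟩
  -- S has odd size
  have hS : Odd S.card := by
    obtain ⟨i, ⟨hiC, hiH⟩, _⟩ := hsurj z (IsConj.refl z) hzH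
    have hiS : i ∈ S := by
      simp only [S, Finset.mem_filter, Finset.mem_univ, true_and]; exact ⟨hiC, hiH⟩
    have hev : Even (S.erase i).card := by
      apply s1922_even_card (S.erase i) (fun j => i * j * i⁻¹)
      · intro j hj
        simp only [S, Finset.mem_erase, Finset.mem_filter, Finset.mem_univ, true_and] at hj ⊢
        obtain ⟨hji, hjC, hjH⟩ := hj
        refine ⟨?_, ?_, ?_⟩
        · intro h
          apply hji
          have := mul_inv_eq_iff_eq_mul.mp h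
          exact mul_left_cancel this
        · obtain ⟨c, hc⟩ := isConj_iff.mp hjC
          exact isConj_iff.mpr ⟨i * c, by rw [← hc]; group⟩
        · have e1 : y⁻¹ * (i * j * i⁻¹) = (y⁻¹ * i) * (j * y) * (y⁻¹ * i⁻¹) := by group
          rw [e1, hinv i hiC]
          exact H.mul_mem (H.mul_mem hiH (hjy j hjC hjH)) hiH
      · intro j _
        have : i * (i * j * i⁻¹) * i⁻¹ = (i * i) * j * (i * i)⁻¹ := by group
        rw [this, hsq i hiC, one_mul, inv_one, mul_one]
      · intro j hj hfix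
        simp only [S, Finset.mem_erase, Finset.mem_filter, Finset.mem_univ, true_and] at hj
        obtain ⟨hji, hjC, hjH⟩ := hj
        have hcomm : i * j = j * i := mul_inv_eq_iff_eq_mul.mp hfix
        exact hpair j i hjC hiC hjH hiH (fun h => hji h.symm) hcomm
    obtain ⟨k, hk⟩ := hev
    exact ⟨k, by rw [← Finset.card_erase_add_one hiS, hk]; ring⟩
  rw [hcardD, ← hsplit, ← hcard]
  exact hDN.add_odd hS

theorem s1922_sylow {G : Type*} [Group G] [Finite G] (z : G) (hz : orderOf z = 2)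
    (hodd : Odd (Nat.card {x : G // IsConj z x})) :
    ∃ P : Sylow 2 G, z ∈ (Subgroup.center ↥(P : Subgroup G)).map (P : Subgroup G).subtype := by
  haveI : Fact (Nat.Prime 2) := ⟨Nat.prime_two⟩
  have hmul := card_isConj_mul_card_centralizer z
  have hzC : z ∈ Subgroup.centralizer ({z} : Set G) := by
    rw [Subgroup.mem_centralizer_iff]
    intro h hh
    rw [Set.mem_singleton_iff] at hh
    rw [hh]
  have hpg : IsPGroup 2 (Subgroup.zpowers (⟨z, hzC⟩ : Subgroup.centralizer ({z} : Set G))) :=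
    IsPGroup.of_card (n := 1) (by rw [Nat.card_zpowers, Subgroup.orderOf_mk, hz]; rfl)
  obtain ⟨S, hS⟩ := hpg.exists_le_sylow
  have hTp : IsPGroup 2 ((S : Subgroup (Subgroup.centralizer ({z} : Set G))).map
      (Subgroup.centralizer ({z} : Set G)).subtype) := S.isPGroup'.map _
  obtain ⟨Q, hQ⟩ := hTp.exists_le_sylow
  have hcT : Nat.card ((S : Subgroup (Subgroup.centralizer ({z} : Set G))).map
      (Subgroup.centralizer ({z} : Set G)).subtype) =
      2 ^ (Nat.card (Subgroup.centralizer ({z} : Set G))).factorization 2 := by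
    rw [Subgroup.card_map_of_injective (Subgroup.subtype_injective _)]
    exact S.card_eq_multiplicity
  have hcQ : Nat.card (Q : Subgroup G) = 2 ^ (Nat.card G).factorization 2 :=
    Q.card_eq_multiplicity
  haveI : Nonempty {x : G // IsConj z x} := ⟨⟨z, IsConj.refl z⟩⟩
  have hfac : (Nat.card G).factorization 2 =
      (Nat.card (Subgroup.centralizer ({z} : Set G))).factorization 2 := by
    rw [← hmul, Nat.factorization_mul Nat.card_pos.ne' Nat.card_pos.ne', Finsupp.add_apply,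
      Nat.factorization_eq_zero_of_not_dvd (fun h => (Nat.not_even_iff_odd.mpr hodd)
        (even_iff_two_dvd.mpr h)), zero_add]
  have hTQ : (S : Subgroup (Subgroup.centralizer ({z} : Set G))).map
      (Subgroup.centralizer ({z} : Set G)).subtype = (Q : Subgroup G) :=
    Subgroup.eq_of_le_of_card_ge hQ (by rw [hcT, hcQ, hfac])
  have hzQ : z ∈ (Q : Subgroup G) := by
    rw [← hTQ]
    exact ⟨⟨z, hzC⟩, hS (Subgroup.mem_zpowers _), rfl⟩
  refine ⟨Q, ⟨⟨z, hzQ⟩, ?_, rfl⟩⟩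
  show (⟨z, hzQ⟩ : ↥(Q : Subgroup G)) ∈ Subgroup.center ↥(Q : Subgroup G)
  rw [Subgroup.mem_center_iff]
  intro g
  apply Subtype.ext
  have hg : (g : G) ∈ (S : Subgroup (Subgroup.centralizer ({z} : Set G))).map
      (Subgroup.centralizer ({z} : Set G)).subtype := by rw [hTQ]; exact g.2
  obtain ⟨c, _, hc⟩ := hg
  have hc' := Subgroup.mem_centralizer_iff.mp c.2 z (Set.mem_singleton z)
  show (g : G) * z = z * (g : G)
  rw [← hc]
  exact hc'.symm

theorem s1922_backward {G : Type*} [Group G] [Finite G] (z : G) (hz : orderOf z = 2)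
    (H : Subgroup G) (h0 : ∀ g : G, g⁻¹ * z * g ∈ H ↔ g ∈ H) (P : Sylow 2 G)
    (hzP : z ∈ (Subgroup.center ↥(P : Subgroup G)).map (P : Subgroup G).subtype)
    (t : G) (ht : IsConj z t) (hcomm : t * z = z * t)
    (hC : Subgroup.centralizer ({z * t} : Set G) ≤ H) (g : G)
    (hg : g⁻¹ * (z * t) * g ∈ H) : g ∈ H := by
  haveI : Fact (Nat.Prime 2) := ⟨Nat.prime_two⟩
  have hzz : z * z = 1 := sq_one_of_orderOf_two hz
  have hzH : z ∈ H := by
    have := (h0 1).mpr H.one_mem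
    simpa using this
  obtain ⟨w, hw, hwz⟩ := hzP
  have hwz' : (w : G) = z := hwz
  have hPz : ∀ q : G, q ∈ (P : Subgroup G) → q * z = z * q := by
    intro q hq
    have := Subgroup.mem_center_iff.mp hw ⟨q, hq⟩
    have h2 := congrArg Subtype.val this
    rw [← hwz']
    exact h2
  have hPH : (P : Subgroup G) ≤ H := by
    intro q hq
    apply (h0 q).mp
    have : q⁻¹ * z * q = z := by rw [mul_assoc, ← hPz q hq, inv_mul_cancel_left]
    rw [this]; exact hzH
  have htt : t * t = 1 := sq_one_of_orderOf_two (by rw [← orderOf_eq_of_isConj' ht]; exact hz)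
  have huu : (z * t) * (z * t) = 1 := by
    calc (z * t) * (z * t) = z * (t * z) * t := by group
      _ = z * (z * t) * t := by rw [hcomm]
      _ = (z * z) * (t * t) := by group
      _ = 1 := by rw [hzz, htt, one_mul]
  have hu'2 : (g⁻¹ * (z * t) * g) * (g⁻¹ * (z * t) * g) = 1 := by
    calc (g⁻¹ * (z * t) * g) * (g⁻¹ * (z * t) * g) = g⁻¹ * ((z * t) * (z * t)) * g := by group
      _ = 1 := by rw [huu]; group
  have hx2 : (⟨g⁻¹ * (z * t) * g, hg⟩ : ↥H) ^ 2 = 1 := by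
    apply Subtype.ext
    rw [Subgroup.coe_pow, Subgroup.coe_one, pow_two]
    exact hu'2
  have hord := (Nat.dvd_prime Nat.prime_two).mp (orderOf_dvd_of_pow_eq_one hx2)
  have hpg : IsPGroup 2 (Subgroup.zpowers (⟨g⁻¹ * (z * t) * g, hg⟩ : ↥H)) := by
    rcases hord with h | h
    · exact IsPGroup.of_card (n := 0) (by rw [Nat.card_zpowers, h]; rfl)
    · exact IsPGroup.of_card (n := 1) (by rw [Nat.card_zpowers, h]; rfl)
  obtain ⟨Q, hQ⟩ := hpg.exists_le_sylow
  obtain ⟨h, hh⟩ := MulAction.exists_smul_eq ↥H (P.subtype hPH) Q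
  have hxQ : (⟨g⁻¹ * (z * t) * g, hg⟩ : ↥H) ∈ (Q : Subgroup ↥H) := hQ (Subgroup.mem_zpowers _)
  rw [← hh, Cfsg.Agent.Lib.Helper4.sylow_smul_coe_eq_map_conj] at hxQ
  obtain ⟨q, hq, hqx⟩ := hxQ
  rw [Sylow.coe_subtype] at hq
  have hq : (q : G) ∈ (P : Subgroup G) := Subgroup.mem_subgroupOf.mp hq
  have hqx' : (h : G) * (q : G) * (h : G)⁻¹ = g⁻¹ * (z * t) * g := congrArg Subtype.val hqx
  have hqz := hPz (q : G) hq
  -- (g h) z (g h)⁻¹ centralizes z * t
  have hv : g * h * z * (g * h : G)⁻¹ ∈ Subgroup.centralizer ({z * t} : Set G) := by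
    rw [Subgroup.mem_centralizer_iff]
    intro u hu
    rw [Set.mem_singleton_iff] at hu
    rw [hu]
    have e1 : z * t = g * ((h : G) * (q : G) * (h : G)⁻¹) * g⁻¹ := by rw [hqx']; group
    rw [e1]
    calc g * ((h : G) * (q : G) * (h : G)⁻¹) * g⁻¹ * (g * h * z * (g * h : G)⁻¹)
        = g * h * ((q : G) * z) * (h : G)⁻¹ * g⁻¹ := by group
      _ = g * h * (z * (q : G)) * (h : G)⁻¹ * g⁻¹ := by rw [hqz]
      _ = g * h * z * (g * h : G)⁻¹ * (g * ((h : G) * (q : G) * (h : G)⁻¹) * g⁻¹) := by group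
  have hvH := hC hv
  have hgh : (g * h : G)⁻¹ ∈ H := by
    apply (h0 _).mp
    rw [inv_inv]
    exact hvH
  have : g = ((g * h : G)⁻¹)⁻¹ * (h : G)⁻¹ := by group
  rw [this]
  exact H.mul_mem (H.inv_mem hgh) (H.inv_mem h.2)

theorem s1922_final {G : Type*} [Group G] [Finite G] (z : G) (hz : orderOf z = 2) (H : Subgroup G)
    (hH : H ≠ ⊤) (h0 : ∀ g : G, z ∈ H.map (MulAut.conj g).toMonoidHom ↔ g ∈ H) :
    (∀ t : G, IsConj z t → t ≠ z → t * z = z * t →
        ∀ g : G, z * t ∈ H.map (MulAut.conj g).toMonoidHom ↔ g ∈ H) ↔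
      ((∃ P : Sylow 2 G, z ∈ (Subgroup.center ↥(P : Subgroup G)).map (P : Subgroup G).subtype) ∧
        ∀ t : G, IsConj z t → t ≠ z → t * z = z * t →
          Subgroup.centralizer ({z * t} : Set G) ≤ H) := by
  have h0' : ∀ g : G, g⁻¹ * z * g ∈ H ↔ g ∈ H := fun g => by
    rw [← s1922_mem_conj]; exact h0 g
  have hzH : z ∈ H := by
    have := (h0' 1).mpr H.one_mem
    simpa using this
  have hCz : ∀ u : G, u * z = z * u → u ∈ H := by
    intro u hu
    apply (h0' u).mp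
    have : u⁻¹ * z * u = z := by rw [mul_assoc, ← hu, inv_mul_cancel_left]
    rw [this]; exact hzH
  constructor
  · intro h1
    have h1' : ∀ t : G, IsConj z t → t ≠ z → t * z = z * t →
        ∀ g : G, g⁻¹ * (z * t) * g ∈ H → g ∈ H := by
      intro t ht hne hcomm g hg
      exact (h1 t ht hne hcomm g).mp ((s1922_mem_conj H g (z * t)).mpr hg)
    refine ⟨s1922_sylow z hz (s1922_odd z hz H hH h0' h1'), ?_⟩
    intro t ht hne hcomm x hx
    apply h1' t ht hne hcomm x
    have hzt : z * t ∈ H := by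
      have := (h1 t ht hne hcomm 1).mpr H.one_mem
      have h2 := (s1922_mem_conj H 1 (z * t)).mp this
      simpa using h2
    have hxc := Subgroup.mem_centralizer_iff.mp hx (z * t) (Set.mem_singleton _)
    have : x⁻¹ * (z * t) * x = z * t := by rw [mul_assoc, hxc, inv_mul_cancel_left]
    rw [this]; exact hzt
  · rintro ⟨⟨P, hP⟩, h2⟩ t ht hne hcomm g
    rw [s1922_mem_conj]
    constructor
    · intro hg
      exact s1922_backward z hz H h0' P hP t ht hcomm (h2 t ht hne hcomm) g hg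
    · intro hg
      have htH : t ∈ H := hCz t hcomm
      exact H.mul_mem (H.mul_mem (H.inv_mem hg) (H.mul_mem hzH htH)) hg

end Cfsg.Agent.Lib.Helper3
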