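import Mathlib
import Cfsg.Agent.Lib.Helper3.GlauRepl
import Cfsg.Agent.Lib.Helper4.PCore
import Cfsg.Prelude.Def_TwoFusion
import Cfsg.Prelude.Def_LocalEven

set_option autoImplicit false

namespace Cfsg.Agent.Lib.Helper3

open scoped commutatorElement

section ZJBasic

variable {G : Type*} [Group G]

/-- admissible: abelian of exponent dividing `e` (`e = 0`: abelian) -/
def AdmE (e : ℕ) (A : Subgroup G) : Prop :=
  (∀ x ∈ A, ∀ y ∈ A, x * y = y * x) ∧ ∀ a ∈ A, a ^ e = 1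

/-- the admissible subgroups of `D` of largest order -/
def famE (e : ℕ) (D : Subgroup G) : Set (Subgroup G) :=
  {A | A ≤ D ∧ AdmE e A ∧ ∀ C : Subgroup G, C ≤ D → AdmE e C → Nat.card C ≤ Nat.card A}

/-- the Thompson subgroup of `D` (with respect to `e`) -/
def jE (e : ℕ) (D : Subgroup G) : Subgroup G := sSup (famE e D)

/-- `Ω_e(Z(J(D)))`: for `e = 0` this is `Z(J(D))`. -/
def zjE (e : ℕ) (D : Subgroup G) : Subgroup G :=
  Cfsg.omegaOne e (jE e D ⊓ Subgroup.centralizer (jE e D : Set G))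

theorem AdmE.mono {e : ℕ} {A C : Subgroup G} (h : AdmE e A) (hCA : C ≤ A) : AdmE e C :=
  ⟨fun x hx y hy => h.1 x (hCA hx) y (hCA hy), fun a ha => h.2 a (hCA ha)⟩

theorem admE_bot (e : ℕ) : AdmE e (⊥ : Subgroup G) := by
  constructor
  · intro x hx y hy
    rw [Subgroup.mem_bot] at hx hy
    rw [hx, hy]
  · intro a ha
    rw [Subgroup.mem_bot] at ha
    rw [ha, one_pow]

theorem famE_nonempty [Finite G] (e : ℕ) (D : Subgroup G) : (famE e D).Nonempty := by
  obtain ⟨A, hA, hmax⟩ := Set.exists_max_image {A : Subgroup G | A ≤ D ∧ AdmE e A}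
    (fun A => Nat.card A) (Set.toFinite _) ⟨⊥, bot_le, admE_bot e⟩
  exact ⟨A, hA.1, hA.2, fun C hC hCa => hmax C ⟨hC, hCa⟩⟩

theorem AdmE.sup {e : ℕ} {A Y : Subgroup G} (hA : AdmE e A) (hY : AdmE e Y)
    (hc : ∀ y ∈ Y, ∀ a ∈ A, y * a = a * y) : AdmE e (A ⊔ Y) := by
  have heq : A ⊔ Y = Subgroup.closure ((A : Set G) ∪ Y) := by
    rw [Subgroup.closure_union, Subgroup.closure_eq, Subgroup.closure_eq]
  have hgen : ∀ x ∈ (A : Set G) ∪ Y, ∀ y ∈ (A : Set G) ∪ Y, x * y = y * x := by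
    rintro x (hx | hx) y (hy | hy)
    · exact hA.1 x hx y hy
    · exact (hc y hy x hx).symm
    · exact hc x hx y hy
    · exact hY.1 x hx y hy
  have hcomm := commute_of_mem_closure _ hgen
  rw [heq]
  refine ⟨hcomm, ?_⟩
  intro a ha
  induction ha using Subgroup.closure_induction with
  | mem x hx =>
    rcases hx with hx | hx
    · exact hA.2 x hx
    · exact hY.2 x hx
  | one => exact one_pow e
  | mul x y hx hy ihx ihy =>
    rw [(show Commute x y from hcomm x hx y hy).mul_pow, ihx, ihy, one_mul]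
  | inv x _ ihx => rw [inv_pow, ihx, inv_one]

theorem le_of_mem_famE [Finite G] {e : ℕ} {D A Y : Subgroup G} (hA : A ∈ famE e D) (hYD : Y ≤ D)
    (hY : AdmE e Y) (hc : ∀ y ∈ Y, ∀ a ∈ A, y * a = a * y) : Y ≤ A := by
  have h1 : AdmE e (A ⊔ Y) := hA.2.1.sup hY hc
  have h2 := hA.2.2 (A ⊔ Y) (sup_le hA.1 hYD) h1
  have h3 : A = A ⊔ Y := Subgroup.eq_of_le_of_card_ge le_sup_left h2
  rw [h3]; exact le_sup_right

theorem jE_le (e : ℕ) (D : Subgroup G) : jE e D ≤ D := sSup_le fun _ hA => hA.1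

theorem le_jE {e : ℕ} {D A : Subgroup G} (hA : A ∈ famE e D) : A ≤ jE e D := le_sSup hA

theorem zjE_comm (e : ℕ) (D : Subgroup G) :
    ∀ x ∈ jE e D ⊓ Subgroup.centralizer (jE e D : Set G),
      ∀ y ∈ jE e D ⊓ Subgroup.centralizer (jE e D : Set G), x * y = y * x := by
  intro x hx y hy
  have := (Subgroup.mem_inf.mp hx).2
  rw [Subgroup.mem_centralizer_iff] at this
  exact (this y (Subgroup.mem_inf.mp hy).1).symm

theorem mem_zjE_iff (e : ℕ) (D : Subgroup G) (x : G) :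
    x ∈ zjE e D ↔ (x ∈ jE e D ∧ x ∈ Subgroup.centralizer (jE e D : Set G)) ∧ x ^ e = 1 := by
  unfold zjE
  rw [mem_omegaOne_iff_of_comm e _ (zjE_comm e D), Subgroup.mem_inf]

theorem admE_zjE (e : ℕ) (D : Subgroup G) : AdmE e (zjE e D) := by
  constructor
  · intro x hx y hy
    rw [mem_zjE_iff] at hx hy
    exact zjE_comm e D x (Subgroup.mem_inf.mpr hx.1) y (Subgroup.mem_inf.mpr hy.1)
  · intro a ha
    exact ((mem_zjE_iff e D a).mp ha).2

theorem zjE_le_jE (e : ℕ) (D : Subgroup G) : zjE e D ≤ jE e D :=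
  fun x hx => ((mem_zjE_iff e D x).mp hx).1.1

theorem zjE_le_of_mem [Finite G] {e : ℕ} {D A : Subgroup G} (hA : A ∈ famE e D) :
    zjE e D ≤ A := by
  apply le_of_mem_famE hA ((zjE_le_jE e D).trans (jE_le e D)) (admE_zjE e D)
  intro y hy a ha
  have := ((mem_zjE_iff e D y).mp hy).1.2
  rw [Subgroup.mem_centralizer_iff] at this
  exact (this a (le_jE hA ha)).symm

theorem le_zjE {e : ℕ} {D B : Subgroup G} (hne : (famE e D).Nonempty)
    (hB : ∀ A ∈ famE e D, B ≤ A) : B ≤ zjE e D := by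
  obtain ⟨A₀, hA₀⟩ := hne
  intro x hx
  rw [mem_zjE_iff]
  refine ⟨⟨le_jE hA₀ (hB A₀ hA₀ hx), ?_⟩, hA₀.2.1.2 x (hB A₀ hA₀ hx)⟩
  have hle : jE e D ≤ Subgroup.centralizer ({x} : Set G) := by
    apply sSup_le
    intro A hA a ha
    rw [Subgroup.mem_centralizer_iff]
    intro y hy
    rw [Set.mem_singleton_iff] at hy
    rw [hy]
    exact hA.2.1.1 x (hB A hA hx) a ha
  rw [Subgroup.mem_centralizer_iff]
  intro j hj
  have := hle hj
  rw [Subgroup.mem_centralizer_iff] at this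
  exact (this x rfl).symm

theorem famE_of_le {e : ℕ} {D D₁ A : Subgroup G} (hD : D₁ ≤ D) (hA : A ∈ famE e D)
    (hAD₁ : A ≤ D₁) : A ∈ famE e D₁ ∧ famE e D₁ ⊆ famE e D := by
  have h1 : A ∈ famE e D₁ := ⟨hAD₁, hA.2.1, fun C hC hCa => hA.2.2 C (hC.trans hD) hCa⟩
  refine ⟨h1, ?_⟩
  intro A₁ hA₁
  refine ⟨hA₁.1.trans hD, hA₁.2.1, ?_⟩
  intro C hC hCa
  exact (hA.2.2 C hC hCa).trans (hA₁.2.2 A hAD₁ hA.2.1)

/-! ### equivariance -/

theorem admE_map {H : Type*} [Group H] {e : ℕ} (φ : G ≃* H) {A : Subgroup G} (h : AdmE e A) :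
    AdmE e (A.map φ.toMonoidHom) := by
  constructor
  · rintro _ ⟨x, hx, rfl⟩ _ ⟨y, hy, rfl⟩
    show φ x * φ y = φ y * φ x
    rw [← map_mul, ← map_mul, h.1 x hx y hy]
  · rintro _ ⟨a, ha, rfl⟩
    show φ a ^ e = 1
    rw [← map_pow, h.2 a ha, map_one]

theorem map_symm_map {H : Type*} [Group H] (φ : G ≃* H) (A : Subgroup G) :
    (A.map φ.toMonoidHom).map φ.symm.toMonoidHom = A := by
  rw [Subgroup.map_map]
  have : φ.symm.toMonoidHom.comp φ.toMonoidHom = MonoidHom.id G := by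
    ext x; simp
  rw [this, Subgroup.map_id]

theorem map_map_symm {H : Type*} [Group H] (φ : G ≃* H) (A : Subgroup H) :
    (A.map φ.symm.toMonoidHom).map φ.toMonoidHom = A := by
  rw [Subgroup.map_map]
  have : φ.toMonoidHom.comp φ.symm.toMonoidHom = MonoidHom.id H := by
    ext x; simp
  rw [this, Subgroup.map_id]

theorem famE_map {H : Type*} [Group H] {e : ℕ} (φ : G ≃* H) {D A : Subgroup G}
    (hA : A ∈ famE e D) : A.map φ.toMonoidHom ∈ famE e (D.map φ.toMonoidHom) := by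
  refine ⟨Subgroup.map_mono hA.1, admE_map φ hA.2.1, ?_⟩
  intro C hC hCa
  have h1 : C.map φ.symm.toMonoidHom ≤ D := by
    have := Subgroup.map_mono (f := φ.symm.toMonoidHom) hC
    rwa [map_symm_map] at this
  have h2 := hA.2.2 _ h1 (admE_map φ.symm hCa)
  rw [Subgroup.card_map_of_injective φ.symm.injective] at h2
  rw [Subgroup.card_map_of_injective φ.injective]; exact h2

theorem jE_map_le {H : Type*} [Group H] (e : ℕ) (φ : G ≃* H) (D : Subgroup G) :
    (jE e D).map φ.toMonoidHom ≤ jE e (D.map φ.toMonoidHom) := by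
  rw [Subgroup.map_le_iff_le_comap]
  apply sSup_le
  intro A hA
  rw [← Subgroup.map_le_iff_le_comap]
  exact le_sSup (famE_map φ hA)

theorem jE_map {H : Type*} [Group H] (e : ℕ) (φ : G ≃* H) (D : Subgroup G) :
    jE e (D.map φ.toMonoidHom) = (jE e D).map φ.toMonoidHom := by
  apply le_antisymm _ (jE_map_le e φ D)
  have h1 := jE_map_le e φ.symm (D.map φ.toMonoidHom)
  rw [map_symm_map] at h1
  have h2 := Subgroup.map_mono (f := φ.toMonoidHom) h1
  rwa [map_map_symm] at h2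

theorem zjE_map_le {H : Type*} [Group H] (e : ℕ) (φ : G ≃* H) (D : Subgroup G) :
    (zjE e D).map φ.toMonoidHom ≤ zjE e (D.map φ.toMonoidHom) := by
  rintro _ ⟨x, hx, rfl⟩
  rw [SetLike.mem_coe] at hx
  rw [mem_zjE_iff] at hx ⊢
  rw [jE_map]
  refine ⟨⟨⟨x, hx.1.1, rfl⟩, ?_⟩, ?_⟩
  · rw [Subgroup.mem_centralizer_iff]
    rintro _ ⟨y, hy, rfl⟩
    have := hx.1.2
    rw [Subgroup.mem_centralizer_iff] at this
    show φ y * φ x = φ x * φ y
    rw [← map_mul, ← map_mul, this y hy]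
  · show φ x ^ e = 1
    rw [← map_pow, hx.2, map_one]

theorem zjE_map {H : Type*} [Group H] (e : ℕ) (φ : G ≃* H) (D : Subgroup G) :
    zjE e (D.map φ.toMonoidHom) = (zjE e D).map φ.toMonoidHom := by
  apply le_antisymm _ (zjE_map_le e φ D)
  have h1 := zjE_map_le e φ.symm (D.map φ.toMonoidHom)
  rw [map_symm_map] at h1
  have h2 := Subgroup.map_mono (f := φ.toMonoidHom) h1
  rwa [map_map_symm] at h2

theorem zjE_conj_mem (e : ℕ) (D : Subgroup G) (g : G)
    (hg : D.map (MulAut.conj g).toMonoidHom = D) {x : G} (hx : x ∈ zjE e D) :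
    g * x * g⁻¹ ∈ zjE e D := by
  have h1 := zjE_map e (MulAut.conj g) D
  rw [hg] at h1
  rw [h1]
  exact ⟨x, hx, rfl⟩

theorem map_conj_eq_of_forall [Finite G] (D : Subgroup G) (g : G)
    (h : ∀ x ∈ D, g * x * g⁻¹ ∈ D) : D.map (MulAut.conj g).toMonoidHom = D := by
  have hle : D.map (MulAut.conj g).toMonoidHom ≤ D := by
    rintro _ ⟨x, hx, rfl⟩
    exact h x hx
  apply Subgroup.eq_of_le_of_card_ge hle
  rw [card_map_conj]

end ZJBasic

section ZJRepl

variable {G : Type*} [Group G]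

theorem admE_map_subtype_iff {e : ℕ} (P : Subgroup G) (A₀ : Subgroup ↥P) :
    AdmE e (A₀.map P.subtype) ↔ AdmE e A₀ := by
  constructor
  · intro h
    refine ⟨fun x hx y hy => Subtype.ext (h.1 x.1 ⟨x, hx, rfl⟩ y.1 ⟨y, hy, rfl⟩),
      fun a ha => Subtype.ext ?_⟩
    have := h.2 a.1 ⟨a, ha, rfl⟩
    exact this
  · intro h
    constructor
    · rintro _ ⟨x, hx, rfl⟩ _ ⟨y, hy, rfl⟩
      exact congrArg Subtype.val (h.1 x hx y hy)
    · rintro _ ⟨a, ha, rfl⟩
      exact congrArg Subtype.val (h.2 a ha)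

/-- Glauberman replacement for the family `famE e D` inside a `p`-subgroup `P` of `G`. -/
theorem famE_replacement [Finite G] {p : ℕ} [Fact p.Prime] (hp : p ≠ 2) (e : ℕ)
    (he : e = 0 ∨ Odd e) (P : Subgroup G) (hP : IsPGroup p P) (D : Subgroup G) (hDP : D ≤ P)
    (hDn : ∀ g ∈ P, ∀ x ∈ D, g * x * g⁻¹ ∈ D)
    (B : Subgroup G) (hBP : B ≤ P) (hBn : ∀ g ∈ P, ∀ x ∈ B, g * x * g⁻¹ ∈ B)
    (hU : ∃ U ∈ famE e D, ⁅B, B⁆ ≤ U ∧ ¬ B ≤ U) :
    ∃ A ∈ famE e D, ⁅B, B⁆ ≤ A ∧ ¬ B ≤ A ∧ B ≤ Subgroup.normalizer (A : Set G) := by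
  classical
  obtain ⟨U, hUmem, hBU, hBnU⟩ := hU
  have hDn' : (D.subgroupOf P).Normal := ⟨fun n hn g => by
    rw [Subgroup.mem_subgroupOf] at hn ⊢
    exact hDn g.1 g.2 n.1 hn⟩
  have hBn' : (B.subgroupOf P).Normal := ⟨fun n hn g => by
    rw [Subgroup.mem_subgroupOf] at hn ⊢
    exact hBn g.1 g.2 n.1 hn⟩
  have hPstar : ∀ (A B : Subgroup ↥P) (b : ↥P), AdmE e A → GlauHyp A B b →
      (∀ x ∈ A, ∀ y ∈ A, gM b x * gM b y = gM b y * gM b x) → AdmE e (gStar A b) := by
    intro A B b hA hG hm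
    refine ⟨hG.gStar_comm hm, ?_⟩
    rcases he with he | he
    · intro a _; rw [he, pow_zero]
    · exact hG.pow_eq_one_of_mem_gStar hm e he hA.2
  have hU' : ∃ U₀, U₀ ≤ D.subgroupOf P ∧ AdmE e U₀ ∧
      (∀ C, C ≤ D.subgroupOf P → AdmE e C → Nat.card C ≤ Nat.card U₀) ∧
      ⁅B.subgroupOf P, B.subgroupOf P⁆ ≤ U₀ ∧ ¬ B.subgroupOf P ≤ U₀ := by
    refine ⟨U.subgroupOf P, ?_, ?_, ?_, ?_, ?_⟩
    · intro x hx
      rw [Subgroup.mem_subgroupOf] at hx ⊢
      exact hUmem.1 hx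
    · rw [← admE_map_subtype_iff, Subgroup.map_subgroupOf_eq_of_le (hUmem.1.trans hDP)]
      exact hUmem.2.1
    · intro C hC hCa
      have hCD : C.map P.subtype ≤ D := by
        rintro _ ⟨x, hx, rfl⟩
        exact Subgroup.mem_subgroupOf.mp (hC hx)
      have h1 := hUmem.2.2 (C.map P.subtype) hCD ((admE_map_subtype_iff P C).mpr hCa)
      rw [Subgroup.card_map_of_injective P.subtype_injective] at h1
      rw [Nat.card_congr (Subgroup.subgroupOfEquivOfLe (hUmem.1.trans hDP)).toEquiv]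
      exact h1
    · rw [Subgroup.commutator_le]
      intro g₁ hg₁ g₂ hg₂
      rw [Subgroup.mem_subgroupOf] at hg₁ hg₂ ⊢
      exact hBU (Subgroup.commutator_mem_commutator hg₁ hg₂)
    · intro hle
      apply hBnU
      intro x hx
      have := hle (show (⟨x, hBP hx⟩ : ↥P) ∈ B.subgroupOf P from Subgroup.mem_subgroupOf.mpr hx)
      exact Subgroup.mem_subgroupOf.mp this
  obtain ⟨A₀, hA₀D, hA₀, hA₀max, hBA₀, hBnA₀, hBN⟩ :=
    replacement_family (S := ↥P) hP hp (D.subgroupOf P) (AdmE e) (fun A hA => hA.1) hPstar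
      (B.subgroupOf P) hU'
  have hAP : A₀.map P.subtype ≤ P := Subgroup.map_subtype_le A₀
  refine ⟨A₀.map P.subtype, ⟨?_, (admE_map_subtype_iff P A₀).mpr hA₀, ?_⟩, ?_, ?_, ?_⟩
  · rintro _ ⟨x, hx, rfl⟩
    exact Subgroup.mem_subgroupOf.mp (hA₀D hx)
  · intro C hC hCa
    have hCD : C.subgroupOf P ≤ D.subgroupOf P := by
      intro x hx
      rw [Subgroup.mem_subgroupOf] at hx ⊢
      exact hC hx
    have hCa' : AdmE e (C.subgroupOf P) := by
      rw [← admE_map_subtype_iff, Subgroup.map_subgroupOf_eq_of_le (hC.trans hDP)]; exact hCa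
    have h1 := hA₀max (C.subgroupOf P) hCD hCa'
    rw [Nat.card_congr (Subgroup.subgroupOfEquivOfLe (hC.trans hDP)).toEquiv] at h1
    rw [Subgroup.card_map_of_injective P.subtype_injective]; exact h1
  · have h1 := Subgroup.map_mono (f := P.subtype) hBA₀
    rw [Subgroup.map_commutator, Subgroup.map_subgroupOf_eq_of_le hBP] at h1
    exact h1
  · intro hle
    apply hBnA₀
    intro x hx
    rw [Subgroup.mem_subgroupOf] at hx
    obtain ⟨y, hy, hyx⟩ := hle hx
    have : y = x := Subtype.ext hyx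
    rw [← this]; exact hy
  · intro b hb
    have h1 := hBN (show (⟨b, hBP hb⟩ : ↥P) ∈ B.subgroupOf P from Subgroup.mem_subgroupOf.mpr hb)
    have h2 : (A₀.map P.subtype).subgroupOf P = A₀ :=
      Subgroup.comap_map_eq_self_of_injective P.subtype_injective A₀
    rw [← h2, ← Subgroup.subgroupOf_normalizer_eq hAP, Subgroup.mem_subgroupOf] at h1
    exact h1

end ZJRepl

section ZJMain

variable {G : Type*} [Group G]

/-- abstract `p`-stability on normal `p`-subgroups (for `p`-elements). -/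
def PStab (p : ℕ) (G : Type*) [Group G] : Prop :=
  ∀ V : Subgroup G, V.Normal → IsPGroup p V → ∀ a : G, (∃ n : ℕ, a ^ p ^ n = 1) →
    ⁅⁅V, Subgroup.zpowers a⁆, Subgroup.zpowers a⁆ = ⊥ →
    ∃ K : Subgroup G, K.Normal ∧ Subgroup.centralizer (V : Set G) ≤ K ∧
      (∀ k ∈ K, ∃ n : ℕ, k ^ p ^ n ∈ Subgroup.centralizer (V : Set G)) ∧ a ∈ K

theorem quad_of_normalizes {V A : Subgroup G} (hA : ∀ x ∈ A, ∀ y ∈ A, x * y = y * x)
    (hVA : ∀ v ∈ V, ∀ a ∈ A, v * a * v⁻¹ ∈ A) {a : G} (ha : a ∈ A) :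
    ⁅⁅V, Subgroup.zpowers a⁆, Subgroup.zpowers a⁆ = ⊥ := by
  have hz : Subgroup.zpowers a ≤ A := by rw [Subgroup.zpowers_le]; exact ha
  have h1 : ⁅V, Subgroup.zpowers a⁆ ≤ A := by
    rw [Subgroup.commutator_le]
    intro v hv x hx
    have := hVA v hv x (hz hx)
    rw [commutatorElement_def]
    exact mul_mem this (inv_mem (hz hx))
  rw [eq_bot_iff]
  calc ⁅⁅V, Subgroup.zpowers a⁆, Subgroup.zpowers a⁆ ≤ ⁅A, A⁆ := Subgroup.commutator_mono h1 hz
    _ = ⊥ := by
      rw [Subgroup.commutator_eq_bot_iff_le_centralizer]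
      intro x hx
      rw [Subgroup.mem_centralizer_iff]
      intro y hy
      exact hA y hy x hx

theorem commutator_ne_self_of_isPGroup [Finite G] {p : ℕ} [Fact p.Prime] (B : Subgroup G)
    (hBp : IsPGroup p B) (hB : B ≠ ⊥) : ⁅B, B⁆ ≠ B := by
  intro h
  have hnil : Group.IsNilpotent ↥B := hBp.isNilpotent
  have hnt : Nontrivial ↥B := (Subgroup.nontrivial_iff_ne_bot B).mpr hB
  have hlt := Group.IsSolvable.commutator_lt_top_of_nontrivial ↥B
  apply hlt.ne
  apply Subgroup.map_injective B.subtype_injective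
  rw [Subgroup.map_subtype_commutator, h, ← MonoidHom.range_eq_map, Subgroup.range_subtype]

theorem comm_mem_of_normalClosure {T B : Subgroup G} (hT : T.Normal) (X : Set G)
    (h : ∀ x ∈ X, ∀ g : G, ∀ b ∈ B, (g * x * g⁻¹) * b * (g * x * g⁻¹)⁻¹ * b⁻¹ ∈ T) :
    ∀ y ∈ Subgroup.normalClosure X, ∀ b ∈ B, y * b * y⁻¹ * b⁻¹ ∈ T := by
  intro y hy b hb
  unfold Subgroup.normalClosure at hy
  induction hy using Subgroup.closure_induction with
  | mem y hy =>
    rw [Group.mem_conjugatesOfSet_iff] at hy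
    obtain ⟨x, hx, hxy⟩ := hy
    rw [isConj_iff] at hxy
    obtain ⟨c, rfl⟩ := hxy
    exact h x hx c b hb
  | one => simp
  | mul y₁ y₂ _ _ ih₁ ih₂ =>
    have e : y₁ * y₂ * b * (y₁ * y₂)⁻¹ * b⁻¹
        = (y₁ * (y₂ * b * y₂⁻¹ * b⁻¹) * y₁⁻¹) * (y₁ * b * y₁⁻¹ * b⁻¹) := by group
    rw [e]; exact mul_mem (hT.conj_mem _ ih₂ y₁) ih₁
  | inv y _ ih =>
    have e : y⁻¹ * b * y⁻¹⁻¹ * b⁻¹ = y⁻¹ * (y * b * y⁻¹ * b⁻¹)⁻¹ * y⁻¹⁻¹ := by group
    rw [e]; exact hT.conj_mem _ (inv_mem ih) y⁻¹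

theorem zj_card_mul_relIndex (H K : Subgroup G) (h : H ≤ K) :
    Nat.card ↥H * H.relIndex K = Nat.card ↥K := by
  have := Subgroup.relIndex_mul_relIndex (⊥ : Subgroup G) H K bot_le h
  rwa [Subgroup.relIndex_bot_left, Subgroup.relIndex_bot_left] at this

/-- For `M` normal, `|M : S ∩ M|` divides `|X : S|`. -/
theorem zj_relIndex_normal_dvd_index [Finite G] (S M : Subgroup G) [M.Normal] :
    S.relIndex M ∣ S.index := by
  have e1 := zj_card_mul_relIndex (S ⊓ M) M inf_le_right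
  have e2 := zj_card_mul_relIndex M (S ⊔ M) le_sup_right
  have e3 := zj_card_mul_relIndex (S ⊓ M) S inf_le_left
  have e4 := zj_card_mul_relIndex S (S ⊔ M) le_sup_left
  rw [Subgroup.inf_relIndex_right] at e1
  rw [Subgroup.inf_relIndex_left] at e3
  rw [Subgroup.relIndex_sup_right] at e2
  have hpos : 0 < Nat.card ↥(S ⊓ M) * M.relIndex S := by
    rw [e3]; exact Nat.card_pos
  have h5 : Nat.card ↥(S ⊓ M) * M.relIndex S * S.relIndex M =
      Nat.card ↥(S ⊓ M) * M.relIndex S * S.relIndex (S ⊔ M) := by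
    calc Nat.card ↥(S ⊓ M) * M.relIndex S * S.relIndex M
        = Nat.card ↥(S ⊓ M) * S.relIndex M * M.relIndex S := by ring
      _ = Nat.card ↥(S ⊔ M : Subgroup G) := by rw [e1, e2]
      _ = Nat.card ↥(S ⊓ M) * M.relIndex S * S.relIndex (S ⊔ M) := by rw [e3, e4]
  have h6 := Nat.eq_of_mul_eq_mul_left hpos h5
  rw [h6]
  exact Subgroup.relIndex_dvd_index_of_le le_sup_left

/-- Frattini argument for a normal subgroup `K` with `K/C` a `p`-group: `G = N_G(P ∩ K) C`. -/
theorem exists_mul_of_pQuotient [Finite G] {p : ℕ} [Fact p.Prime] (P : Sylow p G)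
    (K C : Subgroup G) (hKn : K.Normal) (hCn : C.Normal) (_hCK : C ≤ K)
    (hKC : ∀ k ∈ K, ∃ n : ℕ, k ^ p ^ n ∈ C) :
    ∀ g : G, ∃ m ∈ Subgroup.normalizer ((((P : Subgroup G) ⊓ K : Subgroup G)) : Set G),
      ∃ c ∈ C, g = m * c := by
  obtain ⟨P₁, hP₁⟩ : ∃ P₁ : Subgroup G, P₁ = (P : Subgroup G) ⊓ K := ⟨_, rfl⟩
  rw [← hP₁]
  have hP₁K : P₁ ≤ K := hP₁ ▸ inf_le_right
  have hidx : ¬ p ∣ P₁.relIndex K := by
    rw [hP₁, Subgroup.inf_relIndex_right]
    intro h
    exact P.not_dvd_index (h.trans (zj_relIndex_normal_dvd_index (P : Subgroup G) K))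
  -- K ≤ P₁ ⊔ C
  have hKle : K ≤ P₁ ⊔ C := by
    rw [← Subgroup.relIndex_eq_one]
    have h1 : (P₁ ⊔ C).relIndex K ∣ P₁.relIndex K := Subgroup.relIndex_dvd_of_le_left K le_sup_left
    have h2 : (P₁ ⊔ C).relIndex K ∣ C.relIndex K := Subgroup.relIndex_dvd_of_le_left K le_sup_right
    have h3 : ∃ m : ℕ, C.relIndex K = p ^ m := by
      have hn : (C.subgroupOf K).Normal := hCn.subgroupOf K
      have hpg : IsPGroup p (↥K ⧸ C.subgroupOf K) := by
        intro q
        obtain ⟨k, rfl⟩ := QuotientGroup.mk_surjective q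
        obtain ⟨n, hn⟩ := hKC k.1 k.2
        refine ⟨n, ?_⟩
        rw [← QuotientGroup.mk_pow, QuotientGroup.eq_one_iff, Subgroup.mem_subgroupOf]
        exact hn
      obtain ⟨m, hm⟩ := IsPGroup.iff_card.mp hpg
      exact ⟨m, hm⟩
    obtain ⟨m, hm⟩ := h3
    rw [hm] at h2
    obtain ⟨j, _, hj⟩ := (Nat.dvd_prime_pow Fact.out).mp h2
    rcases Nat.eq_zero_or_pos j with hj0 | hjpos
    · rw [hj, hj0, pow_zero]
    · exfalso
      apply hidx
      exact (hj ▸ dvd_pow_self p hjpos.ne').trans h1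
  -- Frattini
  have hp1 : IsPGroup p ↥(P₁.subgroupOf K) :=
    IsPGroup.comap_subtype (hP₁ ▸ P.isPGroup'.to_le inf_le_left)
  have hfr := Sylow.normalizer_sup_eq_top (hp1.toSylow hidx)
  have hcoe : ((hp1.toSylow hidx : Sylow p ↥K) : Subgroup ↥K) = P₁.subgroupOf K :=
    IsPGroup.toSylow_coe hp1 hidx
  rw [hcoe, Subgroup.map_subgroupOf_eq_of_le hP₁K] at hfr
  intro g
  have hg : g ∈ Subgroup.normalizer (P₁ : Set G) ⊔ K := by rw [hfr]; exact Subgroup.mem_top g
  rw [← SetLike.mem_coe, Subgroup.mul_normal, Set.mem_mul] at hg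
  obtain ⟨n, hn, k, hk, rfl⟩ := hg
  have hk' := hKle hk
  rw [← SetLike.mem_coe, Subgroup.mul_normal, Set.mem_mul] at hk'
  obtain ⟨x, hx, c, hc, rfl⟩ := hk'
  exact ⟨n * x, mul_mem hn (Subgroup.le_normalizer hx), c, hc, by group⟩

/-- **Glauberman's ZJ-theorem** (abstract form, for a strongly closed subgroup `D` of a Sylow
`p`-subgroup, `p` odd): `Ω_e(Z(J_e(D)))` is normal in a `p`-stable group with
`C_G(O_p(G)) ≤ O_p(G)`. -/
theorem zj_normal [Finite G] {p : ℕ} [Fact p.Prime] (hp : p ≠ 2) (e : ℕ) (he : e = 0 ∨ Odd e)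
    (P : Sylow p G) (D : Subgroup G) (hD : Cfsg.IsStronglyClosed D (P : Subgroup G))
    (hc : Subgroup.centralizer (Cfsg.pCore p G : Set G) ≤ Cfsg.pCore p G)
    (hst : PStab p G) : (zjE e D).Normal := by
  classical
  obtain ⟨Z, hZ⟩ : ∃ Z, Z = zjE e D := ⟨_, rfl⟩
  rw [← hZ]
  obtain ⟨Q, hQ⟩ : ∃ Q, Q = Cfsg.pCore p G := ⟨_, rfl⟩
  have hQn : Q.Normal := hQ ▸ Cfsg.Agent.Lib.Helper4.pCore_normal p G
  have hQp : IsPGroup p Q := hQ ▸ Cfsg.Agent.Lib.Helper4.pCore_isPGroup p G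
  have hQP : Q ≤ P := hQ ▸ Cfsg.Agent.Lib.Helper4.pCore_le_sylow P
  have hPp : IsPGroup p (P : Subgroup G) := P.isPGroup'
  have hDP : D ≤ P := hD.1
  have hDn : ∀ g ∈ (P : Subgroup G), ∀ x ∈ D, g * x * g⁻¹ ∈ D := fun g hg x hx =>
    hD.2 x hx g (mul_mem (mul_mem hg (hDP hx)) (inv_mem hg))
  have hPZ : ∀ g ∈ (P : Subgroup G), ∀ x ∈ Z, g * x * g⁻¹ ∈ Z := by
    intro g hg x hx
    rw [hZ] at hx ⊢
    exact zjE_conj_mem e D g (map_conj_eq_of_forall D g (hDn g hg)) hx
  have hZadm : AdmE e Z := hZ ▸ admE_zjE e D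
  have hZD : Z ≤ D := hZ ▸ (zjE_le_jE e D).trans (jE_le e D)
  have hPel : ∀ z ∈ (P : Subgroup G), ∃ n : ℕ, z ^ p ^ n = 1 := fun z hz => by
    obtain ⟨n, hn⟩ := hPp ⟨z, hz⟩
    exact ⟨n, congrArg Subtype.val hn⟩
  -- Step 1: Z ≤ Q
  have hZQ : Z ≤ Q := by
    intro z hz
    have hquad : ⁅⁅Q, Subgroup.zpowers z⁆, Subgroup.zpowers z⁆ = ⊥ :=
      quad_of_normalizes hZadm.1 (fun v hv a ha => hPZ v (hQP hv) a ha) hz
    obtain ⟨K, hKn, hCK, hKC, hzK⟩ := hst Q hQn hQp z (hPel z (hDP (hZD hz))) hquad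
    have hKp : IsPGroup p K := by
      intro k
      obtain ⟨n, hn⟩ := hKC k.1 k.2
      have hkQ : (k : G) ^ p ^ n ∈ Q := by
        rw [hQ]; apply hc; rw [← hQ]; exact hn
      obtain ⟨m, hm⟩ := hQp ⟨_, hkQ⟩
      refine ⟨n + m, Subtype.ext ?_⟩
      have h1 : ((k : G) ^ p ^ n) ^ p ^ m = 1 := congrArg Subtype.val hm
      show (k : G) ^ p ^ (n + m) = 1
      rw [pow_add, pow_mul]; exact h1
    rw [hQ]; exact Cfsg.Agent.Lib.Helper4.le_pCore hKn hKp hzK
  -- Step 2: the main claim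
  have main : ∀ n : ℕ, ∀ B : Subgroup G, B.Normal → IsPGroup p B → Nat.card B ≤ n →
      (Z ⊓ B).Normal := by
    intro n
    induction n with
    | zero =>
      intro B _ _ hcard
      have := Nat.card_pos (α := B)
      omega
    | succ n ih =>
      intro B hBn hBp hcard
      have hBQ : B ≤ Q := by rw [hQ]; exact Cfsg.Agent.Lib.Helper4.le_pCore hBn hBp
      have hBP : B ≤ P := hBQ.trans hQP
      obtain ⟨Z₁, hZ₁⟩ : ∃ Z₁, Z₁ = Z ⊓ B := ⟨_, rfl⟩
      rw [← hZ₁]
      have hZ₁Z : Z₁ ≤ Z := hZ₁ ▸ inf_le_left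
      have hZ₁B : Z₁ ≤ B := hZ₁ ▸ inf_le_right
      obtain ⟨L, hL⟩ : ∃ L, L = Subgroup.normalClosure (Z₁ : Set G) := ⟨_, rfl⟩
      have hLn : L.Normal := hL ▸ Subgroup.normalClosure_normal
      have hZ₁L : Z₁ ≤ L := hL ▸ Subgroup.le_normalClosure
      have hLB : L ≤ B := by
        rw [hL]; exact Subgroup.normalClosure_le_normal hZ₁B
      by_cases hLeq : L = B
      · by_cases hBbot : B = ⊥
        · have : Z₁ = ⊥ := by rw [hZ₁, hBbot, inf_bot_eq]
          rw [this]; infer_instance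
        · obtain ⟨B', hB'⟩ : ∃ B', B' = ⁅B, B⁆ := ⟨_, rfl⟩
          have hB'n : B'.Normal := hB' ▸ Subgroup.commutator_normal B B
          have hB'B : B' ≤ B := hB' ▸ Subgroup.commutator_le_left B B
          have hB'ne : B' ≠ B := hB' ▸ commutator_ne_self_of_isPGroup B hBp hBbot
          have hB'card : Nat.card B' < Nat.card B :=
            lt_of_le_of_ne (Subgroup.card_le_of_le hB'B)
              (fun h => hB'ne (Subgroup.eq_of_le_of_card_ge hB'B h.ge))
          have hT₀ : (Z ⊓ B').Normal := ih B' hB'n (hBp.to_le hB'B) (by omega)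
          have hBB : ⁅B, B⁆ ≤ Z ⊓ B' := by
            have hgen := comm_mem_of_normalClosure (T := Z ⊓ B') (B := B) hT₀ (Z₁ : Set G) (by
              intro z hz g b hb
              have hb' : g⁻¹ * b * g ∈ B := by
                have := hBn.conj_mem b hb g⁻¹
                rwa [inv_inv] at this
              have hzZ : z ∈ Z := hZ₁Z hz
              have hzB : z ∈ B := hZ₁B hz
              have h4 : z * (g⁻¹ * b * g) * z⁻¹ * (g⁻¹ * b * g)⁻¹ ∈ Z ⊓ B' := by
                refine Subgroup.mem_inf.mpr ⟨?_, ?_⟩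
                · have h5 := hPZ _ (hBP hb') z⁻¹ (inv_mem hzZ)
                  have : z * (g⁻¹ * b * g) * z⁻¹ * (g⁻¹ * b * g)⁻¹
                      = z * ((g⁻¹ * b * g) * z⁻¹ * (g⁻¹ * b * g)⁻¹) := by group
                  rw [this]; exact mul_mem hzZ h5
                · have := Subgroup.commutator_mem_commutator hzB hb'
                  rw [commutatorElement_def] at this
                  rw [hB']; exact this
              have h6 := hT₀.conj_mem _ h4 g
              have e1 : g * z * g⁻¹ * b * (g * z * g⁻¹)⁻¹ * b⁻¹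
                  = g * (z * (g⁻¹ * b * g) * z⁻¹ * (g⁻¹ * b * g)⁻¹) * g⁻¹ := by group
              rw [e1]; exact h6)
            rw [Subgroup.commutator_le]
            intro x hx b hb
            rw [commutatorElement_def]
            exact hgen x (by rw [← hL, hLeq]; exact hx) b hb
          have hBBZ : ⁅B, B⁆ ≤ Z := hBB.trans inf_le_left
          by_cases hall : ∀ A ∈ famE e D, B ≤ A
          · have hBZ : B ≤ Z := hZ ▸ le_zjE (famE_nonempty e D) hall
            have : Z₁ = B := by rw [hZ₁]; exact inf_eq_right.mpr hBZ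
            rw [this]; exact hBn
          · exfalso
            push Not at hall
            obtain ⟨U, hU, hBU⟩ := hall
            have hZle : ∀ A ∈ famE e D, Z ≤ A := fun A hA => hZ ▸ zjE_le_of_mem hA
            obtain ⟨A, hA, hBA, hBnA, hBNA⟩ := famE_replacement hp e he P hPp D hDP hDn B hBP
              (fun g _ x hx => hBn.conj_mem x hx g) ⟨U, hU, hBBZ.trans (hZle U hU), hBU⟩
            have hAP : A ≤ P := hA.1.trans hDP
            have hquad : ∀ a ∈ A, ⁅⁅B, Subgroup.zpowers a⁆, Subgroup.zpowers a⁆ = ⊥ :=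
              fun a ha => quad_of_normalizes hA.2.1.1
                (fun v hv x hx => (Subgroup.mem_normalizer_iff.mp (hBNA hv) x).mp hx) ha
            obtain ⟨C, hC⟩ : ∃ C, C = Subgroup.centralizer (B : Set G) := ⟨_, rfl⟩
            have hCn : C.Normal := by
              rw [hC]; exact Subgroup.normal_centralizer
            obtain ⟨K, hK⟩ : ∃ K, K = (Cfsg.pCore p (G ⧸ C)).comap (QuotientGroup.mk' C) :=
              ⟨_, rfl⟩
            have hKn : K.Normal := by
              rw [hK]; exact (Cfsg.Agent.Lib.Helper4.pCore_normal p (G ⧸ C)).comap _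
            have hCK : C ≤ K := by
              intro c hc
              rw [hK, Subgroup.mem_comap]
              have : (QuotientGroup.mk' C) c = 1 := (QuotientGroup.eq_one_iff c).mpr hc
              rw [this]; exact one_mem _
            have hKC : ∀ k ∈ K, ∃ n : ℕ, k ^ p ^ n ∈ C := by
              intro k hk
              rw [hK, Subgroup.mem_comap] at hk
              obtain ⟨n, hn⟩ := Cfsg.Agent.Lib.Helper4.pCore_isPGroup p (G ⧸ C) ⟨_, hk⟩
              refine ⟨n, ?_⟩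
              have h1 : ((QuotientGroup.mk' C) k) ^ p ^ n = 1 := congrArg Subtype.val hn
              rw [← map_pow] at h1
              exact (QuotientGroup.eq_one_iff _).mp h1
            have hAK : A ≤ K := by
              intro a ha
              obtain ⟨Ka, hKan, hCKa, hKaC, haKa⟩ :=
                hst B hBn hBp a (hPel a (hAP ha)) (hquad a ha)
              have hmapn : (Ka.map (QuotientGroup.mk' C)).Normal :=
                hKan.map _ (QuotientGroup.mk'_surjective C)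
              have hmapp : IsPGroup p (Ka.map (QuotientGroup.mk' C)) := by
                rintro ⟨_, ⟨k, hk, rfl⟩⟩
                obtain ⟨n, hn⟩ := hKaC k hk
                refine ⟨n, Subtype.ext ?_⟩
                show ((QuotientGroup.mk' C) k) ^ p ^ n = 1
                rw [← map_pow]
                exact (QuotientGroup.eq_one_iff _).mpr (hC ▸ hn)
              have hle := Cfsg.Agent.Lib.Helper4.le_pCore hmapn hmapp
              rw [hK]
              exact Subgroup.map_le_iff_le_comap.mp hle haKa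
            have hfr := exists_mul_of_pQuotient P K C hKn hCn hCK hKC
            obtain ⟨D₁, hD₁⟩ : ∃ D₁, D₁ = D ⊓ ((P : Subgroup G) ⊓ K) := ⟨_, rfl⟩
            have hAD₁ : A ≤ D₁ := hD₁ ▸ le_inf hA.1 (le_inf hAP hAK)
            obtain ⟨hA₁, hsub⟩ := famE_of_le (hD₁ ▸ inf_le_left : D₁ ≤ D) hA hAD₁
            obtain ⟨T, hT⟩ : ∃ T, T = zjE e D₁ ⊓ B := ⟨_, rfl⟩
            have hZ₁T : Z₁ ≤ T := by
              rw [hT]
              refine le_inf (le_zjE ⟨A, hA₁⟩ ?_) hZ₁B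
              intro A₁ hA₁'
              exact hZ₁Z.trans (hZle A₁ (hsub hA₁'))
            have hTinv : ∀ g : G, ∀ t ∈ T, g * t * g⁻¹ ∈ T := by
              intro g t ht
              obtain ⟨m, hm, c, hc, rfl⟩ := hfr g
              rw [hT] at ht ⊢
              have htB : t ∈ B := (Subgroup.mem_inf.mp ht).2
              have hct : c * t * c⁻¹ = t := by
                rw [hC, Subgroup.mem_centralizer_iff] at hc
                rw [← hc t htB]; group
              have e1 : m * c * t * (m * c)⁻¹ = m * (c * t * c⁻¹) * m⁻¹ := by group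
              rw [e1, hct]
              refine Subgroup.mem_inf.mpr ⟨?_, hBn.conj_mem t htB m⟩
              apply zjE_conj_mem e D₁ m _ (Subgroup.mem_inf.mp ht).1
              apply map_conj_eq_of_forall
              intro x hx
              rw [hD₁] at hx ⊢
              have hx1 := (Subgroup.mem_inf.mp hx).1
              have hx2 := (Subgroup.mem_inf.mp hx).2
              have h7 : m * x * m⁻¹ ∈ (P : Subgroup G) ⊓ K :=
                (Subgroup.mem_normalizer_iff.mp hm x).mp hx2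
              exact Subgroup.mem_inf.mpr ⟨hD.2 x hx1 m (Subgroup.mem_inf.mp h7).1, h7⟩
            have hTn : T.Normal := ⟨fun t ht g => hTinv g t ht⟩
            have hLT : L ≤ T := by
              rw [hL]; exact Subgroup.normalClosure_le_normal hZ₁T
            apply hBnA
            calc B = L := hLeq.symm
              _ ≤ T := hLT
              _ ≤ zjE e D₁ := hT ▸ inf_le_left
              _ ≤ A := zjE_le_of_mem hA₁
      · have hlt : Nat.card L < Nat.card B :=
          lt_of_le_of_ne (Subgroup.card_le_of_le hLB)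
            (fun h => hLeq (Subgroup.eq_of_le_of_card_ge hLB h.ge))
        have h2 := ih L hLn (hBp.to_le hLB) (by omega)
        have h3 : Z ⊓ L = Z₁ :=
          le_antisymm (hZ₁ ▸ inf_le_inf_left Z hLB) (le_inf hZ₁Z hZ₁L)
        rw [← h3]; exact h2
  have h1 := main (Nat.card Q) Q hQn hQp le_rfl
  rw [inf_eq_left.mpr hZQ] at h1
  exact h1

end ZJMain

section ZJApps

variable {G : Type*} [Group G]

theorem pStab_of_isPStableOn {p : ℕ} [Fact p.Prime]
    (hst : ∀ (P : Subgroup G) [P.Normal], IsPGroup p P → Cfsg.IsPStableOn p P) : PStab p G := by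
  intro V hVn hVp a _ hquad
  have h1 := hst V hVp a hquad
  refine ⟨(Cfsg.pCore p (G ⧸ Subgroup.centralizer (V : Set G))).comap (QuotientGroup.mk' _),
    (Cfsg.Agent.Lib.Helper4.pCore_normal p _).comap _, ?_, ?_, h1⟩
  · intro c hc
    rw [Subgroup.mem_comap]
    have : (QuotientGroup.mk' (Subgroup.centralizer (V : Set G))) c = 1 :=
      (QuotientGroup.eq_one_iff c).mpr hc
    rw [this]; exact one_mem _
  · intro k hk
    rw [Subgroup.mem_comap] at hk
    obtain ⟨n, hn⟩ := Cfsg.Agent.Lib.Helper4.pCore_isPGroup p _ ⟨_, hk⟩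
    refine ⟨n, ?_⟩
    have h1 : ((QuotientGroup.mk' (Subgroup.centralizer (V : Set G))) k) ^ p ^ n = 1 :=
      congrArg Subtype.val hn
    rw [← map_pow] at h1
    exact (QuotientGroup.eq_one_iff _).mp h1

theorem pStab_of_isNormalizerPStable {p : ℕ} [Fact p.Prime]
    (hst : Cfsg.IsNormalizerPStable p G) : PStab p G := by
  intro V hVn hVp a _ hquad
  have hNtop : Subgroup.normalizer (V : Set G) = ⊤ := Subgroup.normalizer_eq_top V
  have hmemN : ∀ g : G, g ∈ Subgroup.normalizer (V : Set G) := fun g => by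
    rw [hNtop]; exact Subgroup.mem_top g
  have h1 := hst V hVp a (hmemN a) hquad
  obtain ⟨K₀, hK₀⟩ : ∃ K₀, K₀ = (Cfsg.pCore p (↥(Subgroup.normalizer (V : Set G)) ⧸
      (Subgroup.centralizer (V : Set G)).subgroupOf (Subgroup.normalizer (V : Set G)))).comap
      (QuotientGroup.mk' _) := ⟨_, rfl⟩
  have hK₀n : K₀.Normal := by
    rw [hK₀]; exact (Cfsg.Agent.Lib.Helper4.pCore_normal p _).comap _
  have hmemK₀ : ∀ x, x ∈ K₀ ↔ (QuotientGroup.mk' ((Subgroup.centralizer (V : Set G)).subgroupOf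
      (Subgroup.normalizer (V : Set G)))) x ∈ Cfsg.pCore p (↥(Subgroup.normalizer (V : Set G)) ⧸
      (Subgroup.centralizer (V : Set G)).subgroupOf (Subgroup.normalizer (V : Set G))) :=
    fun x => by rw [hK₀, Subgroup.mem_comap]
  refine ⟨K₀.map (Subgroup.normalizer (V : Set G)).subtype, ?_, ?_, ?_, ?_⟩
  · constructor
    rintro _ ⟨x, hx, rfl⟩ g
    refine ⟨⟨g, hmemN g⟩ * x * ⟨g, hmemN g⟩⁻¹, hK₀n.conj_mem x hx _, rfl⟩
  · intro c hc
    refine ⟨⟨c, hmemN c⟩, ?_, rfl⟩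
    rw [SetLike.mem_coe, hmemK₀]
    have : (QuotientGroup.mk' ((Subgroup.centralizer (V : Set G)).subgroupOf
        (Subgroup.normalizer (V : Set G)))) ⟨c, hmemN c⟩ = 1 :=
      (QuotientGroup.eq_one_iff _).mpr (Subgroup.mem_subgroupOf.mpr hc)
    rw [this]; exact one_mem _
  · rintro _ ⟨k, hk, rfl⟩
    rw [SetLike.mem_coe, hmemK₀] at hk
    obtain ⟨n, hn⟩ := Cfsg.Agent.Lib.Helper4.pCore_isPGroup p _ ⟨_, hk⟩
    refine ⟨n, ?_⟩
    have h2 : ((QuotientGroup.mk' ((Subgroup.centralizer (V : Set G)).subgroupOf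
        (Subgroup.normalizer (V : Set G)))) k) ^ p ^ n = 1 := congrArg Subtype.val hn
    rw [← map_pow] at h2
    have h3 := (QuotientGroup.eq_one_iff _).mp h2
    exact Subgroup.mem_subgroupOf.mp h3
  · refine ⟨⟨a, hmemN a⟩, ?_, rfl⟩
    rw [SetLike.mem_coe, hmemK₀]
    exact h1

theorem omegaOne_zero (X : Subgroup G) : Cfsg.omegaOne 0 X = X := by
  unfold Cfsg.omegaOne
  have : {x : G | x ∈ X ∧ x ^ 0 = 1} = (X : Set G) := by
    ext x; simp
  rw [this, Subgroup.closure_eq]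

theorem map_sSup_eq {H : Type*} [Group H] (f : H →* G) (M : Set (Subgroup H)) :
    (sSup M).map f = sSup ((fun A : Subgroup H => A.map f) '' M) := by
  rw [(Subgroup.gc_map_comap f).l_sSup, sSup_image]

theorem famE_zero_eq (D : Subgroup G) :
    famE 0 D = Set.image (fun A : Subgroup ↥D => A.map D.subtype)
      (Cfsg.maxAbelianSubgroups ↥D) := by
  ext A
  rw [mem_image_maxAbelian_iff]
  constructor
  · rintro ⟨h1, h2, h3⟩
    exact ⟨h1, h2.1, fun C hC hCc => h3 C hC ⟨hCc, fun a _ => pow_zero a⟩⟩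
  · rintro ⟨h1, h2, h3⟩
    exact ⟨h1, ⟨h2, fun a _ => pow_zero a⟩, fun C hC hCa => h3 C hC hCa.1⟩

theorem famE_eq_elem (p : ℕ) (D : Subgroup G) :
    famE p D = Set.image (fun A : Subgroup ↥D => A.map D.subtype)
      (Cfsg.maxElementaryAbelianSubgroups p ↥D) := by
  ext A
  rw [mem_image_maxElemAbelian_iff]
  rfl

theorem jE_zero_eq (D : Subgroup G) : jE 0 D = Cfsg.thompsonSubgroupAOf D := by
  unfold jE Cfsg.thompsonSubgroupAOf Cfsg.thompsonSubgroupA
  rw [famE_zero_eq, map_sSup_eq]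

theorem jE_eq_elem (p : ℕ) (D : Subgroup G) : jE p D = Cfsg.thompsonSubgroupOf p D := by
  unfold jE Cfsg.thompsonSubgroupOf Cfsg.thompsonSubgroup
  rw [famE_eq_elem, map_sSup_eq]

theorem zjE_zero_eq (D : Subgroup G) : zjE 0 D = Cfsg.centerThompsonAOf D := by
  unfold zjE Cfsg.centerThompsonAOf
  rw [omegaOne_zero, jE_zero_eq]

theorem zjE_eq_elem (p : ℕ) (D : Subgroup G) :
    zjE p D = Cfsg.omegaOne p (Cfsg.centerThompsonOf p D) := by
  unfold zjE Cfsg.centerThompsonOf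
  rw [jE_eq_elem]

theorem zj_map_inf_centralizer {Q : Type*} [Group Q] (f : Q →* G) (hf : Function.Injective f)
    (B : Subgroup Q) :
    (B ⊓ Subgroup.centralizer (B : Set Q)).map f
      = B.map f ⊓ Subgroup.centralizer ((B.map f : Subgroup G) : Set G) := by
  ext y
  constructor
  · rintro ⟨x, hx, rfl⟩
    obtain ⟨hxB, hxC⟩ := Subgroup.mem_inf.mp hx
    refine Subgroup.mem_inf.mpr ⟨Subgroup.mem_map_of_mem f hxB, ?_⟩
    rintro _ ⟨b, hb, rfl⟩
    rw [← map_mul, ← map_mul, hxC b hb]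
  · intro hy
    obtain ⟨hyB, hyC⟩ := Subgroup.mem_inf.mp hy
    obtain ⟨x, hxB, rfl⟩ := hyB
    refine ⟨x, Subgroup.mem_inf.mpr ⟨hxB, ?_⟩, rfl⟩
    intro b hb
    apply hf
    rw [map_mul, map_mul]
    exact hyC (f b) (Subgroup.mem_map_of_mem f hb)

theorem zjE_eq_omegaCenterThompson (p : ℕ) (D : Subgroup G) :
    zjE p D = (Cfsg.omegaCenterThompson p ↥D).map D.subtype := by
  unfold zjE Cfsg.omegaCenterThompson
  rw [← omegaOne_map_of_injective p D.subtype D.subtype_injective,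
    zj_map_inf_centralizer D.subtype D.subtype_injective, jE_eq_elem]
  rfl

theorem zjE_sylow_characteristic [Finite G] {p : ℕ} [Fact p.Prime] (e : ℕ) (P : Sylow p G)
    (hn : (zjE e (P : Subgroup G)).Normal) : (zjE e (P : Subgroup G)).Characteristic := by
  rw [Subgroup.characteristic_iff_map_eq]
  intro φ
  have hPφ : IsPGroup p ((P : Subgroup G).map φ.toMonoidHom) := P.isPGroup'.map _
  have hidx : ¬ p ∣ ((P : Subgroup G).map φ.toMonoidHom).index := by
    have h1 : ((P : Subgroup G).map φ.toMonoidHom).index = (P : Subgroup G).index := by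
      have e1 := Subgroup.card_mul_index ((P : Subgroup G).map φ.toMonoidHom)
      have e2 := Subgroup.card_mul_index (P : Subgroup G)
      rw [Subgroup.card_map_of_injective φ.injective] at e1
      exact Nat.eq_of_mul_eq_mul_left Nat.card_pos (e1.trans e2.symm)
    rw [h1]; exact P.not_dvd_index
  obtain ⟨k, hk⟩ := exists_map_conj_eq_sylow _ hPφ hidx P
  have h2 : zjE e (P : Subgroup G)
      = ((zjE e (P : Subgroup G)).map φ.toMonoidHom).map (MulAut.conj k).toMonoidHom := by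
    rw [← zjE_map, ← zjE_map, hk]
  have hnorm : ∀ g : G, (zjE e (P : Subgroup G)).map (MulAut.conj g).toMonoidHom
      = zjE e (P : Subgroup G) := fun g =>
    map_conj_eq_of_mem_normalizer _ g (by rw [Subgroup.normalizer_eq_top]; exact Subgroup.mem_top g)
  have h3 : (zjE e (P : Subgroup G)).map (MulAut.conj k⁻¹).toMonoidHom
      = (((zjE e (P : Subgroup G)).map φ.toMonoidHom).map (MulAut.conj k).toMonoidHom).map
        (MulAut.conj k⁻¹).toMonoidHom := congrArg (fun X => X.map (MulAut.conj k⁻¹).toMonoidHom) h2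
  rw [hnorm k⁻¹, map_conj_map_conj, inv_mul_cancel, map_conj_one_eq] at h3
  exact h3.symm

end ZJApps

end Cfsg.Agent.Lib.Helper3
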