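import Mathlib
import Cfsg.Agent.Lib.Helper3.ZJ
import Cfsg.Agent.Lib.Helper3.Special
import Cfsg.Agent.Lib.Helper3.PStab
import Cfsg.Agent.S2005

set_option autoImplicit false

universe u

namespace Cfsg.Agent.Lib.Helper3

open scoped commutatorElement

section ZJInj

variable {G : Type*} [Group G] {H : Type*} [Group H]

theorem admE_map_inj_iff {e : ℕ} (f : H →* G) (hf : Function.Injective f) (A : Subgroup H) :
    AdmE e (A.map f) ↔ AdmE e A := by
  constructor
  · intro h
    refine ⟨fun x hx y hy => hf ?_, fun a ha => hf ?_⟩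
    · rw [map_mul, map_mul]
      exact h.1 (f x) ⟨x, hx, rfl⟩ (f y) ⟨y, hy, rfl⟩
    · rw [map_pow, map_one]
      exact h.2 (f a) ⟨a, ha, rfl⟩
  · intro h
    constructor
    · rintro _ ⟨x, hx, rfl⟩ _ ⟨y, hy, rfl⟩
      rw [← map_mul, ← map_mul, h.1 x hx y hy]
    · rintro _ ⟨a, ha, rfl⟩
      rw [← map_pow, h.2 a ha, map_one]

theorem map_comap_of_le_map (f : H →* G) {D : Subgroup H} {C : Subgroup G} (hC : C ≤ D.map f) :
    (C.comap f).map f = C := by
  apply Subgroup.map_comap_eq_self
  exact hC.trans (Subgroup.map_le_range f D)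

theorem famE_map_inj {e : ℕ} (f : H →* G) (hf : Function.Injective f) (D : Subgroup H) :
    famE e (D.map f) = (fun A : Subgroup H => A.map f) '' famE e D := by
  ext B
  constructor
  · rintro ⟨hBD, hBa, hBmax⟩
    have hB : (B.comap f).map f = B := map_comap_of_le_map f hBD
    refine ⟨B.comap f, ⟨?_, ?_, ?_⟩, hB⟩
    · have := Subgroup.comap_mono (f := f) hBD
      rwa [Subgroup.comap_map_eq_self_of_injective hf] at this
    · rw [← admE_map_inj_iff f hf, hB]; exact hBa
    · intro C hC hCa
      have h1 := hBmax (C.map f) (Subgroup.map_mono hC) ((admE_map_inj_iff f hf C).mpr hCa)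
      rw [Subgroup.card_map_of_injective hf] at h1
      rw [← hB, Subgroup.card_map_of_injective hf] at h1
      exact h1
  · rintro ⟨A, ⟨hAD, hAa, hAmax⟩, rfl⟩
    refine ⟨Subgroup.map_mono hAD, (admE_map_inj_iff f hf A).mpr hAa, ?_⟩
    intro C hC hCa
    have hCe : (C.comap f).map f = C := map_comap_of_le_map f hC
    have h1 : C.comap f ≤ D := by
      have := Subgroup.comap_mono (f := f) hC
      rwa [Subgroup.comap_map_eq_self_of_injective hf] at this
    have h2 : AdmE e (C.comap f) := by
      rw [← admE_map_inj_iff f hf, hCe]; exact hCa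
    have h3 := hAmax _ h1 h2
    show Nat.card C ≤ Nat.card (A.map f)
    rw [Subgroup.card_map_of_injective hf, ← hCe, Subgroup.card_map_of_injective hf]
    exact h3

theorem jE_map_inj (e : ℕ) (f : H →* G) (hf : Function.Injective f) (D : Subgroup H) :
    jE e (D.map f) = (jE e D).map f := by
  unfold jE
  rw [famE_map_inj f hf, map_sSup_eq]

theorem zjE_map_inj (e : ℕ) (f : H →* G) (hf : Function.Injective f) (D : Subgroup H) :
    zjE e (D.map f) = (zjE e D).map f := by
  unfold zjE
  rw [jE_map_inj e f hf, ← zj_map_inf_centralizer f hf, omegaOne_map_of_injective e f hf]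

end ZJInj

section ZJFun

/-- the functor `Q ↦ Ω_e(Z(J_e(Q)))` -/
def zjFun (e : ℕ) : ∀ (Q : Type u) [Group Q], Subgroup Q := fun Q _ => zjE e (⊤ : Subgroup Q)

theorem inducedFunctor_zjFun {G : Type u} [Group G] (e : ℕ) (P : Subgroup G) :
    Cfsg.inducedFunctor (zjFun.{u} e) P = zjE e P := by
  unfold Cfsg.inducedFunctor zjFun
  rw [← zjE_map_inj e P.subtype P.subtype_injective]
  congr 1
  rw [← MonoidHom.range_eq_map, Subgroup.range_subtype]

theorem zjFun_isCharPFunctor (p : ℕ) [Fact p.Prime] (e : ℕ) (he : e = 0 ∨ e = p) :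
    Cfsg.IsCharPFunctor.{u} p (zjFun.{u} e) := by
  constructor
  · intro Q _ _ hQ hnt
    unfold zjFun
    have hZ : Subgroup.center Q ≠ ⊥ := by
      have := hQ.bot_lt_center (p := p)
      exact ne_of_gt this
    -- an element of the centre with `x ^ e = 1`, nontrivial
    have hex : ∃ x : Q, x ∈ Subgroup.center Q ∧ x ^ e = 1 ∧ x ≠ 1 := by
      rcases he with rfl | rfl
      · obtain ⟨x, hx1⟩ := (Subgroup.ne_bot_iff_exists_ne_one).mp hZ
        exact ⟨x.1, x.2, pow_zero _, fun h => hx1 (Subtype.ext h)⟩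
      · have hpd : e ∣ Nat.card (Subgroup.center Q) := by
          have hZp : IsPGroup e (Subgroup.center Q) := hQ.to_subgroup _
          obtain ⟨n, hn⟩ := IsPGroup.iff_card.mp hZp
          rw [hn]
          rcases n with _ | n
          · exfalso
            rw [pow_zero] at hn
            exact hZ ((Subgroup.card_eq_one).mp hn)
          · exact dvd_pow_self e (Nat.succ_ne_zero n)
        obtain ⟨x, hx⟩ := exists_prime_orderOf_dvd_card' e hpd
        refine ⟨x.1, x.2, ?_, ?_⟩
        · have := pow_orderOf_eq_one x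
          rw [hx] at this
          exact congrArg Subtype.val this
        · intro h
          have h1 : x = 1 := Subtype.ext h
          rw [h1, orderOf_one] at hx
          exact (Fact.out : e.Prime).one_lt.ne hx
    obtain ⟨x, hxZ, hxe, hx1⟩ := hex
    intro hbot
    apply hx1
    have hmem : x ∈ zjE e (⊤ : Subgroup Q) := by
      have hB : AdmE e (Subgroup.zpowers x) := by
        constructor
        · intro a ha b hb
          obtain ⟨i, rfl⟩ := Subgroup.mem_zpowers_iff.mp ha
          obtain ⟨j, rfl⟩ := Subgroup.mem_zpowers_iff.mp hb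
          exact (Commute.refl x).zpow_zpow i j
        · intro a ha
          obtain ⟨i, rfl⟩ := Subgroup.mem_zpowers_iff.mp ha
          rw [← zpow_natCast, ← zpow_mul, mul_comm, zpow_mul, zpow_natCast, hxe, one_zpow]
      have hle := le_zjE (e := e) (D := (⊤ : Subgroup Q)) (B := Subgroup.zpowers x)
        (famE_nonempty e ⊤) ?_
      · exact hle (Subgroup.mem_zpowers x)
      · intro A hA
        apply le_of_mem_famE hA le_top hB
        intro b hb a ha
        obtain ⟨i, rfl⟩ := Subgroup.mem_zpowers_iff.mp hb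
        have := Subgroup.mem_center_iff.mp hxZ
        have h2 : Commute a x := (this a)
        exact (h2.zpow_right i).eq.symm
    rw [hbot] at hmem
    exact Subgroup.mem_bot.mp hmem
  · intro Q R _ _ _ hQ φ
    unfold zjFun
    have h1 := zjE_map e φ (⊤ : Subgroup Q)
    rw [← h1]
    congr 1
    rw [← MonoidHom.range_eq_map]
    exact MonoidHom.range_eq_top.mpr φ.surjective

theorem zj_normal_of_special {Y : Type u} [Group Y] [Finite Y] {p : ℕ} [Fact p.Prime]
    (hp : p ≠ 2) (e : ℕ) (he : e = 0 ∨ Odd e)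
    (hcon : Subgroup.centralizer (Cfsg.pCore p Y : Set Y) ≤ Cfsg.pCore p Y)
    (hq : Cfsg.HasNormalPComplement p (Y ⧸ Cfsg.pCore p Y)) (T : Sylow p Y)
    (hTco : IsCoatom (T : Subgroup Y)) : (zjE e (T : Subgroup Y)).Normal := by
  have h1 := isPAbP_of_special hq (T : Subgroup Y) T.isPGroup' T.not_dvd_index hTco
  have h2 := pStab_of_isNormalizerPStable (h1.isNormalizerPStable hp)
  exact zj_normal hp e he T (T : Subgroup Y) ⟨le_rfl, fun x _ g hg => hg⟩ hcon h2

end ZJFun

end Cfsg.Agent.Lib.Helper3
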