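import Mathlib
import Cfsg.Agent.Lib.Helper3.ZJ
import Cfsg.Agent.Lib.Helper3.ZJNpc
import Cfsg.Agent.Lib.Helper3.ThompsonSC
import Cfsg.Agent.Lib.Helper3.TransferRed
import Cfsg.Agent.Lib.Helper2.PConstrInv

/-! Glauberman's ZJ-theorem modulo `O_{p'}`: transfer of `p`-stability to `G / O_{p'}(G)`. -/

set_option autoImplicit false

universe u

namespace Cfsg.Agent.Lib.Helper3

open Cfsg
open Cfsg.Agent.Lib.Helper4
open scoped commutatorElement

/-- If `D/K` is a `p`-group and `P₁` has index prime to `p` in `D`, then `D ≤ P₁ K`. -/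
theorem le_sup_of_pQuotient {X : Type*} [Group X] [Finite X] {p : ℕ} [Fact p.Prime]
    (D K P₁ : Subgroup X) (hKD : K ≤ D) (hDK : D ≤ Subgroup.normalizer (K : Set X))
    (hpow : ∀ x ∈ D, ∃ k : ℕ, x ^ p ^ k ∈ K) (hP₁ : ¬ p ∣ P₁.relIndex D) : D ≤ P₁ ⊔ K := by
  have hp : p.Prime := Fact.out
  have hKn : (K.subgroupOf D).Normal := (Subgroup.normal_subgroupOf_iff_le_normalizer hKD).mpr hDK
  have hquot : IsPGroup p (↥D ⧸ K.subgroupOf D) := by
    intro y
    obtain ⟨d, rfl⟩ := QuotientGroup.mk_surjective y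
    obtain ⟨k, hk⟩ := hpow d d.2
    refine ⟨k, ?_⟩
    rw [← QuotientGroup.mk_pow, QuotientGroup.eq_one_iff, Subgroup.mem_subgroupOf]
    simpa using hk
  obtain ⟨j, hj⟩ := IsPGroup.iff_card.mp hquot
  have hKidx : K.relIndex D = p ^ j := by
    rw [← hj]; exact Subgroup.index_eq_card _
  rw [← Subgroup.relIndex_eq_one]
  have h1 : (P₁ ⊔ K).relIndex D ∣ P₁.relIndex D := Subgroup.relIndex_dvd_of_le_left D le_sup_left
  have h2 : (P₁ ⊔ K).relIndex D ∣ p ^ j := by
    rw [← hKidx]; exact Subgroup.relIndex_dvd_of_le_left D le_sup_right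
  obtain ⟨i, -, hi⟩ := (Nat.dvd_prime_pow hp).mp h2
  rcases Nat.eq_zero_or_pos i with h0 | hpos
  · rw [hi, h0, pow_zero]
  · exfalso
    apply hP₁
    refine dvd_trans ?_ h1
    rw [hi]; exact dvd_pow_self p hpos.ne'

/-- Local `p`-stability relative to a normal `p'`-subgroup `K`: quadratic `p`-elements of `N(V)`,
for `p`-subgroups `V` with `V K` normal, lie in a subgroup `L` with `L / C(V)` a normal
`p`-subgroup of `N(V) / C(V)`. -/
def LStabOn (p : ℕ) {G : Type*} [Group G] (K : Subgroup G) : Prop :=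
  ∀ V : Subgroup G, IsPGroup p V → (V ⊔ K).Normal →
    ∀ a ∈ Subgroup.normalizer (V : Set G), (∃ n : ℕ, a ^ p ^ n = 1) →
    ⁅⁅V, Subgroup.zpowers a⁆, Subgroup.zpowers a⁆ = ⊥ →
    ∃ L : Subgroup G, L ≤ Subgroup.normalizer (V : Set G) ∧
      Subgroup.normalizer (V : Set G) ≤ Subgroup.normalizer (L : Set G) ∧
      Subgroup.centralizer (V : Set G) ≤ L ∧
      (∀ l ∈ L, ∃ n : ℕ, l ^ p ^ n ∈ Subgroup.centralizer (V : Set G)) ∧ a ∈ L

/-- Local `p`-stability passes to the quotient by a normal `p'`-subgroup. -/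
theorem pStab_quotient_of_lStabOn {G : Type*} [Group G] [Finite G] {p : ℕ} [Fact p.Prime]
    (K : Subgroup G) [K.Normal] (hKc : (Nat.card ↥K).Coprime p) (h : LStabOn p K) :
    PStab p (G ⧸ K) := by
  classical
  intro V' hV'n hV'p a' ha' hquad
  have hKS : ∀ S : Subgroup G, S ≤ Subgroup.normalizer (K : Set G) := fun S => by
    rw [Subgroup.normalizer_eq_top]; exact le_top
  have hmk1 : ∀ k ∈ K, (QuotientGroup.mk' K) k = 1 := fun k hk => (QuotientGroup.eq_one_iff k).mpr hk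
  obtain ⟨E, hE⟩ : ∃ E : Subgroup G,
      E = (V' ⊔ Subgroup.zpowers a').comap (QuotientGroup.mk' K) := ⟨_, rfl⟩
  have hKE : K ≤ E := by
    rw [hE]
    intro k hk
    rw [Subgroup.mem_comap, hmk1 k hk]
    exact one_mem _
  have hzp : IsPGroup p ↥(Subgroup.zpowers a') := by
    obtain ⟨n, hn⟩ := ha'
    rintro ⟨y, hy⟩
    obtain ⟨i, rfl⟩ := Subgroup.mem_zpowers_iff.mp hy
    refine ⟨n, Subtype.ext ?_⟩
    show (a' ^ i) ^ p ^ n = 1
    rw [← zpow_natCast, ← zpow_mul, mul_comm, zpow_mul, zpow_natCast, hn, one_zpow]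
  have hE'p : IsPGroup p ↥(V' ⊔ Subgroup.zpowers a') := IsPGroup.to_sup_of_normal_left hV'p hzp
  have hEpow : ∀ x ∈ E, ∃ k : ℕ, x ^ p ^ k ∈ K := by
    intro x hx
    rw [hE] at hx
    obtain ⟨k, hk⟩ := hE'p ⟨_, hx⟩
    refine ⟨k, ?_⟩
    have h1 : ((QuotientGroup.mk' K) x) ^ p ^ k = 1 := congrArg Subtype.val hk
    rw [← map_pow] at h1
    exact (QuotientGroup.eq_one_iff _).mp h1
  obtain ⟨P₂, hP₂E, hP₂p, hP₂idx⟩ := exists_sylow_relIndex p E
  have hEsup : E ≤ P₂ ⊔ K := le_sup_of_pQuotient E K P₂ hKE (hKS E) hEpow hP₂idx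
  obtain ⟨Vt, hVt⟩ : ∃ Vt : Subgroup G, Vt = V'.comap (QuotientGroup.mk' K) := ⟨_, rfl⟩
  have hVtn : Vt.Normal := by rw [hVt]; exact hV'n.comap _
  have hVtE : Vt ≤ E := by rw [hVt, hE]; exact Subgroup.comap_mono le_sup_left
  obtain ⟨V, hV⟩ : ∃ V : Subgroup G, V = P₂ ⊓ Vt := ⟨_, rfl⟩
  have hVp : IsPGroup p ↥V := by rw [hV]; exact hP₂p.to_le inf_le_left
  have hVmap : V.map (QuotientGroup.mk' K) = V' := by
    apply le_antisymm
    · rintro _ ⟨v, hv, rfl⟩
      rw [hV] at hv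
      have := (Subgroup.mem_inf.mp hv).2
      rw [hVt] at this; exact this
    · intro v' hv'
      obtain ⟨x, rfl⟩ := QuotientGroup.mk'_surjective K v'
      have hxVt : x ∈ Vt := by rw [hVt]; exact hv'
      obtain ⟨s, hs, k, hk, hxsk⟩ := exists_mul_of_mem_sup_of_le_normalizer P₂ K (hKS P₂)
        (hEsup (hVtE hxVt))
      have hsx : (QuotientGroup.mk' K) s = (QuotientGroup.mk' K) x := by
        rw [hxsk, map_mul, hmk1 k hk, mul_one]
      refine ⟨s, ?_, hsx⟩
      rw [hV]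
      refine Subgroup.mem_inf.mpr ⟨hs, ?_⟩
      rw [hVt, Subgroup.mem_comap, hsx]; exact hv'
  obtain ⟨a₀, rfl⟩ := QuotientGroup.mk'_surjective K a'
  have ha₀E : a₀ ∈ E := by
    rw [hE]; exact Subgroup.mem_sup_right (Subgroup.mem_zpowers _)
  obtain ⟨a, haP, k₀, hk₀, ha₀⟩ := exists_mul_of_mem_sup_of_le_normalizer P₂ K (hKS P₂)
    (hEsup ha₀E)
  have haa : (QuotientGroup.mk' K) a₀ = (QuotientGroup.mk' K) a := by
    rw [ha₀, map_mul, hmk1 k₀ hk₀, mul_one]
  rw [haa] at hquad ⊢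
  have hapow : ∃ n : ℕ, a ^ p ^ n = 1 := by
    obtain ⟨n, hn⟩ := hP₂p ⟨a, haP⟩
    exact ⟨n, congrArg Subtype.val hn⟩
  have haN : a ∈ Subgroup.normalizer (V : Set G) := by
    rw [hV]
    apply mem_normalizer_of_map_conj_eq'
    rw [Subgroup.map_inf_eq _ _ _ (MulAut.conj a).injective,
      map_conj_eq_of_mem_normalizer P₂ a (Subgroup.le_normalizer haP),
      map_conj_eq_of_mem_normalizer Vt a (by
        rw [Subgroup.normalizer_eq_top]; exact Subgroup.mem_top _)]
  have hVK : V ⊓ K = ⊥ := disjoint_of_isPGroup_of_coprime V K hVp hKc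
  have hVKn : (V ⊔ K).Normal := by
    have : V ⊔ K = Vt := by
      rw [hVt, ← hVmap, QuotientGroup.comap_map_mk', sup_comm]
    rw [this]; exact hVtn
  have hquadV : ⁅⁅V, Subgroup.zpowers a⁆, Subgroup.zpowers a⁆ = ⊥ := by
    have hza : Subgroup.zpowers a ≤ Subgroup.normalizer (V : Set G) := Subgroup.zpowers_le.mpr haN
    have h1 : ⁅V, Subgroup.zpowers a⁆ ≤ V := by
      rw [Subgroup.commutator_le]
      intro v hv x hx
      have h0 := (Subgroup.mem_normalizer_iff.mp (hza hx) v⁻¹).mp (inv_mem hv)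
      rw [commutatorElement_def]
      have h2 : v * x * v⁻¹ * x⁻¹ = v * (x * v⁻¹ * x⁻¹) := by group
      rw [h2]; exact mul_mem hv h0
    have h2 : ⁅⁅V, Subgroup.zpowers a⁆, Subgroup.zpowers a⁆ ≤ V :=
      (Subgroup.commutator_mono h1 le_rfl).trans h1
    have h3 : ⁅⁅V, Subgroup.zpowers a⁆, Subgroup.zpowers a⁆ ≤ K := by
      rw [← QuotientGroup.ker_mk' K, ← Subgroup.map_eq_bot_iff, Subgroup.map_commutator,
        Subgroup.map_commutator, hVmap, MonoidHom.map_zpowers]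
      exact hquad
    rw [eq_bot_iff, ← hVK]; exact le_inf h2 h3
  obtain ⟨L, hLN, hNL, hCL, hLp, haL⟩ := h V hVp hVKn a haN hapow hquadV
  have hidx : ¬ p ∣ V.relIndex (V ⊔ K) := not_dvd_relIndex_sup V K (hKS V) hVp hKc
  have hfr : Subgroup.normalizer (V : Set G) ⊔ (V ⊔ K) = ⊤ :=
    frattini_relIndex (V ⊔ K) V le_sup_left hVp hidx
  have hNmap : ∀ y : G ⧸ K, ∃ n ∈ Subgroup.normalizer (V : Set G),
      (QuotientGroup.mk' K) n = y := by
    intro y
    obtain ⟨g, rfl⟩ := QuotientGroup.mk'_surjective K y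
    have hg : g ∈ Subgroup.normalizer (V : Set G) ⊔ K := by
      have : Subgroup.normalizer (V : Set G) ⊔ (V ⊔ K) = Subgroup.normalizer (V : Set G) ⊔ K := by
        rw [← sup_assoc, sup_eq_left.mpr Subgroup.le_normalizer]
      rw [← this, hfr]; exact Subgroup.mem_top _
    obtain ⟨n, hn, k, hk, hgnk⟩ := exists_mul_of_mem_sup_of_le_normalizer _ K (hKS _) hg
    exact ⟨n, hn, by rw [hgnk, map_mul, hmk1 k hk, mul_one]⟩
  refine ⟨L.map (QuotientGroup.mk' K), ?_, ?_, ?_, Subgroup.mem_map_of_mem _ haL⟩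
  · refine ⟨fun y hy g => ?_⟩
    obtain ⟨l, hl, rfl⟩ := hy
    obtain ⟨n, hn, rfl⟩ := hNmap g
    refine ⟨n * l * n⁻¹, ?_, by simp⟩
    exact (Subgroup.mem_normalizer_iff.mp (hNL hn) l).mp hl
  · intro x hx
    obtain ⟨n, hn, rfl⟩ := hNmap x
    refine Subgroup.mem_map_of_mem _ (hCL ?_)
    rw [Subgroup.mem_centralizer_iff]
    intro v hv
    have h1 := (Subgroup.mem_centralizer_iff.mp hx) ((QuotientGroup.mk' K) v) (by
      rw [← hVmap]; exact Subgroup.mem_map_of_mem _ hv)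
    rw [← map_mul, ← map_mul] at h1
    have h2 : (v * n)⁻¹ * (n * v) ∈ K := QuotientGroup.eq.mp h1
    have h3 : (v * n)⁻¹ * (n * v) ∈ V := by
      have h4 : (v * n)⁻¹ * (n * v) = (n⁻¹ * v⁻¹ * n) * v := by group
      rw [h4]
      have h5 := (Subgroup.mem_normalizer_iff.mp (inv_mem hn) v⁻¹).mp (inv_mem hv)
      rw [inv_inv] at h5
      exact mul_mem h5 hv
    have h6 : (v * n)⁻¹ * (n * v) ∈ V ⊓ K := Subgroup.mem_inf.mpr ⟨h3, h2⟩
    rw [hVK, Subgroup.mem_bot] at h6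
    exact inv_mul_eq_one.mp h6
  · rintro _ ⟨l, hl, rfl⟩
    obtain ⟨n, hn⟩ := hLp l hl
    refine ⟨n, ?_⟩
    rw [← map_pow, Subgroup.mem_centralizer_iff]
    intro y hy
    rw [← hVmap] at hy
    obtain ⟨v, hv, rfl⟩ := hy
    rw [← map_mul, ← map_mul, (Subgroup.mem_centralizer_iff.mp hn) v hv]

/-- Strong closure passes to the quotient by a normal `p'`-subgroup. -/
theorem isStronglyClosed_map_mk {G : Type*} [Group G] [Finite G] {p : ℕ} [Fact p.Prime]
    (K : Subgroup G) [K.Normal] (hKc : (Nat.card ↥K).Coprime p) (P D : Subgroup G)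
    (hPp : IsPGroup p ↥P) (hD : Cfsg.IsStronglyClosed D P) :
    Cfsg.IsStronglyClosed (D.map (QuotientGroup.mk' K)) (P.map (QuotientGroup.mk' K)) := by
  refine ⟨Subgroup.map_mono hD.1, ?_⟩
  rintro _ ⟨x, hx, rfl⟩ g' hg'
  obtain ⟨g, rfl⟩ := QuotientGroup.mk'_surjective K g'
  have hxp : ∃ k : ℕ, (g * x * g⁻¹) ^ p ^ k = 1 := by
    obtain ⟨k, hk⟩ := hPp ⟨x, hD.1 hx⟩
    have hk' : x ^ p ^ k = 1 := congrArg Subtype.val hk
    refine ⟨k, ?_⟩
    rw [conj_pow, hk']; group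
  have h1 : (QuotientGroup.mk' K) (g * x * g⁻¹) ∈ P.map (QuotientGroup.mk' K) := by
    simpa using hg'
  obtain ⟨r, hr, hrP⟩ := exists_conj_mem_of_mk_mem P hPp K hKc hxp h1
  have h2 : (r * g) * x * (r * g)⁻¹ ∈ D := by
    apply hD.2 x hx (r * g)
    have : r * g * x * (r * g)⁻¹ = r * (g * x * g⁻¹) * r⁻¹ := by group
    rw [this]; exact hrP
  refine ⟨(r * g) * x * (r * g)⁻¹, h2, ?_⟩
  have hr1 : (QuotientGroup.mk' K) r = 1 := (QuotientGroup.eq_one_iff r).mpr hr
  show (QuotientGroup.mk' K) ((r * g) * x * (r * g)⁻¹) =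
    (QuotientGroup.mk' K) g * (QuotientGroup.mk' K) x * ((QuotientGroup.mk' K) g)⁻¹
  simp only [map_mul, map_inv, mul_inv_rev, hr1, one_mul, inv_one, mul_one]

/-- `Ω(Z(J(D)))` commutes with the quotient by a normal `p'`-subgroup. -/
theorem zjE_map_mk {G : Type*} [Group G] [Finite G] {p : ℕ} [Fact p.Prime] (e : ℕ)
    (K : Subgroup G) [K.Normal] (hKc : (Nat.card ↥K).Coprime p) (P D : Subgroup G)
    (hPp : IsPGroup p ↥P) (hDP : D ≤ P) :
    zjE e (D.map (QuotientGroup.mk' K)) = (zjE e D).map (QuotientGroup.mk' K) := by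
  have hPK : P ⊓ K = ⊥ := disjoint_of_isPGroup_of_coprime P K hPp hKc
  have hf₂ : Function.Injective ((QuotientGroup.mk' K).comp P.subtype) := by
    rw [injective_iff_map_eq_one]
    intro x hx
    have h1 : (x : G) ∈ K := (QuotientGroup.eq_one_iff _).mp hx
    have h2 : (x : G) ∈ P ⊓ K := Subgroup.mem_inf.mpr ⟨x.2, h1⟩
    rw [hPK, Subgroup.mem_bot] at h2
    exact Subtype.ext h2
  have hD' : (D.subgroupOf P).map P.subtype = D := Subgroup.map_subgroupOf_eq_of_le hDP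
  have h1 := zjE_map_inj e P.subtype P.subtype_injective (D.subgroupOf P)
  have h2 := zjE_map_inj e ((QuotientGroup.mk' K).comp P.subtype) hf₂ (D.subgroupOf P)
  rw [hD'] at h1
  rw [← Subgroup.map_map, hD'] at h2
  rw [h2, h1, Subgroup.map_map]

/-- **ZJ-theorem modulo `O_{p'}`**: `Ω(Z(J(D))) O_{p'}(G)` is normal in a `p`-constrained,
locally `p`-stable group. -/
theorem zj_sup_normal {G : Type u} [Group G] [Finite G] {p : ℕ} [Fact p.Prime] (hp : p ≠ 2)
    (e : ℕ) (he : e = 0 ∨ Odd e) (P : Sylow p G) (D : Subgroup G)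
    (hD : Cfsg.IsStronglyClosed D (P : Subgroup G)) (hc : Cfsg.IsPConstrained p G)
    (hst : LStabOn p (Cfsg.pPrimeCore p G)) : (zjE e D ⊔ Cfsg.pPrimeCore p G).Normal := by
  have hKn : (Cfsg.pPrimeCore p G).Normal := pPrimeCore_normal p G
  have hKc : (Nat.card ↥(Cfsg.pPrimeCore p G)).Coprime p := pPrimeCore_coprime Fact.out G
  have hcon := Cfsg.Agent.Lib.Helper2.pConstrained_centralizer_pCore_le p hc
  have hps := pStab_quotient_of_lStabOn (Cfsg.pPrimeCore p G) hKc hst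
  have hπ := QuotientGroup.mk'_surjective (Cfsg.pPrimeCore p G)
  have hP'idx : ¬ p ∣ ((P : Subgroup G).map (QuotientGroup.mk' (Cfsg.pPrimeCore p G))).index :=
    fun hdiv => P.not_dvd_index (hdiv.trans (Subgroup.index_map_dvd _ hπ))
  have hP'p : IsPGroup p ↥((P : Subgroup G).map (QuotientGroup.mk' (Cfsg.pPrimeCore p G))) :=
    P.isPGroup'.map _
  have hD' := isStronglyClosed_map_mk (Cfsg.pPrimeCore p G) hKc P D P.isPGroup' hD
  have hn := zj_normal hp e he (hP'p.toSylow hP'idx)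
    (D.map (QuotientGroup.mk' (Cfsg.pPrimeCore p G))) (by rw [IsPGroup.toSylow_coe]; exact hD')
    hcon hps
  rw [zjE_map_mk e (Cfsg.pPrimeCore p G) hKc P D P.isPGroup' hD.1] at hn
  have h2 := hn.comap (QuotientGroup.mk' (Cfsg.pPrimeCore p G))
  rw [QuotientGroup.comap_map_mk', sup_comm] at h2
  exact h2

/-- Frattini form: `G = O_{p'}(G) N_G(Ω(Z(J(D))))`. -/
theorem zj_frattini {G : Type u} [Group G] [Finite G] {p : ℕ} [Fact p.Prime] (hp : p ≠ 2)
    (e : ℕ) (he : e = 0 ∨ Odd e) (P : Sylow p G) (D : Subgroup G)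
    (hD : Cfsg.IsStronglyClosed D (P : Subgroup G)) (hc : Cfsg.IsPConstrained p G)
    (hst : LStabOn p (Cfsg.pPrimeCore p G)) :
    Cfsg.pPrimeCore p G ⊔ Subgroup.normalizer (zjE e D : Set G) = ⊤ := by
  have hKn : (Cfsg.pPrimeCore p G).Normal := pPrimeCore_normal p G
  have hKc : (Nat.card ↥(Cfsg.pPrimeCore p G)).Coprime p := pPrimeCore_coprime Fact.out G
  have hn := zj_sup_normal hp e he P D hD hc hst
  have hUP : zjE e D ≤ P := (zjE_le_jE e D).trans ((jE_le e D).trans hD.1)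
  have hUp : IsPGroup p ↥(zjE e D) := P.isPGroup'.to_le hUP
  have hKS : zjE e D ≤ Subgroup.normalizer ((Cfsg.pPrimeCore p G : Subgroup G) : Set G) := by
    rw [Subgroup.normalizer_eq_top]; exact le_top
  have hidx := not_dvd_relIndex_sup (zjE e D) (Cfsg.pPrimeCore p G) hKS hUp hKc
  have hfr := frattini_relIndex (zjE e D ⊔ Cfsg.pPrimeCore p G) (zjE e D) le_sup_left hUp hidx
  rw [← sup_assoc, sup_eq_left.mpr Subgroup.le_normalizer, sup_comm] at hfr
  exact hfr

/-- From membership in `O_p(N(V)/C(V))` to the subgroup `L` used in `LStabOn`. -/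
theorem exists_L_of_mem_pCore {G : Type*} [Group G] [Finite G] {p : ℕ} [Fact p.Prime]
    (V : Subgroup G) (a : G) (ha : a ∈ Subgroup.normalizer (V : Set G))
    (h : (QuotientGroup.mk' ((Subgroup.centralizer (V : Set G)).subgroupOf
        (Subgroup.normalizer (V : Set G)))) ⟨a, ha⟩ ∈
      Cfsg.pCore p (↥(Subgroup.normalizer (V : Set G)) ⧸
        (Subgroup.centralizer (V : Set G)).subgroupOf (Subgroup.normalizer (V : Set G)))) :
    ∃ L : Subgroup G, L ≤ Subgroup.normalizer (V : Set G) ∧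
      Subgroup.normalizer (V : Set G) ≤ Subgroup.normalizer (L : Set G) ∧
      Subgroup.centralizer (V : Set G) ≤ L ∧
      (∀ l ∈ L, ∃ n : ℕ, l ^ p ^ n ∈ Subgroup.centralizer (V : Set G)) ∧ a ∈ L := by
  obtain ⟨L', hL'⟩ : ∃ L' : Subgroup ↥(Subgroup.normalizer (V : Set G)),
      L' = (Cfsg.pCore p (↥(Subgroup.normalizer (V : Set G)) ⧸
        (Subgroup.centralizer (V : Set G)).subgroupOf (Subgroup.normalizer (V : Set G)))).comap
        (QuotientGroup.mk' ((Subgroup.centralizer (V : Set G)).subgroupOf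
          (Subgroup.normalizer (V : Set G)))) := ⟨_, rfl⟩
  have hL'n : L'.Normal := by
    rw [hL']
    exact (pCore_normal p (↥(Subgroup.normalizer (V : Set G)) ⧸
      (Subgroup.centralizer (V : Set G)).subgroupOf (Subgroup.normalizer (V : Set G)))).comap _
  have hLN : L'.map (Subgroup.normalizer (V : Set G)).subtype ≤ Subgroup.normalizer (V : Set G) :=
    Subgroup.map_subtype_le _
  refine ⟨L'.map (Subgroup.normalizer (V : Set G)).subtype, hLN, ?_, ?_, ?_, ?_⟩
  · apply (Subgroup.normal_subgroupOf_iff_le_normalizer hLN).mp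
    have h1 : (L'.map (Subgroup.normalizer (V : Set G)).subtype).subgroupOf
        (Subgroup.normalizer (V : Set G)) = L' :=
      Subgroup.comap_map_eq_self_of_injective (Subgroup.subtype_injective _) _
    rw [h1]; exact hL'n
  · intro c hc
    have hcN : c ∈ Subgroup.normalizer (V : Set G) := Subgroup.centralizer_le_normalizer _ hc
    refine ⟨⟨c, hcN⟩, ?_, rfl⟩
    have h1 : (QuotientGroup.mk' ((Subgroup.centralizer (V : Set G)).subgroupOf
        (Subgroup.normalizer (V : Set G)))) (⟨c, hcN⟩ : ↥(Subgroup.normalizer (V : Set G))) = 1 :=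
      (QuotientGroup.eq_one_iff _).mpr (Subgroup.mem_subgroupOf.mpr hc)
    rw [hL', SetLike.mem_coe, Subgroup.mem_comap, h1]; exact one_mem _
  · rintro _ ⟨l, hl, rfl⟩
    rw [hL'] at hl
    have hl' : (QuotientGroup.mk' ((Subgroup.centralizer (V : Set G)).subgroupOf
        (Subgroup.normalizer (V : Set G)))) l ∈ Cfsg.pCore p _ := hl
    obtain ⟨n, hn⟩ := (pCore_isPGroup p _) ⟨_, hl'⟩
    refine ⟨n, ?_⟩
    have h1 : ((QuotientGroup.mk' ((Subgroup.centralizer (V : Set G)).subgroupOf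
        (Subgroup.normalizer (V : Set G)))) l) ^ p ^ n = 1 := congrArg Subtype.val hn
    rw [← map_pow] at h1
    have h2 := (QuotientGroup.eq_one_iff _).mp h1
    exact Subgroup.mem_subgroupOf.mp h2
  · exact ⟨⟨a, ha⟩, by rw [hL']; exact h, rfl⟩

theorem isPGroup_zpowers_of_pow {G : Type*} [Group G] {p : ℕ} (a : G)
    (ha : ∃ n : ℕ, a ^ p ^ n = 1) : IsPGroup p ↥(Subgroup.zpowers a) := by
  obtain ⟨n, hn⟩ := ha
  rintro ⟨y, hy⟩
  obtain ⟨i, rfl⟩ := Subgroup.mem_zpowers_iff.mp hy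
  refine ⟨n, Subtype.ext ?_⟩
  show (a ^ i) ^ p ^ n = 1
  rw [← zpow_natCast, ← zpow_mul, mul_comm, zpow_mul, zpow_natCast, hn, one_zpow]

/-- The printed `p`-stability gives local `p`-stability relative to `O_{p'}(G)`. -/
theorem lStabOn_of_isPStable {G : Type*} [Group G] [Finite G] {p : ℕ} [Fact p.Prime]
    (hs : Cfsg.IsPStable p G) : LStabOn p (Cfsg.pPrimeCore p G) := by
  intro V hVp hVK a ha hapow hquad
  obtain ⟨-, -, hst⟩ := hs
  have hKn : (Cfsg.pPrimeCore p G).Normal := pPrimeCore_normal p G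
  have hzp : IsPGroup p ↥(Subgroup.zpowers a) := isPGroup_zpowers_of_pow a hapow
  have hnorm : ∀ x ∈ Subgroup.zpowers a, ∀ v ∈ V, x * v * x⁻¹ ∈ V := fun x hx v hv =>
    (Subgroup.mem_normalizer_iff.mp (Subgroup.zpowers_le.mpr ha hx) v).mp hv
  have hVle : V ≤ Cfsg.pPrimePCore p G := by
    have h1 : (V.map (QuotientGroup.mk' (Cfsg.pPrimeCore p G))).Normal := by
      have h0 : V.map (QuotientGroup.mk' (Cfsg.pPrimeCore p G)) =
          (V ⊔ Cfsg.pPrimeCore p G).map (QuotientGroup.mk' (Cfsg.pPrimeCore p G)) := by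
        have hb : (Cfsg.pPrimeCore p G).map (QuotientGroup.mk' (Cfsg.pPrimeCore p G)) = ⊥ := by
          rw [Subgroup.map_eq_bot_iff, QuotientGroup.ker_mk']
        rw [Subgroup.map_sup, hb, sup_bot_eq]
      rw [h0]; exact hVK.map _ (QuotientGroup.mk'_surjective _)
    have h2 := le_pCore h1 (hVp.map _)
    intro v hv
    exact h2 (Subgroup.mem_map_of_mem _ hv)
  have hsupn : (Cfsg.pPrimeCore p G ⊔ V).Normal := by rw [sup_comm]; exact hVK
  have h3 := hst (Subgroup.zpowers a) V hzp hVp hnorm hVle hsupn hquad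
  apply exists_L_of_mem_pCore V a ha
  apply h3
  exact ⟨⟨a, ha⟩, Subgroup.mem_subgroupOf.mpr (Subgroup.mem_zpowers a), rfl⟩

/-- In a local subgroup `H` with `O_{p'}(H) = 1`, `p`-constrained and `p`-stable, `Ω(Z(J(R)))` is
normal for a Sylow `p`-subgroup `R` of `H`. -/
theorem le_normalizer_zj_of_local {G : Type u} [Group G] [Finite G] {p : ℕ} [Fact p.Prime]
    (hp : p ≠ 2) (e : ℕ) (he : e = 0 ∨ Odd e) (H : Subgroup G)
    (hK : Cfsg.pPrimeCore p ↥H = ⊥) (hc : Cfsg.IsPConstrained p ↥H) (hs : Cfsg.IsPStable p ↥H)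
    (R : Subgroup G) (hRH : R ≤ H) (hRp : IsPGroup p ↥R) (hRidx : ¬ p ∣ R.relIndex H) :
    H ≤ Subgroup.normalizer (zjE e R : Set G) := by
  have hR'p : IsPGroup p ↥(R.subgroupOf H) := hRp.comap_subtype
  have hRidx' : ¬ p ∣ (R.subgroupOf H).index := hRidx
  have hD : Cfsg.IsStronglyClosed (R.subgroupOf H)
      (((hR'p.toSylow hRidx' : Sylow p ↥H) : Subgroup ↥H)) := by
    rw [IsPGroup.toSylow_coe]; exact ⟨le_rfl, fun x hx g hg => hg⟩
  have h1 := zj_frattini hp e he (hR'p.toSylow hRidx') (R.subgroupOf H) hD hc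
    (lStabOn_of_isPStable hs)
  rw [hK, bot_sup_eq] at h1
  have h2 := zjE_map_inj e H.subtype H.subtype_injective (R.subgroupOf H)
  rw [Subgroup.map_subgroupOf_eq_of_le hRH] at h2
  intro h hh
  rw [h2]
  apply Subgroup.le_normalizer_map H.subtype
  refine ⟨⟨h, hh⟩, ?_, rfl⟩
  rw [h1]; exact Subgroup.mem_top _

/-- In a group of characteristic `p` type with `p`-stable `p`-locals, `N_G(Z(J(P)))` contains
every `p`-local `N_G(Q)`, `1 ≠ Q ≤ P`. -/
theorem normalizer_le_normalizer_zj {G : Type u} [Group G] [Finite G] {p : ℕ} [Fact p.Prime]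
    (hp : p ≠ 2)
    (hloc : ∀ Q : Subgroup G, IsPGroup p Q → Q ≠ ⊥ →
      Cfsg.pPrimeCore p ↥(Subgroup.normalizer (Q : Set G)) = ⊥ ∧
        Cfsg.IsPConstrained p ↥(Subgroup.normalizer (Q : Set G)) ∧
        Cfsg.IsPStable p ↥(Subgroup.normalizer (Q : Set G)))
    (P : Sylow p G) :
    ∀ k : ℕ, ∀ Q : Subgroup G, Q ≤ (P : Subgroup G) → Q ≠ ⊥ →
      Nat.card ↥(P : Subgroup G) -
        Nat.card ↥((P : Subgroup G) ⊓ Subgroup.normalizer (Q : Set G)) < k →
      Subgroup.normalizer (Q : Set G) ≤ Subgroup.normalizer (zjE 0 (P : Subgroup G) : Set G) := by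
  classical
  have hW := zjFun_isCharPFunctor.{u} p 0 (Or.inl rfl)
  have hconj := isConjugacyFunctor_inducedFunctor hW G
  have hzj : ∀ R : Subgroup G, Cfsg.inducedFunctor (zjFun.{u} 0) R = zjE 0 R :=
    inducedFunctor_zjFun 0
  intro k
  induction k with
  | zero => intro Q _ _ h; exact absurd h (Nat.not_lt_zero _)
  | succ k ih =>
    intro Q hQP hQ hk
    have hQp : IsPGroup p ↥Q := P.isPGroup'.to_le hQP
    obtain ⟨hK, hc, hs⟩ := hloc Q hQp hQ
    obtain ⟨H, hH⟩ : ∃ H : Subgroup G, H = Subgroup.normalizer (Q : Set G) := ⟨_, rfl⟩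
    rw [← hH] at hk hK hc hs ⊢
    obtain ⟨R₀, hR₀⟩ : ∃ R₀ : Subgroup G, R₀ = (P : Subgroup G) ⊓ H := ⟨_, rfl⟩
    rw [← hR₀] at hk
    have hR₀P : R₀ ≤ P := by rw [hR₀]; exact inf_le_left
    have hR₀H : R₀ ≤ H := by rw [hR₀]; exact inf_le_right
    have hR₀p : IsPGroup p ↥R₀ := P.isPGroup'.to_le hR₀P
    have hQR₀ : Q ≤ R₀ := by rw [hR₀, hH]; exact le_inf hQP Subgroup.le_normalizer
    by_cases hRP : R₀ = P
    · have hPH : (P : Subgroup G) ≤ H := by rw [← hRP]; exact hR₀H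
      have hidx : ¬ p ∣ (P : Subgroup G).relIndex H := fun hdiv =>
        P.not_dvd_index (hdiv.trans (Subgroup.relIndex_dvd_index_of_le hPH))
      exact le_normalizer_zj_of_local hp 0 (Or.inl rfl) H hK hc hs P hPH P.isPGroup' hidx
    · have hc1 := card_lt_card_normalizer_inf P.isPGroup' R₀ hR₀P hRP
      have hR₀ne : R₀ ≠ ⊥ := fun h0 => hQ (le_bot_iff.mp (h0 ▸ hQR₀))
      have hcP := Subgroup.card_le_of_le
        (inf_le_left : (P : Subgroup G) ⊓ Subgroup.normalizer (R₀ : Set G) ≤ P)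
      have hNR₀ : Subgroup.normalizer (R₀ : Set G) ≤
          Subgroup.normalizer (zjE 0 (P : Subgroup G) : Set G) := ih R₀ hR₀P hR₀ne (by omega)
      have hR₀'p : IsPGroup p ↥(R₀.subgroupOf H) := hR₀p.comap_subtype
      obtain ⟨S, hS⟩ := hR₀'p.exists_le_sylow
      obtain ⟨R, hR⟩ : ∃ R : Subgroup G, R = (S : Subgroup ↥H).map H.subtype := ⟨_, rfl⟩
      have hRH : R ≤ H := by rw [hR]; exact Subgroup.map_subtype_le _
      have hRp : IsPGroup p ↥R := by rw [hR]; exact S.isPGroup'.map _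
      have hRidx : ¬ p ∣ R.relIndex H := by
        rw [hR, relIndex_map_subtype_self]; exact S.not_dvd_index
      have hR₀R : R₀ ≤ R := by
        intro x hx
        rw [hR]
        exact ⟨⟨x, hR₀H hx⟩, hS (Subgroup.mem_subgroupOf.mpr hx), rfl⟩
      by_cases hRR : R₀ = R
      · have h1 := le_normalizer_zj_of_local hp 0 (Or.inl rfl) H hK hc hs R₀ hR₀H hR₀p
          (by rw [hRR]; exact hRidx)
        have hU := hconj R₀ hR₀p
        rw [hzj] at hU
        have hUP : zjE 0 R₀ ≤ P := hU.1.trans hR₀P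
        have hUne : zjE 0 R₀ ≠ ⊥ := hU.2.1 hR₀ne
        have hNN : Subgroup.normalizer (R₀ : Set G) ≤ Subgroup.normalizer (zjE 0 R₀ : Set G) := by
          have := normalizer_le_normalizer_functor _ hconj R₀ hR₀p
          rwa [hzj] at this
        have hc2 := Subgroup.card_le_of_le (inf_le_inf_left (P : Subgroup G) hNN)
        have hcP2 := Subgroup.card_le_of_le
          (inf_le_left : (P : Subgroup G) ⊓ Subgroup.normalizer (zjE 0 R₀ : Set G) ≤ P)
        exact h1.trans (ih (zjE 0 R₀) hUP hUne (by omega))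
      · have hc3 := card_lt_card_normalizer_inf hRp R₀ hR₀R hRR
        obtain ⟨R₁, hR₁⟩ : ∃ R₁ : Subgroup G, R₁ = R ⊓ Subgroup.normalizer (R₀ : Set G) :=
          ⟨_, rfl⟩
        rw [← hR₁] at hc3
        have hR₁p : IsPGroup p ↥R₁ := by rw [hR₁]; exact hRp.to_le inf_le_left
        have hR₁M : R₁ ≤ Subgroup.normalizer (zjE 0 (P : Subgroup G) : Set G) := by
          rw [hR₁]; exact inf_le_right.trans hNR₀
        have hR₁H : R₁ ≤ H := by rw [hR₁]; exact inf_le_left.trans hRH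
        have hPM : (P : Subgroup G) ≤ Subgroup.normalizer (zjE 0 (P : Subgroup G) : Set G) := by
          have := (Subgroup.le_normalizer).trans
            (normalizer_le_normalizer_functor _ hconj P P.isPGroup')
          rwa [hzj] at this
        have hidxM : ¬ p ∣ (P : Subgroup G).relIndex
            (Subgroup.normalizer (zjE 0 (P : Subgroup G) : Set G)) := fun hdiv =>
          P.not_dvd_index (hdiv.trans (Subgroup.relIndex_dvd_index_of_le hPM))
        obtain ⟨n, hnM, hn⟩ := exists_conj_mem_of_relIndex (P : Subgroup G) _ R₁ P.isPGroup'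
          hidxM hR₁p hR₁M
        obtain ⟨Q', hQ'⟩ : ∃ Q' : Subgroup G, Q' = Q.map (MulAut.conj n).toMonoidHom := ⟨_, rfl⟩
        have hR₀R₁ : R₀ ≤ R₁ := by rw [hR₁]; exact le_inf hR₀R Subgroup.le_normalizer
        have hQ'P : Q' ≤ P := by
          rw [hQ']
          rintro _ ⟨q, hq, rfl⟩
          exact hn q (hR₀R₁ (hQR₀ hq))
        have hQ'ne : Q' ≠ ⊥ := by
          rw [hQ']
          intro h0
          exact hQ ((Subgroup.map_eq_bot_iff_of_injective _ (MulAut.conj n).injective).mp h0)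
        have hNQ' : Subgroup.normalizer (Q' : Set G) = H.map (MulAut.conj n).toMonoidHom := by
          rw [hQ', normalizer_map_conj, hH]
        have hle : R₁.map (MulAut.conj n).toMonoidHom ≤
            (P : Subgroup G) ⊓ Subgroup.normalizer (Q' : Set G) := by
          apply le_inf
          · rintro _ ⟨x, hx, rfl⟩; exact hn x hx
          · rw [hNQ']; exact Subgroup.map_mono hR₁H
        have hc4 := Subgroup.card_le_of_le hle
        rw [card_map_conj] at hc4
        have hcP3 := Subgroup.card_le_of_le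
          (inf_le_left : (P : Subgroup G) ⊓ Subgroup.normalizer (Q' : Set G) ≤ P)
        have h5 := ih Q' hQ'P hQ'ne (by omega)
        rw [hNQ'] at h5
        intro h hh
        have h6 := h5 (Subgroup.mem_map_of_mem _ hh)
        have h7 : h = n⁻¹ * ((MulAut.conj n).toMonoidHom h) * n := by
          show h = n⁻¹ * (n * h * n⁻¹) * n
          group
        rw [h7]; exact mul_mem (mul_mem (inv_mem hnM) h6) hnM

end Cfsg.Agent.Lib.Helper3
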